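import Cfsg.Agent.Mrg.Omega.NO3S.Fit.AbsNat
import Cfsg.Agent.MinSimple.Dihedral
import Cfsg.Agent.Mrg.Omega.NO3S.Fit.Char
import Cfsg.Agent.Mrg.Omega.NO3S.Fit.GlueFive
import Cfsg.Agent.Mrg.Omega.CaseL.Base
import Cfsg.Agent.Mrg.Omega.NO3S.TwoOne.Main
import Cfsg.Agent.Mrg.Omega.NO3S.Fit.FourTwo
import Cfsg.Agent.Mrg.Omega.NO3S.Fit.AbsMain
import Cfsg.Agent.Mrg.Omega.NO3S.TwoOne.Three

-- merged: Cfsg.Agent.Mrg.Omega.NO3S.Fit.KbigAbs
section

section


/-!
# Text #13963 (helper311), (3.4): the module part of `k ≥ 2`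

`H` acts faithfully on the elementary abelian 2-group `M`; `A ≤ H` is quadratic on `M`, elementary abelian of order
`≥ 4`, faithful on a nilpotent group `F` of odd order; `M1 ≤ M` has index `≤ |A|` and `[M1, a] ≤ ⟨v0⟩` for `a ∈ A`.

* `TvB A n a b m`: `a j` is a basis of `A` consisting of transvections with the independent centres `b j`, `m j` is
  the dual basis of `M / C_M(A)`;
* `exists_tvb`: it exists, and `M1 = C_M(A)`;
* `TvB.smul_cen`: the normaliser of `A` permutes the `b j`;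
* `TvB.sum_eq`, `TvB.trans`, `TvB.even`: if `v0` is the only nonzero `T`-fixed vector of `[M,A]`, `T` a 2-group, then
  `v0 = ∑ b j`, `T` is transitive on the `b j`, `n` is even.
-/

set_option autoImplicit false
set_option linter.unusedSectionVars false

open scoped Pointwise

namespace Cfsg.Agent.Omega.NO3S.Fit.Abs

section Big

variable {H M : Type*} [Group H] [AddCommGroup M] [DistribMulAction H M]

/-- a basis of transvections -/
structure TvB (A : Subgroup H) (n : ℕ) (a : Fin n → H) (b m : Fin n → M) : Prop where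
  cl : A = Subgroup.closure (Set.range a)
  mem : ∀ j, a j ∈ A
  tv : ∀ j (k : M), a j • k = k ∨ a j • k = k + b j
  dual : ∀ j, a j • m j = m j + b j
  dual' : ∀ i j, i ≠ j → a i • m j = m j
  ind : ∀ S : Finset (Fin n), ∑ j ∈ S, b j = 0 → S = ∅

/-- **(3.4), module part** -/
theorem exists_tvb [Finite H] [Finite M] [FaithfulSMul H M] (two : ∀ m : M, m + m = 0) {v0 : M}
    {A F : Subgroup H} (hA : ∀ a ∈ A, a * a = 1)
    (hq : ∀ a ∈ A, ∀ b ∈ A, ∀ m : M, a • (b • m - m) = b • m - m)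
    (hnil : Group.IsNilpotent F) (hF : Odd (Nat.card F)) (hAF : A ≤ Subgroup.normalizer (F : Set H))
    (hf : ∀ b ∈ A, (∀ f ∈ F, b * f = f * b) → b = 1) (hk : 2 < Nat.card A)
    (CP : ∀ x ∈ F, x • v0 = v0 → ∀ a ∈ A, a * x * a⁻¹ = x⁻¹ → x = 1)
    (M1 : AddSubgroup M) (hM1 : M1.index ≤ Nat.card A)
    (hM1' : ∀ m ∈ M1, ∀ a ∈ A, a • m = m ∨ a • m = m + v0) :
    ∃ (n : ℕ) (a : Fin n → H) (b m : Fin n → M), 2 ≤ n ∧ TvB A n a b m ∧
      ∀ k : M, k ∈ M1 ↔ ∀ a ∈ A, a • k = k := by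
  classical
  obtain ⟨n, a, x, hcard, hcl, ha, hx, hp, hinv, hfix, hcomm, heig⟩ :=
    MinSimple.Dihedral.exists_dihedral A F hA hnil hF hAF hf
  have hn : 2 ≤ n := by
    by_contra hcon
    have h1 : n ≤ 1 := by omega
    have h2 : (2 : ℕ) ^ n ≤ 2 ^ 1 := Nat.pow_le_pow_right (by norm_num) h1
    omega
  have hodd : ∀ j, Odd (orderOf (x j)) := by
    intro j
    refine Odd.of_dvd_nat hF ?_
    have := orderOf_dvd_natCard (⟨x j, hx j⟩ : F)
    rwa [Subgroup.orderOf_mk] at this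
  have hxne : ∀ j, x j ≠ 1 := by
    intro j e
    have := hp j
    rw [e, orderOf_one] at this
    exact Nat.not_prime_one this
  have haa : ∀ j, a j * a j = 1 := fun j => hA _ (ha j)
  have ht : ∀ i j, i ≠ j → ∀ k ∈ br M (x j), a i • k = k := fun i j hij k hk =>
    triv_on_br two (hodd j) (hinv j) (hq _ (ha j) _ (ha i)) (hfix i j hij) hk
  have hxt : ∀ i j, i ≠ j → ∀ k ∈ br M (x j), x i • k = k := by
    intro i j hij k hk
    have h1 : x i • k ∈ br M (x j) := smul_mem_br_of_comm (hcomm i j) hk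
    have h2 := ht i j hij _ h1
    have h3 := inv_smul_of_inv (hinv i) (ht i j hij k hk)
    rw [h2] at h3
    refine fix_of_sq (hodd i) ?_
    rw [h3, smul_inv_smul]
  have hv0 : ∀ j, x j • v0 ≠ v0 := fun j e => hxne j (CP _ (hx j) e _ (ha j) (hinv j))
  have hM1c : ∀ k ∈ M1, ∀ i, a i • k = k := by
    intro k hk i
    obtain ⟨j, hij⟩ : ∃ j : Fin n, i ≠ j := by
      by_contra hcon
      push Not at hcon
      have h0 := hcon ⟨0, by omega⟩
      have h1 := hcon ⟨1, by omega⟩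
      rw [h0] at h1
      exact absurd (congrArg Fin.val h1) (by norm_num)
    rcases hM1' k hk (a i) (ha i) with e | e
    · exact e
    exfalso
    obtain ⟨d, hd, c, hc, e1⟩ := exists_decomp two (hodd j) k
    have h1 : a i • c = c + v0 := by
      rw [← e1, smul_add, ht i j hij d hd] at e
      have : d + a i • c = d + (c + v0) := by rw [e]; abel
      exact add_left_cancel this
    have h2 : a i • c ∈ fx M (x j) := smul_mem_fx_of_comm (hfix i j hij) hc
    have h3 : v0 ∈ fx M (x j) := by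
      have : v0 = a i • c - c := by rw [h1]; abel
      rw [this]
      exact sub_mem h2 hc
    exact hv0 j h3
  -- the map `Φ`
  let Φ : M →+ (Fin n → M) :=
    { toFun := fun k j => a j • k - k
      map_zero' := by ext j; simp
      map_add' := fun k l => by ext j; simp only [smul_add, Pi.add_apply]; abel }
  have hΦ : ∀ k j, Φ k j = a j • k - k := fun k j => rfl
  have hker : M1 ≤ Φ.ker := by
    intro k hk
    rw [AddMonoidHom.mem_ker]
    ext j
    rw [hΦ, hM1c k hk j, sub_self]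
    rfl
  have hrange : Nat.card Φ.range ≤ 2 ^ n := by
    rw [← AddSubgroup.index_ker, ← hcard]
    refine le_trans ?_ hM1
    exact AddSubgroup.index_antitone hker
  -- the groups `C_j`
  have hsurj : ∀ j, ∀ c ∈ cx M (a j) (x j), ∃ d ∈ br M (x j), a j • d - d = c := fun j c hc =>
    cx_le_br two (haa j) (hodd j) (hinv j) hc
  have hsol : ∀ f : (j : Fin n) → cx M (a j) (x j), ∃ k : M, ∀ j, Φ k j = f j := by
    intro f
    choose d hd hd' using fun j => hsurj j (f j) (f j).2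
    refine ⟨∑ j, d j, fun i => ?_⟩
    rw [hΦ, Finset.smul_sum, ← Finset.sum_sub_distrib, Finset.sum_eq_single i]
    · exact hd' i
    · intro j _ hji
      rw [ht i j hji.symm _ (hd j), sub_self]
    · intro h; exact absurd (Finset.mem_univ i) h
  let g : ((j : Fin n) → cx M (a j) (x j)) → Φ.range := fun f =>
    ⟨fun j => (f j : M), by
      obtain ⟨k, hk⟩ := hsol f
      exact ⟨k, funext hk⟩⟩
  have hg : Function.Injective g := by
    intro f f' h
    funext j
    have h1 := congrArg (fun r : Φ.range => (r : Fin n → M) j) h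
    exact Subtype.ext h1
  have hprod : ∏ j, Nat.card (cx M (a j) (x j)) ≤ Nat.card Φ.range := by
    rw [← Nat.card_pi]
    exact Nat.card_le_card_of_injective g hg
  have hge : ∀ j, 2 ≤ Nat.card (cx M (a j) (x j)) := by
    intro j
    have h1 := (card_br_eq (M := M) two (haa j) (hodd j) (hinv j)).1
    have h2 : br M (x j) ≠ ⊥ := ne_zero_of_br (hxne j)
    have h3 : 1 < Nat.card (br M (x j)) := AddSubgroup.one_lt_card_iff_ne_bot _ |>.mpr h2
    by_contra hcon
    have h4 : Nat.card (cx M (a j) (x j)) ≤ 1 := by omega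
    have h5 : Nat.card (cx M (a j) (x j)) * Nat.card (cx M (a j) (x j)) ≤ 1 * 1 := Nat.mul_le_mul h4 h4
    omega
  have heq2 : ∀ j, Nat.card (cx M (a j) (x j)) = 2 := by
    by_contra hcon
    push Not at hcon
    obtain ⟨i, hi⟩ := hcon
    have h1 : ∏ _j : Fin n, 2 < ∏ j, Nat.card (cx M (a j) (x j)) := by
      refine Finset.prod_lt_prod (fun _ _ => by norm_num) (fun j _ => hge j) ⟨i, Finset.mem_univ i, ?_⟩
      have := hge i
      omega
    rw [Finset.prod_const, Finset.card_univ, Fintype.card_fin] at h1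
    omega
  have hprod2 : ∏ j, Nat.card (cx M (a j) (x j)) = 2 ^ n := by
    rw [Finset.prod_congr rfl fun j _ => heq2 j, Finset.prod_const, Finset.card_univ, Fintype.card_fin]
  have hrange' : Nat.card Φ.range = 2 ^ n := le_antisymm hrange (by rw [← hprod2]; exact hprod)
  have hbij : Function.Bijective g :=
    (Nat.bijective_iff_injective_and_card g).mpr ⟨hg, by rw [Nat.card_pi, hprod2, hrange']⟩
  have hall : ∀ k j, a j • k - k ∈ cx M (a j) (x j) := by
    intro k j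
    obtain ⟨f, hf'⟩ := hbij.2 ⟨Φ k, ⟨k, rfl⟩⟩
    have h1 : (f j : M) = Φ k j := congrArg (fun r : Φ.range => (r : Fin n → M) j) hf'
    rw [← hΦ, ← h1]
    exact (f j).2
  have hb : ∀ j, ∃ b ∈ cx M (a j) (x j), b ≠ 0 ∧ ∀ c ∈ cx M (a j) (x j), c = 0 ∨ c = b := by
    intro j
    obtain ⟨b, hb, hb0⟩ := exists_ne_zero_of_card (B := cx M (a j) (x j)) (by rw [heq2 j]; norm_num)
    refine ⟨b, hb, hb0, fun c hc => ?_⟩
    by_contra hcon
    push Not at hcon
    have h1 : (({0, b, c} : Finset M) : Set M) ⊆ (cx M (a j) (x j) : Set M) := by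
      intro y hy
      simp only [Finset.coe_insert, Finset.coe_singleton, Set.mem_insert_iff, Set.mem_singleton_iff] at hy
      rcases hy with rfl | rfl | rfl
      · exact zero_mem _
      · exact hb
      · exact hc
    have h2 := Set.ncard_le_ncard h1 (Set.toFinite _)
    rw [Set.ncard_coe_finset] at h2
    have h3 : Set.ncard (cx M (a j) (x j) : Set M) = 2 := by
      rw [← heq2 j]; exact (Nat.card_coe_set_eq _).symm
    have h4 : ({0, b, c} : Finset M).card = 3 := by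
      rw [Finset.card_insert_of_notMem, Finset.card_insert_of_notMem, Finset.card_singleton]
      · simpa using fun e => hcon.2 e.symm
      · simpa [hb0.symm] using fun e : (0 : M) = c => hcon.1 e.symm
    omega
  choose b hbc hb0 hbb using hb
  choose m hm hmb using fun j => hsurj j (b j) (hbc j)
  refine ⟨n, a, b, m, hn, ⟨hcl, ha, ?_, ?_, ?_, ?_⟩, ?_⟩
  · intro j k
    rcases hbb j _ (hall k j) with e | e
    · exact Or.inl (sub_eq_zero.mp e)
    · right
      rw [← e]; abel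
  · intro j
    rw [← hmb j]; abel
  · intro i j hij
    exact ht i j hij _ (hm j)
  · intro S hS
    by_contra hne
    obtain ⟨i, hi⟩ := Finset.nonempty_iff_ne_empty.mpr hne
    apply hb0 i
    refine br_inf_fx two (hodd i) (hbc i).1 ?_
    have h1 : x i • (∑ j ∈ S, b j) = ∑ j ∈ S, b j := by rw [hS, smul_zero]
    rw [Finset.smul_sum, ← Finset.add_sum_erase S _ hi, ← Finset.add_sum_erase S b hi] at h1
    have h2 : ∑ j ∈ S.erase i, x i • b j = ∑ j ∈ S.erase i, b j := by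
      refine Finset.sum_congr rfl fun j hj => ?_
      exact hxt i j (Finset.ne_of_mem_erase hj).symm _ (hbc j).1
    rw [h2] at h1
    exact add_right_cancel h1
  · have hi : Φ.ker ≤ M1 := by
      have h1 : Φ.ker.index = 2 ^ n := by rw [AddSubgroup.index_ker, hrange']
      have h2 := AddSubgroup.relIndex_mul_index hker
      rw [h1] at h2
      have h3 : M1.index ≤ 2 ^ n := by rw [← hcard]; exact hM1
      have h4 : 0 < 2 ^ n := by positivity
      have h5 : M1.relIndex Φ.ker ≤ 1 := by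
        by_contra hcon
        have h6 : 2 ≤ M1.relIndex Φ.ker := by omega
        have h7 := Nat.mul_le_mul_right (2 ^ n) h6
        omega
      have h6 : M1.relIndex Φ.ker ≠ 0 := by
        intro h7
        rw [h7, zero_mul] at h2
        exact AddSubgroup.FiniteIndex.index_ne_zero h2.symm
      have h7 : M1.relIndex Φ.ker = 1 := by omega
      exact AddSubgroup.relIndex_eq_one.mp h7
    intro k
    constructor
    · intro hk c hc
      have h1 : Subgroup.closure (Set.range a) ≤ MulAction.stabilizer H k := by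
        rw [Subgroup.closure_le]
        rintro _ ⟨j, rfl⟩
        exact hM1c k hk j
      rw [hcl] at hc
      exact h1 hc
    · intro h
      apply hi
      rw [AddMonoidHom.mem_ker]
      ext j
      rw [hΦ, h _ (ha j), sub_self]
      rfl

namespace TvB

variable {A : Subgroup H} {n : ℕ} {a : Fin n → H} {b m : Fin n → M}

theorem ne_zero (B : TvB A n a b m) (j : Fin n) : b j ≠ 0 := by
  intro e
  have := B.ind {j} (by rw [Finset.sum_singleton, e])
  exact absurd this (Finset.singleton_ne_empty j)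

theorem inj (B : TvB A n a b m) (two : ∀ m : M, m + m = 0) : Function.Injective b := by
  classical
  intro i j e
  by_contra hij
  have := B.ind {i, j} (by rw [Finset.sum_pair hij, e, two])
  exact absurd this (Finset.insert_ne_empty _ _)

/-- the vectors fixed by all `a j` are the vectors fixed by `A` -/
theorem fix_of (B : TvB A n a b m) {k : M} (h : ∀ j, a j • k = k) : ∀ c ∈ A, c • k = k := by
  intro c hc
  have h1 : Subgroup.closure (Set.range a) ≤ MulAction.stabilizer H k := by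
    rw [Subgroup.closure_le]
    rintro _ ⟨j, rfl⟩
    exact h j
  rw [B.cl] at hc
  exact h1 hc

/-- every vector is the sum of some `m j` and of a vector fixed by `A` -/
theorem exists_dec (B : TvB A n a b m) (k : M) :
    ∃ (S : Finset (Fin n)) (c : M), (∀ g ∈ A, g • c = c) ∧ k = ∑ j ∈ S, m j + c := by
  classical
  refine ⟨Finset.univ.filter fun j => a j • k ≠ k, k - ∑ j ∈ Finset.univ.filter (fun j => a j • k ≠ k), m j,
    B.fix_of fun i => ?_, by abel⟩
  set S := Finset.univ.filter fun j => a j • k ≠ k with hS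
  rw [smul_sub, Finset.smul_sum]
  by_cases hi : a i • k = k
  · rw [hi]
    congr 1
    refine Finset.sum_congr rfl fun j hj => B.dual' i j ?_
    rintro rfl
    rw [hS, Finset.mem_filter] at hj
    exact hj.2 hi
  · have hiS : i ∈ S := by rw [hS, Finset.mem_filter]; exact ⟨Finset.mem_univ i, hi⟩
    rw [(B.tv i k).resolve_left hi, ← Finset.add_sum_erase S _ hiS, ← Finset.add_sum_erase S m hiS, B.dual]
    have h2 : ∑ j ∈ S.erase i, a i • m j = ∑ j ∈ S.erase i, m j := by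
      refine Finset.sum_congr rfl fun j hj => B.dual' i j (Finset.ne_of_mem_erase hj).symm
    rw [h2]; abel

/-- an element of `A` fixing all `m j` is trivial -/
theorem eq_one [FaithfulSMul H M] (B : TvB A n a b m) {c : H} (hc : c ∈ A) (h : ∀ j, c • m j = m j) :
    c = 1 := by
  refine FaithfulSMul.eq_of_smul_eq_smul (α := M) fun k => ?_
  obtain ⟨S, d, hd, rfl⟩ := B.exists_dec k
  rw [one_smul, smul_add, hd c hc, Finset.smul_sum, Finset.sum_congr rfl fun j _ => h j]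

/-- `c (m j) ∈ {m j, m j + b j}` for `c ∈ A` -/
theorem all (B : TvB A n a b m) (hq : ∀ a ∈ A, ∀ b ∈ A, ∀ m : M, a • (b • m - m) = b • m - m)
    (two : ∀ m : M, m + m = 0) {c : H} (hc : c ∈ A) (j : Fin n) :
    (c • m j = m j ∨ c • m j = m j + b j) ∧ c • b j = b j := by
  have hb : b j = a j • m j - m j := by rw [B.dual]; abel
  have hcb : ∀ c ∈ A, c • b j = b j := by
    intro c hc
    rw [hb]
    exact hq c hc _ (B.mem j) _
  refine ⟨?_, hcb c hc⟩
  rw [B.cl] at hc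
  induction hc using Subgroup.closure_induction with
  | mem x hx =>
    obtain ⟨i, rfl⟩ := hx
    by_cases hij : i = j
    · rw [hij]; exact Or.inr (B.dual j)
    · exact Or.inl (B.dual' i j hij)
  | one => exact Or.inl (one_smul _ _)
  | mul x y hx hy ihx ihy =>
    have hx' : x ∈ A := by rw [B.cl]; exact hx
    rw [mul_smul]
    rcases ihy with e | e
    · rw [e]; exact ihx
    · rw [e, smul_add, hcb x hx']
      rcases ihx with e' | e'
      · right; rw [e']
      · left; rw [e', add_assoc, two, add_zero]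
  | inv x hx ih =>
    have hx' : x ∈ A := by rw [B.cl]; exact hx
    rcases ih with e | e
    · left; rw [inv_smul_eq_iff, e]
    · right; rw [inv_smul_eq_iff, smul_add, e, hcb x hx', add_assoc, two, add_zero]

/-- the normaliser of `A` permutes the centres -/
theorem smul_cen [FaithfulSMul H M] (B : TvB A n a b m)
    (hq : ∀ a ∈ A, ∀ b ∈ A, ∀ m : M, a • (b • m - m) = b • m - m) (two : ∀ m : M, m + m = 0)
    {t : H} (ht : ∀ c ∈ A, t * c * t⁻¹ ∈ A) (j : Fin n) : ∃ i, t • b j = b i := by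
  have hne : t * a j * t⁻¹ ≠ 1 := by
    intro e
    have h1 : a j = 1 := conj_eq_one_iff.mp e
    have h2 := B.dual j
    rw [h1, one_smul, left_eq_add] at h2
    exact B.ne_zero j h2
  have hmem := ht _ (B.mem j)
  obtain ⟨i, hi⟩ : ∃ i, (t * a j * t⁻¹) • m i ≠ m i := by
    by_contra hcon
    push Not at hcon
    exact hne (B.eq_one hmem hcon)
  refine ⟨i, ?_⟩
  have h1 := (B.all hq two hmem i).1.resolve_left hi
  have h2 : (t * a j * t⁻¹) • m i = t • (a j • (t⁻¹ • m i)) := by rw [mul_smul, mul_smul]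
  rcases B.tv j (t⁻¹ • m i) with e | e
  · exfalso
    apply hi
    rw [h2, e, smul_inv_smul]
  · rw [h2, e, smul_add, smul_inv_smul] at h1
    exact add_left_cancel h1

/-- the orbits of `T` on the centres -/
theorem orbit_sum [FaithfulSMul H M] (B : TvB A n a b m)
    (hq : ∀ a ∈ A, ∀ b ∈ A, ∀ m : M, a • (b • m - m) = b • m - m) (two : ∀ m : M, m + m = 0)
    {T : Subgroup H} (hTA : ∀ t ∈ T, ∀ c ∈ A, t * c * t⁻¹ ∈ A) {v0 : M}
    (FIX : ∀ k ∈ brs M A, k ≠ 0 → (∀ t ∈ T, t • k = k) → k = v0) (i : Fin n) (S : Finset (Fin n))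
    (hS : ∀ j, j ∈ S ↔ ∃ t ∈ T, t • b i = b j) : ∑ j ∈ S, b j = v0 := by
  classical
  have hiS : i ∈ S := (hS i).mpr ⟨1, one_mem _, one_smul _ _⟩
  refine FIX _ ?_ ?_ ?_
  · refine AddSubgroup.sum_mem _ fun j _ => br_le_brs (B.mem j) ?_
    exact ⟨m j, by rw [B.dual]; abel⟩
  · intro e
    have := B.ind S e
    rw [this] at hiS
    exact absurd hiS (Finset.notMem_empty i)
  · intro t ht
    rw [Finset.smul_sum]
    choose f hf using fun j => B.smul_cen hq two (hTA t ht) j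
    refine Finset.sum_bij (fun j _ => f j) ?_ ?_ ?_ ?_
    · intro j hj
      obtain ⟨s, hs, e⟩ := (hS j).mp hj
      exact (hS _).mpr ⟨t * s, mul_mem ht hs, by rw [mul_smul, e, hf]⟩
    · intro j _ j' _ e
      apply B.inj two
      have h1 : t • b j = t • b j' := by rw [hf, hf, e]
      exact smul_left_cancel t h1
    · intro j hj
      obtain ⟨s, hs, e⟩ := (hS j).mp hj
      obtain ⟨j', hj'⟩ := B.smul_cen hq two (hTA t⁻¹ (inv_mem ht)) j
      refine ⟨j', (hS _).mpr ⟨t⁻¹ * s, mul_mem (inv_mem ht) hs, by rw [mul_smul, e, hj']⟩, ?_⟩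
      apply B.inj two
      rw [← hf, ← hj', smul_inv_smul]
    · intro j _
      exact hf j

/-- `T` is transitive on the centres -/
theorem trans [FaithfulSMul H M] (B : TvB A n a b m)
    (hq : ∀ a ∈ A, ∀ b ∈ A, ∀ m : M, a • (b • m - m) = b • m - m) (two : ∀ m : M, m + m = 0)
    {T : Subgroup H} (hTA : ∀ t ∈ T, ∀ c ∈ A, t * c * t⁻¹ ∈ A) {v0 : M}
    (FIX : ∀ k ∈ brs M A, k ≠ 0 → (∀ t ∈ T, t • k = k) → k = v0) (i j : Fin n) :
    ∃ t ∈ T, t • b i = b j := by
  classical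
  by_contra hcon
  let O : Fin n → Finset (Fin n) := fun i => Finset.univ.filter fun j => ∃ t ∈ T, t • b i = b j
  have hO : ∀ i j, j ∈ O i ↔ ∃ t ∈ T, t • b i = b j := fun i j => by simp [O]
  have h1 := B.orbit_sum hq two hTA FIX i (O i) (hO i)
  have h2 := B.orbit_sum hq two hTA FIX j (O j) (hO j)
  have hdis : Disjoint (O i) (O j) := by
    rw [Finset.disjoint_left]
    intro l hl hl'
    obtain ⟨s, hs, e⟩ := (hO i l).mp hl
    obtain ⟨s', hs', e'⟩ := (hO j l).mp hl'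
    apply hcon
    refine ⟨s'⁻¹ * s, mul_mem (inv_mem hs') hs, ?_⟩
    rw [mul_smul, e, ← e', inv_smul_smul]
  have h3 : ∑ l ∈ O i ∪ O j, b l = 0 := by
    rw [Finset.sum_union hdis, h1, h2, two]
  have h4 := B.ind _ h3
  have h5 : i ∈ O i := (hO i i).mpr ⟨1, one_mem _, one_smul _ _⟩
  have h6 : i ∈ O i ∪ O j := Finset.mem_union_left _ h5
  rw [h4] at h6
  exact absurd h6 (Finset.notMem_empty i)

/-- `v0` is the sum of the centres -/
theorem sum_eq [FaithfulSMul H M] (B : TvB A n a b m)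
    (hq : ∀ a ∈ A, ∀ b ∈ A, ∀ m : M, a • (b • m - m) = b • m - m) (two : ∀ m : M, m + m = 0)
    {T : Subgroup H} (hTA : ∀ t ∈ T, ∀ c ∈ A, t * c * t⁻¹ ∈ A) {v0 : M}
    (FIX : ∀ k ∈ brs M A, k ≠ 0 → (∀ t ∈ T, t • k = k) → k = v0) (hn : 0 < n) :
    ∑ j, b j = v0 :=
  B.orbit_sum hq two hTA FIX ⟨0, hn⟩ Finset.univ fun j =>
    ⟨fun _ => B.trans hq two hTA FIX _ j, fun _ => Finset.mem_univ j⟩

/-- `n` is even -/
theorem even [Finite M] [FaithfulSMul H M] (B : TvB A n a b m)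
    (hq : ∀ a ∈ A, ∀ b ∈ A, ∀ m : M, a • (b • m - m) = b • m - m) (two : ∀ m : M, m + m = 0)
    {T : Subgroup H} (hT : IsPGroup 2 T) (hTA : ∀ t ∈ T, ∀ c ∈ A, t * c * t⁻¹ ∈ A) {v0 : M}
    (FIX : ∀ k ∈ brs M A, k ≠ 0 → (∀ t ∈ T, t • k = k) → k = v0) (hn : 2 ≤ n) : Even n := by
  have hfact : Fact (Nat.Prime 2) := ⟨Nat.prime_two⟩
  set i0 : Fin n := ⟨0, by omega⟩
  have h1 : MulAction.orbit T (b i0) = Set.range b := by
    ext k
    constructor
    · rintro ⟨t, rfl⟩
      obtain ⟨i, hi⟩ := B.smul_cen hq two (hTA t t.2) i0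
      exact ⟨i, hi.symm⟩
    · rintro ⟨j, rfl⟩
      obtain ⟨t, ht, e⟩ := B.trans hq two hTA FIX i0 j
      exact ⟨⟨t, ht⟩, e⟩
  have h2 : Finite (MulAction.orbit T (b i0)) := Set.toFinite _
  obtain ⟨k, hk⟩ := hT.card_orbit (b i0)
  have h3 : Nat.card (Set.range b) = n := by
    rw [Nat.card_range_of_injective (B.inj two), Nat.card_eq_fintype_card, Fintype.card_fin]
  rw [h1, h3] at hk
  rw [hk]
  have hk0 : k ≠ 0 := by
    rintro rfl
    rw [pow_zero] at hk
    omega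
  exact (Nat.even_pow' hk0).mpr even_two

end TvB

end Big

end Cfsg.Agent.Omega.NO3S.Fit.Abs

end

section


/-!
# Text #13963 (helper311), (3.4): the group part of `k ≥ 2`

* `cm a b = [a,b]`, bilinear on `W_p × W_q`;
* `KB V cf p q n pi b w` : the transvection basis `b i` of `[W_p/⟨p⟩, W_q]`, the dual basis `w i` of `W_p / C(W_q)`;
* `KB.conj`, `KB.false_of_two`, `KB.false_of_three` : `n ≥ 2` is impossible.
-/

set_option autoImplicit false
set_option linter.unusedSectionVars false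

namespace Cfsg.Agent.Omega.NO3S.Fit

open Subgroup Cfsg Cfsg.Agent.ZN Cfsg.Agent.MinSimple.Geo Cfsg.Agent.Omega.CaseL
open Cfsg.Agent.ZN.Block (conj_mem_of_normalizer conj_mem_of_normalizer' le_normalizer_of_forall
  mem_normalizer_of)

universe u

variable {G : Type u} [Group G]

/-- `[a,b]` -/
def cm (a b : G) : G := a * b * a⁻¹ * b⁻¹

theorem cm_conj (g a b : G) : cm (g * a * g⁻¹) (g * b * g⁻¹) = g * cm a b * g⁻¹ := by
  unfold cm; group

theorem cm_eq_one {a b : G} (h : a * b = b * a) : cm a b = 1 := by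
  unfold cm; rw [h]; group

theorem comm_of_cm {a b : G} (h : cm a b = 1) : a * b = b * a := by
  unfold cm at h
  calc a * b = (a * b * a⁻¹ * b⁻¹) * (b * a) := by group
    _ = b * a := by rw [h, one_mul]

namespace Fam

variable {T V : Subgroup G} {z : G} {cf : G → Subgroup G} {p q : G}

section cm

variable (h : Fam T V z cf) (hp : p ∈ V) (hp1 : p ≠ 1) (hq : q ∈ V) (hq1 : q ≠ 1) (hqp : q ≠ p)
include h hp hp1 hq hq1 hqp

theorem cm_mem {a b : G} (ha : a ∈ ww V cf p) (hb : b ∈ ww V cf q) : cm a b ∈ jj V cf :=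
  h.comm_mem_jj hp hp1 hq hq1 hqp ha hb

theorem cm_symm {a b : G} (ha : a ∈ ww V cf p) (hb : b ∈ ww V cf q) : cm b a = cm a b := by
  have h1 := h.cm_mem hp hp1 hq hq1 hqp ha hb
  have h2 := h.inv_ww hp hp1 (jj_le hp hp1 h1)
  rw [← h2]; unfold cm; group

theorem cm_mul_left {a a' b : G} (ha : a ∈ ww V cf p) (ha' : a' ∈ ww V cf p) (hb : b ∈ ww V cf q) :
    cm (a * a') b = cm a b * cm a' b := by
  have h1 := jj_le hp hp1 (h.cm_mem hp hp1 hq hq1 hqp ha' hb)
  have h1' := jj_le hp hp1 (h.cm_mem hp hp1 hq hq1 hqp ha hb)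
  have h2 := h.comm hp hp1 a ha _ h1
  have h3 := h.comm hp hp1 _ h1 _ h1'
  calc cm (a * a') b = a * cm a' b * a⁻¹ * cm a b := by unfold cm; group
    _ = cm a' b * cm a b := by rw [h2]; group
    _ = _ := h3

theorem cm_mul_right {a b b' : G} (ha : a ∈ ww V cf p) (hb : b ∈ ww V cf q) (hb' : b' ∈ ww V cf q) :
    cm a (b * b') = cm a b * cm a b' := by
  have h1 := jj_le hq hq1 (h.cm_mem hp hp1 hq hq1 hqp ha hb')
  have h2 := h.comm hq hq1 b hb _ h1
  calc cm a (b * b') = cm a b * (b * cm a b' * b⁻¹) := by unfold cm; group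
    _ = cm a b * cm a b' := by rw [h2]; group

end cm

/-- a subgroup between `V` and `I` normalized by `C_G(V)` is normalized by `N_G(V)` -/
theorem norm_of_cent [Finite G] (h : Fam T V z cf) {U : Subgroup G} (hVU : V ≤ U) (hU : U ≤ jj V cf)
    (hn : ∀ c ∈ centralizer (V : Set G), ∀ u ∈ U, c * u * c⁻¹ ∈ U) :
    normalizer (V : Set G) ≤ normalizer (U : Set G) := by
  have hQ : ∀ p ∈ V, p ≠ 1 → ∀ k ∈ qq V cf p, ∀ u ∈ U, k * u * k⁻¹ ∈ U := by
    intro p hp hp1 k hk u hu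
    rcases h.qq_cases hp hk (jj_le hp hp1 (hU hu)) with e | e
    · rw [e]; exact hu
    · rw [e]; exact mul_mem (hVU hp) hu
  refine le_normalizer_of_forall fun g hg u hu => ?_
  have hz := h.ln.z_mem
  have hz1 := h.ln.z_ne
  have key : ∀ g ∈ normalizer (V : Set G), g * z = z * g → ∀ u ∈ U, g * u * g⁻¹ ∈ U := by
    intro g hg hgz u hu
    obtain ⟨d, hd, k, hk, rfl⟩ := h.norm_eq hz hz1 hg hgz
    have e : d * k * u * (d * k)⁻¹ = d * (k * u * k⁻¹) * d⁻¹ := by group
    rw [e]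
    exact hn d hd _ (hQ z hz hz1 k hk u hu)
  by_cases hgz : g * z * g⁻¹ = z
  · exact key g hg (comm_of_conj_eq hgz) u hu
  set p := g * z * g⁻¹ with hp
  have hpV : p ∈ V := h.conj_pt hg hz
  have hp1 : p ≠ 1 := conj_ne hz1
  -- the third point `r = z p`, a mover of `Q_r` maps `p` to `z`
  set r := z * p with hr
  have hrV : r ∈ V := mul_mem hz hpV
  have hr1 : r ≠ 1 := h.mul_ne_one hpV (Ne.symm hgz)
  have hpr : p ≠ r := fun e => hz1 (by rw [hr] at e; simpa using e.symm)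
  obtain ⟨k, hk, hk1⟩ := h.exists_mover hrV hr1
  have e1 := h.move hrV hr1 hpV hp1 hpr hk hk1
  have e2 : r * p = z := by rw [hr, mul_assoc, h.ln.sq p hpV, mul_one]
  rw [e2] at e1
  have h1 : (k * g) * z = z * (k * g) := by
    refine comm_of_conj_eq ?_
    calc k * g * z * (k * g)⁻¹ = k * (g * z * g⁻¹) * k⁻¹ := by group
      _ = z := e1
  have h2 := key (k * g) (mul_mem (h.qq_le_normalizer hrV hk) hg) h1 u hu
  have h3 := hQ r hrV hr1 k⁻¹ (inv_mem hk) _ h2
  have e3 : k⁻¹ * (k * g * u * (k * g)⁻¹) * k⁻¹⁻¹ = g * u * g⁻¹ := by group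
  rwa [e3] at h3

end Fam

/-- the transvection basis for a pair of points -/
structure KB (V : Subgroup G) (cf : G → Subgroup G) (p q : G) {M : Type u} [AddCommGroup M] (n : ℕ)
    (pi : G → M) (b : Fin n → M) (w : Fin n → G) : Prop where
  two : ∀ m : M, m + m = 0
  pi_mul : ∀ a ∈ ww V cf p, ∀ c ∈ ww V cf p, pi (a * c) = pi a + pi c
  pi_ker : ∀ a ∈ ww V cf p, pi a = 0 ↔ a = 1 ∨ a = p
  w_mem : ∀ i, w i ∈ ww V cf p
  w_all : ∀ i, ∀ g ∈ ww V cf q, pi (cm (w i) g) = 0 ∨ pi (cm (w i) g) = b i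
  w_ne : ∀ i, ∃ g ∈ ww V cf q, pi (cm (w i) g) ≠ 0
  ind : ∀ S : Finset (Fin n), ∑ i ∈ S, b i = 0 → S = ∅
  sum : ∑ i, b i = pi q
  sep : ∀ g ∈ ww V cf q, (∀ i, pi (cm (w i) g) = 0) → ∀ v ∈ ww V cf p, v * g = g * v
  cls : ∀ i, ∀ v ∈ ww V cf p, (∀ g ∈ ww V cf q, pi (cm v g) = 0 ∨ pi (cm v g) = b i) →
    (∀ g ∈ ww V cf q, v * g = g * v) ∨ (∀ g ∈ ww V cf q, v * w i * g = g * (v * w i))
  cen : ∀ c ∈ centralizer (V : Set G), ∀ i, ∀ u ∈ jj V cf, pi u = b i → ∃ j, pi (c * u * c⁻¹) = b j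
  trans : ∀ i j, ∃ c ∈ centralizer (V : Set G), ∀ u ∈ jj V cf, pi u = b i → pi (c * u * c⁻¹) = b j

namespace KB

variable {T V : Subgroup G} {z : G} {cf : G → Subgroup G} {p q : G} {M : Type u} [AddCommGroup M] {n : ℕ}
  {pi : G → M} {b : Fin n → M} {w : Fin n → G}

/-- transport by `N_G(V)` -/
theorem conj (h : Fam T V z cf) (hp : p ∈ V) (hp1 : p ≠ 1) (hq : q ∈ V) (hq1 : q ≠ 1)
    (K : KB V cf p q n pi b w) {g : G} (hg : g ∈ normalizer (V : Set G)) :
    KB V cf (g * p * g⁻¹) (g * q * g⁻¹) n (fun v => pi (g⁻¹ * v * g)) b (fun i => g * w i * g⁻¹) := by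
  have backp : ∀ {a : G}, a ∈ ww V cf (g * p * g⁻¹) → g⁻¹ * a * g ∈ ww V cf p := by
    intro a ha
    rwa [← h.cj_ww hg hp hp1, mem_cj] at ha
  have backq : ∀ {a : G}, a ∈ ww V cf (g * q * g⁻¹) → g⁻¹ * a * g ∈ ww V cf q := by
    intro a ha
    rwa [← h.cj_ww hg hq hq1, mem_cj] at ha
  have backj : ∀ {a : G}, a ∈ jj V cf → g⁻¹ * a * g ∈ jj V cf := by
    intro a ha
    exact conj_mem_of_normalizer' h.normalizer_le_normalizer_jj hg ha
  have backc : ∀ {a : G}, a ∈ centralizer (V : Set G) → g⁻¹ * a * g ∈ centralizer (V : Set G) := by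
    intro a ha
    exact conj_mem_of_normalizer' (normalizer_le_normalizer_centralizer V) hg ha
  have fwdc : ∀ {a : G}, a ∈ centralizer (V : Set G) → g * a * g⁻¹ ∈ centralizer (V : Set G) := by
    intro a ha
    exact conj_mem_of_normalizer (normalizer_le_normalizer_centralizer V) hg ha
  have ecm : ∀ a c : G, g⁻¹ * cm a c * g = cm (g⁻¹ * a * g) (g⁻¹ * c * g) := by
    intro a c; unfold cm; group
  have ew : ∀ i, g⁻¹ * (g * w i * g⁻¹) * g = w i := by intro i; group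
  have ecomm : ∀ {a c : G}, (g⁻¹ * a * g) * (g⁻¹ * c * g) = (g⁻¹ * c * g) * (g⁻¹ * a * g) → a * c = c * a := by
    intro a c e
    calc a * c = g * ((g⁻¹ * a * g) * (g⁻¹ * c * g)) * g⁻¹ := by group
      _ = g * ((g⁻¹ * c * g) * (g⁻¹ * a * g)) * g⁻¹ := by rw [e]
      _ = c * a := by group
  refine ⟨K.two, ?_, ?_, ?_, ?_, ?_, K.ind, ?_, ?_, ?_, ?_, ?_⟩
  · intro a ha c hc
    have e : g⁻¹ * (a * c) * g = (g⁻¹ * a * g) * (g⁻¹ * c * g) := by group
    simp only [e]
    exact K.pi_mul _ (backp ha) _ (backp hc)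
  · intro a ha
    rw [K.pi_ker _ (backp ha)]
    constructor
    · rintro (e | e)
      · left
        calc a = g * (g⁻¹ * a * g) * g⁻¹ := by group
          _ = 1 := by rw [e]; group
      · right
        calc a = g * (g⁻¹ * a * g) * g⁻¹ := by group
          _ = g * p * g⁻¹ := by rw [e]
    · rintro (e | e)
      · left; rw [e]; group
      · right; rw [e]; group
  · intro i
    exact h.conj_ww hg hp hp1 (K.w_mem i)
  · intro i c hc
    simp only [ecm, ew]
    exact K.w_all i _ (backq hc)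
  · intro i
    obtain ⟨c, hc, e⟩ := K.w_ne i
    refine ⟨g * c * g⁻¹, h.conj_ww hg hq hq1 hc, ?_⟩
    have e1 : g⁻¹ * (g * c * g⁻¹) * g = c := by group
    simp only [ecm, ew, e1]
    exact e
  · have e1 : g⁻¹ * (g * q * g⁻¹) * g = q := by group
    simp only [e1]
    exact K.sum
  · intro c hc h1 v hv
    refine ecomm (K.sep _ (backq hc) (fun i => ?_) _ (backp hv))
    have := h1 i
    simp only [ecm, ew] at this
    exact this
  · intro i v hv h1
    have h2 : ∀ d ∈ ww V cf q, pi (cm (g⁻¹ * v * g) d) = 0 ∨ pi (cm (g⁻¹ * v * g) d) = b i := by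
      intro d hd
      have h3 := h1 (g * d * g⁻¹) (h.conj_ww hg hq hq1 hd)
      have e1 : g⁻¹ * (g * d * g⁻¹) * g = d := by group
      simp only [ecm, e1] at h3
      exact h3
    rcases K.cls i _ (backp hv) h2 with h3 | h3
    · left
      intro d hd
      exact ecomm (h3 _ (backq hd))
    · right
      intro d hd
      have h4 := h3 _ (backq hd)
      refine ecomm ?_
      have e1 : g⁻¹ * (v * (g * w i * g⁻¹)) * g = g⁻¹ * v * g * w i := by group
      rw [e1]; exact h4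
  · intro c hc i u hu e
    obtain ⟨j, hj⟩ := K.cen _ (backc hc) i _ (backj hu) e
    refine ⟨j, ?_⟩
    have e1 : g⁻¹ * (c * u * c⁻¹) * g = (g⁻¹ * c * g) * (g⁻¹ * u * g) * (g⁻¹ * c * g)⁻¹ := by group
    simp only [e1]
    exact hj
  · intro i j
    obtain ⟨c, hc, h1⟩ := K.trans i j
    refine ⟨g * c * g⁻¹, fwdc hc, fun u hu e => ?_⟩
    have h2 := h1 _ (backj hu) e
    have e1 : g⁻¹ * (g * c * g⁻¹ * u * (g * c * g⁻¹)⁻¹) * g = c * (g⁻¹ * u * g) * c⁻¹ := by group
    simp only [e1]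
    exact h2

/-! ### consequences -/

theorem pi_eq (h : Fam T V z cf) (hp : p ∈ V) (hp1 : p ≠ 1) (K : KB V cf p q n pi b w) {a c : G}
    (ha : a ∈ ww V cf p) (hc : c ∈ ww V cf p) (e : pi a = pi c) : a = c ∨ a = p * c := by
  have h1 : pi (a * c) = 0 := by rw [K.pi_mul a ha c hc, e, K.two]
  rcases (K.pi_ker _ (mul_mem ha hc)).mp h1 with e1 | e1
  · left
    calc a = (a * c) * c⁻¹ := by group
      _ = c := by rw [e1, one_mul, h.inv_ww hp hp1 hc]
  · right
    calc a = (a * c) * c⁻¹ := by group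
      _ = p * c := by rw [e1, h.inv_ww hp hp1 hc]

theorem pi_one (K : KB V cf p q n pi b w) : pi 1 = 0 := (K.pi_ker 1 (one_mem _)).mpr (Or.inl rfl)

theorem pi_p (h : Fam T V z cf) (hp : p ∈ V) (K : KB V cf p q n pi b w) : pi p = 0 :=
  (K.pi_ker p (h.V_le hp)).mpr (Or.inr rfl)

theorem pi_pmul (h : Fam T V z cf) (hp : p ∈ V) (K : KB V cf p q n pi b w) {a : G} (ha : a ∈ ww V cf p) :
    pi (p * a) = pi a := by rw [K.pi_mul p (h.V_le hp) a ha, K.pi_p h hp, zero_add]

theorem pi_q (h : Fam T V z cf) (hq : q ∈ V) (hq1 : q ≠ 1) (hqp : q ≠ p) (K : KB V cf p q n pi b w) :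
    pi q ≠ 0 := by
  intro e
  rcases (K.pi_ker q (h.V_le hq)).mp e with e | e
  · exact hq1 e
  · exact hqp e

theorem b_ne (K : KB V cf p q n pi b w) (i : Fin n) : b i ≠ 0 := by
  intro e
  have := K.ind {i} (by rw [Finset.sum_singleton, e])
  exact absurd this (Finset.singleton_ne_empty i)

/-- `pi q = ∑_S b` only for `S = univ` -/
theorem sum_univ (K : KB V cf p q n pi b w) {S : Finset (Fin n)} (e : ∑ i ∈ S, b i = pi q) :
    S = Finset.univ := by
  classical
  have h1 : ∑ i ∈ Finset.univ \ S, b i = 0 := by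
    have h2 := Finset.sum_sdiff (f := b) (Finset.subset_univ S)
    rw [e, K.sum] at h2
    simpa using h2
  have h2 := K.ind _ h1
  exact (Finset.eq_univ_iff_forall.mpr fun i => by
    by_contra hi
    have : i ∈ Finset.univ \ S := Finset.mem_sdiff.mpr ⟨Finset.mem_univ i, hi⟩
    rw [h2] at this
    exact absurd this (Finset.notMem_empty i))

theorem q_ne_one (K : KB V cf p q n pi b w) (hn : 2 ≤ n) (i : Fin n) : b i ≠ pi q := by
  intro e
  have h1 := K.sum_univ (S := {i}) (by rw [Finset.sum_singleton, e])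
  have h2 := congrArg Finset.card h1
  rw [Finset.card_singleton, Finset.card_univ, Fintype.card_fin] at h2
  omega

theorem q_ne_two (K : KB V cf p q n pi b w) (hn : 3 ≤ n) (i j : Fin n) : b i + b j ≠ pi q := by
  classical
  intro e
  by_cases hij : i = j
  · rw [hij, K.two] at e
    have h1 := K.sum
    rw [← e] at h1
    have h2 := K.ind _ h1
    have : i ∈ (Finset.univ : Finset (Fin n)) := Finset.mem_univ i
    rw [h2] at this
    exact absurd this (Finset.notMem_empty i)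
  · have h1 := K.sum_univ (S := {i, j}) (by rw [Finset.sum_pair hij, e])
    have h2 := congrArg Finset.card h1
    rw [Finset.card_pair hij, Finset.card_univ, Fintype.card_fin] at h2
    omega

theorem b_inj (K : KB V cf p q n pi b w) : Function.Injective b := by
  classical
  intro i j e
  by_contra hij
  have := K.ind {i, j} (by rw [Finset.sum_pair hij, e, K.two])
  exact absurd this (Finset.insert_ne_empty _ _)

end KB

/-! ### a pair of bases -/

section Pair

variable {T V : Subgroup G} {z : G} {cf : G → Subgroup G} {x y : G} {M M' : Type u} [AddCommGroup M]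
  [AddCommGroup M'] {n : ℕ} {pi : G → M} {pi' : G → M'} {b : Fin n → M} {b' : Fin n → M'} {w w' : Fin n → G}

namespace KB

variable (h : Fam T V z cf) (hx : x ∈ V) (hx1 : x ≠ 1) (hy : y ∈ V) (hy1 : y ≠ 1) (hyx : y ≠ x)
  (K : KB V cf x y n pi b w) (K' : KB V cf y x n pi' b' w')
include h hx hx1 hy hy1 hyx K K'

theorem e_symm (i j : Fin n) : cm (w' j) (w i) = cm (w i) (w' j) :=
  h.cm_symm hx hx1 hy hy1 hyx (K.w_mem i) (K'.w_mem j)

theorem e_mem (i j : Fin n) : cm (w i) (w' j) ∈ jj V cf :=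
  h.cm_mem hx hx1 hy hy1 hyx (K.w_mem i) (K'.w_mem j)

theorem e_cases (i j : Fin n) : pi (cm (w i) (w' j)) = 0 ∨ pi (cm (w i) (w' j)) = b i :=
  K.w_all i _ (K'.w_mem j)

theorem e_cases' (i j : Fin n) : pi' (cm (w i) (w' j)) = 0 ∨ pi' (cm (w i) (w' j)) = b' j := by
  have := K'.w_all j _ (K.w_mem i)
  rwa [K.e_symm h hx hx1 hy hy1 hyx K' i j] at this

/-- L1 -/
theorem e_one (hn : 2 ≤ n) {i j : Fin n} (e : pi (cm (w i) (w' j)) = 0) : cm (w i) (w' j) = 1 := by
  have hm := K.e_mem h hx hx1 hy hy1 hyx K' i j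
  rcases (K.pi_ker _ (Fam.jj_le hx hx1 hm)).mp e with e1 | e1
  · exact e1
  exfalso
  rcases K.e_cases' h hx hx1 hy hy1 hyx K' i j with e2 | e2
  · rw [e1] at e2
    exact K'.pi_q h hx hx1 (Ne.symm hyx) e2
  · rw [e1] at e2
    exact K'.q_ne_one hn j e2.symm

theorem e_one' (hn : 2 ≤ n) {i j : Fin n} (e : pi' (cm (w i) (w' j)) = 0) : cm (w i) (w' j) = 1 := by
  rw [← K.e_symm h hx hx1 hy hy1 hyx K' i j] at e ⊢
  exact K'.e_one h hy hy1 hx hx1 (Ne.symm hyx) K hn e

/-- L3 -/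
theorem e_pi (hn : 2 ≤ n) {i j : Fin n} (e : cm (w i) (w' j) ≠ 1) : pi (cm (w i) (w' j)) = b i :=
  (K.e_cases h hx hx1 hy hy1 hyx K' i j).resolve_left fun e1 =>
    e (K.e_one h hx hx1 hy hy1 hyx K' hn e1)

theorem e_pi' (hn : 2 ≤ n) {i j : Fin n} (e : cm (w i) (w' j) ≠ 1) : pi' (cm (w i) (w' j)) = b' j :=
  (K.e_cases' h hx hx1 hy hy1 hyx K' i j).resolve_left fun e1 =>
    e (K.e_one' h hx hx1 hy hy1 hyx K' hn e1)

/-- L2 -/
theorem exists_row (i : Fin n) : ∃ j, cm (w i) (w' j) ≠ 1 := by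
  by_contra hcon
  push Not at hcon
  obtain ⟨g, hg, hne⟩ := K.w_ne i
  have h1 := K'.sep (w i) (K.w_mem i) (fun j => by
    rw [K.e_symm h hx hx1 hy hy1 hyx K' i j, hcon j, K'.pi_one]) g hg
  exact hne (by rw [cm_eq_one h1.symm, K.pi_one])

/-- L4 -/
theorem row_unique (hn : 3 ≤ n) {i j j' : Fin n} (e : cm (w i) (w' j) ≠ 1) (e' : cm (w i) (w' j') ≠ 1) :
    j = j' := by
  have hn2 : 2 ≤ n := by omega
  by_contra hjj
  have hm := K.e_mem h hx hx1 hy hy1 hyx K' i j
  have hm' := K.e_mem h hx hx1 hy hy1 hyx K' i j'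
  have h1 : pi (cm (w i) (w' j) * cm (w i) (w' j')) = 0 := by
    rw [K.pi_mul _ (Fam.jj_le hx hx1 hm) _ (Fam.jj_le hx hx1 hm'), K.e_pi h hx hx1 hy hy1 hyx K' hn2 e,
      K.e_pi h hx hx1 hy hy1 hyx K' hn2 e', K.two]
  have h2 : pi' (cm (w i) (w' j) * cm (w i) (w' j')) = b' j + b' j' := by
    rw [K'.pi_mul _ (Fam.jj_le hy hy1 hm) _ (Fam.jj_le hy hy1 hm'), K.e_pi' h hx hx1 hy hy1 hyx K' hn2 e,
      K.e_pi' h hx hx1 hy hy1 hyx K' hn2 e']
  rcases (K.pi_ker _ (mul_mem (Fam.jj_le hx hx1 hm) (Fam.jj_le hx hx1 hm'))).mp h1 with e1 | e1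
  · rw [e1, K'.pi_one] at h2
    apply hjj
    apply K'.b_inj
    calc b' j = b' j + (b' j' + b' j') := by rw [K'.two, add_zero]
      _ = b' j' := by rw [← add_assoc, ← h2, zero_add]
  · rw [e1] at h2
    exact K'.q_ne_two hn j j' h2.symm

theorem col_unique (hn : 3 ≤ n) {i i' j : Fin n} (e : cm (w i) (w' j) ≠ 1) (e' : cm (w i') (w' j) ≠ 1) :
    i = i' := by
  rw [← K.e_symm h hx hx1 hy hy1 hyx K' _ j] at e e'
  exact K'.row_unique h hy hy1 hx hx1 (Ne.symm hyx) K hn e e'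

omit hx1 hyx in
/-- (U) -/
theorem unique (hn : 3 ≤ n) {r : G} (hr : r ∈ jj V cf) {j j' : Fin n} (e : pi' r = b' j)
    (e' : pi' (x * r) = b' j') : False := by
  have h1 : pi' x = b' j + b' j' := by
    rw [K'.pi_mul x (h.V_le hx) r (Fam.jj_le hy hy1 hr), e] at e'
    rw [← e', add_comm (pi' x), ← add_assoc, K'.two, zero_add]
  exact K'.q_ne_two hn j j' h1.symm

/-- **`n ≥ 3` is impossible** -/
theorem false_of_three (hn : 3 ≤ n) (heven : Even n) : False := by
  classical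
  have hn2 : 2 ≤ n := by omega
  choose τ hτ using fun i => K.exists_row h hx hx1 hy hy1 hyx K' i
  have hτinj : Function.Injective τ := by
    intro i i' e
    have h1 := hτ i
    rw [e] at h1
    exact K.col_unique h hx hx1 hy hy1 hyx K' hn h1 (hτ i')
  let r : Fin n → G := fun i => cm (w i) (w' (τ i))
  have hrj : ∀ i, r i ∈ jj V cf := fun i => K.e_mem h hx hx1 hy hy1 hyx K' i _
  have hrx : ∀ i, r i ∈ ww V cf x := fun i => Fam.jj_le hx hx1 (hrj i)
  have hry : ∀ i, r i ∈ ww V cf y := fun i => Fam.jj_le hy hy1 (hrj i)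
  have hr1 : ∀ i, pi (r i) = b i := fun i => K.e_pi h hx hx1 hy hy1 hyx K' hn2 (hτ i)
  have hr2 : ∀ i, pi' (r i) = b' (τ i) := fun i => K.e_pi' h hx hx1 hy hy1 hyx K' hn2 (hτ i)
  obtain ⟨k, hk, hk1⟩ := h.exists_mover hx hx1
  have hky := h.move hx hx1 hy hy1 hyx hk hk1
  have hkN : k ∈ normalizer (V : Set G) := h.qq_le_normalizer hx hk
  have hkr : ∀ i, k * r i * k⁻¹ = r i ∨ k * r i * k⁻¹ = x * r i := fun i => h.qq_cases hx hk (hrx i)
  have hCj : ∀ c ∈ centralizer (V : Set G), ∀ u ∈ jj V cf, c * u * c⁻¹ ∈ jj V cf := fun c hc u hu =>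
    conj_mem_of_normalizer h.normalizer_le_normalizer_jj (centralizer_le_normalizer _ hc) hu
  -- the exponent does not depend on `i`
  have hconst : ∀ i j, k * r i * k⁻¹ = r i → k * r j * k⁻¹ = r j := by
    intro i j hi
    obtain ⟨c, hc, hcb⟩ := K.trans i j
    have h1 := hcb (r i) (hrj i) (hr1 i)
    obtain ⟨l, hl⟩ := K'.cen c hc (τ i) (r i) (hrj i) (hr2 i)
    have h2 : c * r i * c⁻¹ = r j := by
      rcases K.pi_eq h hx hx1 (Fam.jj_le hx hx1 (hCj c hc _ (hrj i))) (hrx j) (h1.trans (hr1 j).symm) with e | e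
      · exact e
      · exfalso
        rw [e] at hl
        exact K.unique h hx hy hy1 K' hn (hrj j) (hr2 j) hl
    have hc' : k * c * k⁻¹ ∈ centralizer (V : Set G) :=
      conj_mem_of_normalizer (normalizer_le_normalizer_centralizer V) hkN hc
    obtain ⟨l', hl'⟩ := K'.cen _ hc' (τ i) (r i) (hrj i) (hr2 i)
    have h3 : k * r j * k⁻¹ = k * c * k⁻¹ * r i * (k * c * k⁻¹)⁻¹ := by
      calc k * r j * k⁻¹ = k * (c * r i * c⁻¹) * k⁻¹ := by rw [h2]
        _ = k * c * k⁻¹ * (k * r i * k⁻¹) * (k * c * k⁻¹)⁻¹ := by group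
        _ = _ := by rw [hi]
    rcases hkr j with e | e
    · exact e
    · exfalso
      rw [← h3, e] at hl'
      exact K.unique h hx hy hy1 K' hn (hrj j) (hr2 j) hl'
  -- the exponent
  obtain ⟨a, haV, ha2, ha⟩ : ∃ a ∈ V, a * a = 1 ∧ ∀ i, k * r i * k⁻¹ = a * r i := by
    by_cases hi : ∃ i, k * r i * k⁻¹ = r i
    · obtain ⟨i, hi⟩ := hi
      exact ⟨1, one_mem _, one_mul 1, fun j => by rw [one_mul]; exact hconst i j hi⟩
    · push Not at hi
      exact ⟨x, hx, h.ln.sq x hx, fun j => (hkr j).resolve_left (hi j)⟩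
  have hP : ∀ S : Finset (Fin n), ∃ P ∈ jj V cf, pi P = ∑ i ∈ S, b i ∧ pi' P = ∑ i ∈ S, b' (τ i) ∧
      k * P * k⁻¹ = a ^ S.card * P := by
    intro S
    induction S using Finset.induction_on with
    | empty => exact ⟨1, one_mem _, by simp [K.pi_one], by simp [K'.pi_one], by simp⟩
    | insert i S hi ih =>
      obtain ⟨P, hPj, h1, h2, h3⟩ := ih
      refine ⟨r i * P, mul_mem (hrj i) hPj, ?_, ?_, ?_⟩
      · rw [K.pi_mul _ (hrx i) _ (Fam.jj_le hx hx1 hPj), hr1, h1, Finset.sum_insert hi]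
      · rw [K'.pi_mul _ (hry i) _ (Fam.jj_le hy hy1 hPj), hr2, h2, Finset.sum_insert hi]
      · rw [Finset.card_insert_of_notMem hi, pow_succ]
        have hcomm : r i * a ^ S.card = a ^ S.card * r i :=
          h.comm hx hx1 _ (hrx i) _ (h.V_le (pow_mem haV _))
        calc k * (r i * P) * k⁻¹ = (k * r i * k⁻¹) * (k * P * k⁻¹) := by group
          _ = a * (r i * a ^ S.card) * P := by rw [ha, h3]; group
          _ = a * a ^ S.card * (r i * P) := by rw [hcomm]; group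
          _ = a ^ S.card * a * (r i * P) := by rw [← pow_succ', pow_succ]
  obtain ⟨P, hPj, h1, h2, h3⟩ := hP Finset.univ
  rw [K.sum] at h1
  have h4 : ∑ i, b' (τ i) = pi' x := by
    rw [← K'.sum]
    exact (Finset.sum_equiv (Equiv.ofBijective τ (Finite.injective_iff_bijective.mp hτinj)) (by simp)
      (fun i _ => rfl))
  rw [h4] at h2
  have hPx := Fam.jj_le hx hx1 hPj
  have hPs : P = x * y := by
    rcases K.pi_eq h hx hx1 hPx (h.V_le hy) h1 with e | e
    · exfalso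
      rw [e, K'.pi_p h hy] at h2
      exact K'.pi_q h hx hx1 (Ne.symm hyx) h2.symm
    · exact e
  rw [Finset.card_univ, Fintype.card_fin] at h3
  have h5 : a ^ n = 1 := by
    obtain ⟨l, rfl⟩ := heven
    rw [← two_mul, pow_mul, pow_two, ha2, one_pow]
  rw [h5, one_mul, hPs] at h3
  have h6 : k * (x * y) * k⁻¹ = y := by
    have hkx : k * x * k⁻¹ = x := conj_eq_of_comm (h.qq_p hk)
    calc k * (x * y) * k⁻¹ = (k * x * k⁻¹) * (k * y * k⁻¹) := by group
      _ = (x * x) * y := by rw [hkx, hky]; group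
      _ = y := by rw [h.ln.sq x hx, one_mul]
  rw [h6] at h3
  exact hx1 (by simpa using h3.symm)

end KB

namespace KB

/-- for `n = 2` the elements over the centres form a coset of `V` -/
theorem coset {p q : G} (h : Fam T V z cf) (hp : p ∈ V) (hp1 : p ≠ 1) (hq : q ∈ V) (hn : n = 2)
    (K : KB V cf p q n pi b w) {u r : G} (hu : u ∈ jj V cf) (hr : r ∈ jj V cf) {i j : Fin n} (e : pi u = b i)
    (e' : pi r = b j) : ∃ v ∈ V, r = v * u := by
  classical
  have hup := Fam.jj_le hp hp1 hu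
  have hrp := Fam.jj_le hp hp1 hr
  by_cases hij : i = j
  · subst hij
    rcases K.pi_eq h hp hp1 hrp hup (e'.trans e.symm) with e1 | e1
    · exact ⟨1, one_mem _, by rw [e1, one_mul]⟩
    · exact ⟨p, hp, e1⟩
  · have h1 : pi q = b i + b j := by
      rw [← K.sum, ← Finset.sum_pair hij]
      congr 1
      symm
      rw [Finset.eq_univ_iff_forall]
      subst hn
      revert i j
      intro i j
      fin_cases i <;> fin_cases j <;> intro _ _ h <;> first | (exact absurd rfl h) | decide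
    have h2 : pi r = pi (q * u) := by
      rw [K.pi_mul q (h.V_le hq) u hup, h1, e, e', add_comm (b i), add_assoc, K.two, add_zero]
    rcases K.pi_eq h hp hp1 hrp (mul_mem (h.V_le hq) hup) h2 with e1 | e1
    · exact ⟨q, hq, e1⟩
    · exact ⟨p * q, mul_mem hp hq, by rw [e1]; group⟩

section Two

variable (h : Fam T V z cf) (hx : x ∈ V) (hx1 : x ≠ 1) (hy : y ∈ V) (hy1 : y ≠ 1) (hyx : y ≠ x)
  (K : KB V cf x y n pi b w) (K' : KB V cf y x n pi' b' w')
include h hx hx1 hy hy1 hyx K K'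

/-- for `n = 2` some `c ∈ C_G(V)` multiplies all elements over the centres with `y` -/
theorem exists_four [Finite G] (hn : n = 2) : ∃ c ∈ centralizer (V : Set G),
    (∀ r ∈ jj V cf, ∀ i, pi r = b i → c * r * c⁻¹ = y * r) ∧
      (∀ r ∈ jj V cf, ∀ i, pi' r = b' i → c * r * c⁻¹ = y * r) := by
  have hn2 : 2 ≤ n := by omega
  set i0 : Fin n := ⟨0, by omega⟩
  obtain ⟨j0, hj0⟩ := K.exists_row h hx hx1 hy hy1 hyx K' i0
  set u := cm (w i0) (w' j0) with hu
  have huj : u ∈ jj V cf := K.e_mem h hx hx1 hy hy1 hyx K' i0 j0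
  have hu1 : pi u = b i0 := K.e_pi h hx hx1 hy hy1 hyx K' hn2 hj0
  have hu2 : pi' u = b' j0 := K.e_pi' h hx hx1 hy hy1 hyx K' hn2 hj0
  have hux := Fam.jj_le hx hx1 huj
  have huV : ∀ v ∈ V, u * v = v * u := fun v hv => h.comm hx hx1 u hux v (h.V_le hv)
  have huu : u * u = 1 := h.sq hx hx1 u hux
  have hc1 : ∀ r ∈ jj V cf, ∀ i, pi r = b i → ∃ v ∈ V, r = v * u := fun r hr i e =>
    K.coset h hx hx1 hy hn huj hr hu1 e
  have hc2 : ∀ r ∈ jj V cf, ∀ i, pi' r = b' i → ∃ v ∈ V, r = v * u := fun r hr i e =>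
    K'.coset h hy hy1 hx hn huj hr hu2 e
  let U : Subgroup G :=
    { carrier := {g | g ∈ V ∨ ∃ v ∈ V, g = v * u}
      mul_mem' := by
        rintro a b (ha | ⟨v, hv, rfl⟩) (hb | ⟨v', hv', rfl⟩)
        · exact Or.inl (mul_mem ha hb)
        · exact Or.inr ⟨a * v', mul_mem ha hv', by group⟩
        · refine Or.inr ⟨v * b, mul_mem hv hb, ?_⟩
          rw [mul_assoc, huV b hb, mul_assoc]
        · refine Or.inl ?_
          have : v * u * (v' * u) = v * v' := by
            calc v * u * (v' * u) = v * (u * v') * u := by group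
              _ = v * v' * (u * u) := by rw [huV v' hv']; group
              _ = v * v' := by rw [huu, mul_one]
          rw [this]; exact mul_mem hv hv'
      one_mem' := Or.inl (one_mem _)
      inv_mem' := by
        rintro a (ha | ⟨v, hv, rfl⟩)
        · exact Or.inl (inv_mem ha)
        · refine Or.inr ⟨v⁻¹, inv_mem hv, ?_⟩
          rw [mul_inv_rev, inv_eq_self huu, huV _ (inv_mem hv)] }
  have hVU : V ≤ U := fun v hv => Or.inl hv
  have hUj : U ≤ jj V cf := by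
    rintro a (ha | ⟨v, hv, rfl⟩)
    · exact h.V_le_jj ha
    · exact mul_mem (h.V_le_jj hv) huj
  have hnorm : normalizer (V : Set G) ≤ normalizer (U : Set G) := by
    refine h.norm_of_cent hVU hUj fun c hc a ha => ?_
    have hcj : ∀ a ∈ jj V cf, c * a * c⁻¹ ∈ jj V cf := fun a ha =>
      conj_mem_of_normalizer h.normalizer_le_normalizer_jj (centralizer_le_normalizer _ hc) ha
    rcases ha with ha | ⟨v, hv, rfl⟩
    · left
      rw [conj_eq_of_comm (h.V_comm ha hc).symm]; exact ha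
    · right
      obtain ⟨j, hj⟩ := K.cen c hc i0 u huj hu1
      obtain ⟨v', hv', e⟩ := hc1 _ (hcj u huj) j hj
      refine ⟨v * v', mul_mem hv hv', ?_⟩
      calc c * (v * u) * c⁻¹ = (c * v * c⁻¹) * (c * u * c⁻¹) := by group
        _ = v * v' * u := by rw [conj_eq_of_comm (h.V_comm hv hc).symm, e]; group
  have huV' : u ∉ V := by
    intro huV
    have e0 := K.b_ne i0
    have e1 := K.q_ne_one hn2 i0
    rcases h.ln.four hx hy hx1 hy1 (Ne.symm hyx) huV with e | e | e | e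
    · rw [e, K.pi_one] at hu1; exact e0 hu1.symm
    · rw [e, K.pi_p h hx] at hu1; exact e0 hu1.symm
    · rw [e] at hu1; exact e1 hu1.symm
    · rw [e, K.pi_pmul h hx (h.V_le hy)] at hu1; exact e1 hu1.symm
  obtain ⟨c, hc, hcu⟩ := h.four_of hUj hnorm (u := u) (Or.inr ⟨1, one_mem _, by rw [one_mul]⟩) huV' (by
    rintro g (hg | ⟨v, hv, rfl⟩)
    · exact Or.inl hg
    · right; rw [mul_inv_cancel_right]; exact hv) hy
  have key : ∀ v ∈ V, c * (v * u) * c⁻¹ = y * (v * u) := by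
    intro v hv
    calc c * (v * u) * c⁻¹ = (c * v * c⁻¹) * (c * u * c⁻¹) := by group
      _ = v * y * u := by rw [conj_eq_of_comm (h.V_comm hv hc).symm, hcu]; group
      _ = y * (v * u) := by rw [h.ln.comm hv hy]; group
  refine ⟨c, hc, fun r hr i e => ?_, fun r hr i e => ?_⟩
  · obtain ⟨v, hv, rfl⟩ := hc1 r hr i e
    exact key v hv
  · obtain ⟨v, hv, rfl⟩ := hc2 r hr i e
    exact key v hv

/-- **`n = 2` is impossible** -/
theorem false_of_two [Finite G] (hn : n = 2) : False := by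
  classical
  have hn2 : 2 ≤ n := by omega
  obtain ⟨c, hc, hc1, hc2⟩ := K.exists_four h hx hx1 hy hy1 hyx K' hn
  set i0 : Fin n := ⟨0, by omega⟩ with hi0
  set i1 : Fin n := ⟨1, by omega⟩ with hi1
  have hi01 : i0 ≠ i1 := by
    intro e
    have := congrArg Fin.val e
    simp [hi0, hi1] at this
  have hpy : pi y = b i0 + b i1 := by
    rw [← K.sum, ← Finset.sum_pair hi01]
    congr 1
    symm
    rw [Finset.eq_univ_iff_forall]
    intro i
    have := i.2
    rw [Finset.mem_insert, Finset.mem_singleton, Fin.ext_iff, Fin.ext_iff]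
    simp only [hi0, hi1]
    omega
  have hcx : ∀ {a : G}, a ∈ ww V cf x → c * a * c⁻¹ ∈ ww V cf x := fun ha =>
    conj_mem_of_normalizer (h.cent_norm hx hx1) hc ha
  have hcy : ∀ {a : G}, a ∈ ww V cf y → c * a * c⁻¹ ∈ ww V cf y := fun ha =>
    conj_mem_of_normalizer (h.cent_norm hy hy1) hc ha
  have hcx' : ∀ {a : G}, a ∈ ww V cf x → c⁻¹ * a * c ∈ ww V cf x := fun ha =>
    conj_mem_of_normalizer' (h.cent_norm hx hx1) hc ha
  have hcy' : ∀ {a : G}, a ∈ ww V cf y → c⁻¹ * a * c ∈ ww V cf y := fun ha =>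
    conj_mem_of_normalizer' (h.cent_norm hy hy1) hc ha
  have hcv : ∀ v ∈ V, c * v * c⁻¹ = v := fun v hv => conj_eq_of_comm (h.V_comm hv hc).symm
  have hcmc : ∀ a g : G, cm (c * a * c⁻¹) g = c * cm a (c⁻¹ * g * c) * c⁻¹ := by
    intro a g; unfold cm; group
  have hxy := Ne.symm hyx
  -- (1)
  set v := c * w i0 * c⁻¹ with hv
  have hvW : v ∈ ww V cf x := hcx (K.w_mem i0)
  have h1 : ∀ g ∈ ww V cf y, pi (cm v g) = 0 ∨ pi (cm v g) = b i1 := by
    intro g hg
    have hg' := hcy' hg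
    have hm := h.cm_mem hx hx1 hy hy1 hyx (K.w_mem i0) hg'
    have hmx := Fam.jj_le hx hx1 hm
    rw [hv, hcmc]
    rcases K.w_all i0 _ hg' with e | e
    · left
      rcases (K.pi_ker _ hmx).mp e with e1 | e1
      · rw [e1, hcv 1 (one_mem _), K.pi_one]
      · rw [e1, hcv x hx, K.pi_p h hx]
    · right
      rw [hc1 _ hm i0 e, K.pi_mul y (h.V_le hy) _ hmx, e, hpy, add_comm (b i0), add_assoc, K.two, add_zero]
  have h2 : ∀ g ∈ ww V cf y, v * w i1 * g = g * (v * w i1) := by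
    rcases K.cls i1 v hvW h1 with h3 | h3
    · exfalso
      obtain ⟨g, hg, hne⟩ := K.w_ne i0
      apply hne
      have h4 := h3 _ (hcy hg)
      have h5 : w i0 * g = g * w i0 := by
        calc w i0 * g = c⁻¹ * (v * (c * g * c⁻¹)) * c := by rw [hv]; group
          _ = c⁻¹ * ((c * g * c⁻¹) * v) * c := by rw [h4]
          _ = g * w i0 := by rw [hv]; group
      rw [cm_eq_one h5, K.pi_one]
    · exact h3
  -- (2)
  have h3 : ∀ j, ∀ g ∈ ww V cf x, c * w' j * c⁻¹ * w' j * g = g * (c * w' j * c⁻¹ * w' j) := by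
    intro j
    have h4 : ∀ g ∈ ww V cf x, pi' (cm (c * w' j * c⁻¹) g) = 0 ∨ pi' (cm (c * w' j * c⁻¹) g) = b' j := by
      intro g hg
      have hg' := hcx' hg
      have hm := h.cm_mem hy hy1 hx hx1 hxy (K'.w_mem j) hg'
      have hmy := Fam.jj_le hy hy1 hm
      rw [hcmc]
      rcases K'.w_all j _ hg' with e | e
      · left
        rcases (K'.pi_ker _ hmy).mp e with e1 | e1
        · rw [e1, hcv 1 (one_mem _), K'.pi_one]
        · rw [e1, hcv y hy, K'.pi_p h hy]
      · right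
        rw [hc2 _ hm j e, K'.pi_pmul h hy hmy, e]
    rcases K'.cls j _ (hcy (K'.w_mem j)) h4 with h5 | h5
    · exfalso
      obtain ⟨g, hg, hne⟩ := K'.w_ne j
      apply hne
      have h4 := h5 _ (hcx hg)
      have h5 : w' j * g = g * w' j := by
        calc w' j * g = c⁻¹ * (c * w' j * c⁻¹ * (c * g * c⁻¹)) * c := by group
          _ = c⁻¹ * ((c * g * c⁻¹) * (c * w' j * c⁻¹)) * c := by rw [h4]
          _ = g * w' j := by group
      rw [cm_eq_one h5, K'.pi_one]
    · exact h5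
  -- (3)
  have h4 : ∀ j, cm (w i1) (w' j) = c * cm (w i0) (w' j) * c⁻¹ := by
    intro j
    set ζ := v * w i1 with hζ
    set ζ' := c * w' j * c⁻¹ * w' j with hζ'
    have hζW : ζ ∈ ww V cf x := mul_mem hvW (K.w_mem i1)
    have hζW' : ζ' ∈ ww V cf y := mul_mem (hcy (K'.w_mem j)) (K'.w_mem j)
    have e1 : v = ζ * w i1 := by
      rw [hζ, mul_assoc, h.sq hx hx1 _ (K.w_mem i1), mul_one]
    have e2 : c * w' j * c⁻¹ = ζ' * w' j := by
      rw [hζ', mul_assoc (c * w' j * c⁻¹), h.sq hy hy1 _ (K'.w_mem j), mul_one]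
    have e3 : cm v (c * w' j * c⁻¹) = c * cm (w i0) (w' j) * c⁻¹ := by rw [hv]; exact cm_conj c _ _
    rw [← e3, e1, e2, h.cm_mul_left hx hx1 hy hy1 hyx hζW (K.w_mem i1) (mul_mem hζW' (K'.w_mem j)),
      cm_eq_one (h2 _ (mul_mem hζW' (K'.w_mem j))), one_mul,
      h.cm_mul_right hx hx1 hy hy1 hyx (K.w_mem i1) hζW' (K'.w_mem j),
      cm_eq_one (h3 j _ (K.w_mem i1)).symm, one_mul]
  -- (4)
  have h5 : ∀ g ∈ ww V cf y, g * (w i0 * w i1) = (w i0 * w i1) * g := by
    refine K'.sep _ (mul_mem (K.w_mem i0) (K.w_mem i1)) fun j => ?_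
    have hm := K.e_mem h hx hx1 hy hy1 hyx K' i0 j
    have hm' := K.e_mem h hx hx1 hy hy1 hyx K' i1 j
    rw [h.cm_symm hx hx1 hy hy1 hyx (mul_mem (K.w_mem i0) (K.w_mem i1)) (K'.w_mem j),
      h.cm_mul_left hx hx1 hy hy1 hyx (K.w_mem i0) (K.w_mem i1) (K'.w_mem j),
      K'.pi_mul _ (Fam.jj_le hy hy1 hm) _ (Fam.jj_le hy hy1 hm'), h4 j]
    by_cases he : cm (w i0) (w' j) = 1
    · rw [he, hcv 1 (one_mem _), K'.pi_one, add_zero]
    · rw [hc2 _ hm j (K.e_pi' h hx hx1 hy hy1 hyx K' hn2 he), K'.pi_pmul h hy (Fam.jj_le hy hy1 hm), K'.two]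
  obtain ⟨g, hg, hne⟩ := K.w_ne i0
  have h6 : cm (w i0) g * cm (w i1) g = 1 := by
    rw [← h.cm_mul_left hx hx1 hy hy1 hyx (K.w_mem i0) (K.w_mem i1) hg]
    exact cm_eq_one (h5 g hg).symm
  have hm := h.cm_mem hx hx1 hy hy1 hyx (K.w_mem i0) hg
  have hm' := h.cm_mem hx hx1 hy hy1 hyx (K.w_mem i1) hg
  have h7 : pi (cm (w i0) g) + pi (cm (w i1) g) = 0 := by
    rw [← K.pi_mul _ (Fam.jj_le hx hx1 hm) _ (Fam.jj_le hx hx1 hm'), h6, K.pi_one]
  rw [(K.w_all i0 g hg).resolve_left hne] at h7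
  rcases K.w_all i1 g hg with e | e
  · rw [e, add_zero] at h7
    exact K.b_ne i0 h7
  · rw [e] at h7
    have h8 : ∑ i ∈ ({i0, i1} : Finset (Fin n)), b i = 0 := by rw [Finset.sum_pair hi01, h7]
    exact absurd (K.ind _ h8) (Finset.insert_ne_empty _ _)

end Two

/-- **`n ≥ 2` is impossible** -/
theorem false_of {x y : G} [Finite G] (h : Fam T V z cf) (hx : x ∈ V) (hx1 : x ≠ 1) (hy : y ∈ V) (hy1 : y ≠ 1)
    (hyx : y ≠ x) (K : KB V cf x y n pi b w) (hn : 2 ≤ n) (heven : Even n) : False := by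
  obtain ⟨g, hg, e1, e2⟩ := h.trans2 hx hx1 hy hy1 hyx hy hy1 hx hx1 (Ne.symm hyx)
  have K' := K.conj h hx hx1 hy hy1 hg
  rw [e1, e2] at K'
  by_cases hn2 : n = 2
  · exact K.false_of_two h hx hx1 hy hy1 hyx K' hn2
  · exact K.false_of_three h hx hx1 hy hy1 hyx K' (by omega) heven

end KB

end Pair

end Cfsg.Agent.Omega.NO3S.Fit

end

section


/-!
# Text #13963 (helper311), (3.4): `k ≥ 2` is impossible if `A` is not trivial on `F(H)`

* `Fam.exists_kb` : the transvection basis, from the module part;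
* `Fam.one1_of_nilpotent`, `Fam.one1_of_pgroup` : if the image `A` of `W_y` in `H = C_z / Q_z` does not centralise a normal
  nilpotent subgroup of odd order (a normal `p`-subgroup, `p ≠ 2`) of `H`, then `k = 1` (`One1 V cf`).
-/

set_option autoImplicit false
set_option linter.unusedSectionVars false

namespace Cfsg.Agent.Omega.NO3S.Fit

open Subgroup Cfsg Cfsg.Agent.ZN Cfsg.Agent.MinSimple.Geo Cfsg.Agent.Omega.CaseL
open Cfsg.Agent.ZN.Block (conj_mem_of_normalizer conj_mem_of_normalizer' le_normalizer_of_forall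
  mem_normalizer_of)

universe u

variable {G : Type u} [Group G]

namespace Fam

variable {T V : Subgroup G} {z : G} {cf : G → Subgroup G} {M H : Type u} [AddCommGroup M] [Group H]
  [DistribMulAction H M]

section Setup

variable [Finite G] (h : Fam T V z cf) (R : MRep V cf z M H) {y : G} (hy : y ∈ V) (hy1 : y ≠ 1) (hyz : y ≠ z)
include h hy hy1 hyz

theorem img_norm {x : H} (hx : x • R.pi y = R.pi y) : ∀ c ∈ R.img (ww V cf y), x * c * x⁻¹ ∈ R.img (ww V cf y) := by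
  have hW := h.ww_le_cf' hy hy1 h.ln.z_mem h.ln.z_ne
  intro c hc
  obtain ⟨g, hg, rfl⟩ := (R.mem_img hW).mp hc
  obtain ⟨g', hg', e, -⟩ := R.norm_A h hy hy1 hy hy1 hyz hx hg
  rw [e]
  exact (R.mem_img hW).mpr ⟨g', hg', rfl⟩

theorem img_quad : ∀ a ∈ R.img (ww V cf y), ∀ b ∈ R.img (ww V cf y), ∀ m : M, a • (b • m - m) = b • m - m := by
  have hW := h.ww_le_cf' hy hy1 h.ln.z_mem h.ln.z_ne
  intro a ha b hb m
  obtain ⟨g, hg, rfl⟩ := (R.mem_img hW).mp ha
  obtain ⟨g', hg', rfl⟩ := (R.mem_img hW).mp hb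
  obtain ⟨w, hw, rfl⟩ := R.pi_surj m
  exact R.quad h hy hy1 hyz hg hg' hw

omit hyz in
theorem img_sq : ∀ a ∈ R.img (ww V cf y), a * a = 1 := by
  have hW := h.ww_le_cf' hy hy1 h.ln.z_mem h.ln.z_ne
  intro a ha
  obtain ⟨g, hg, rfl⟩ := (R.mem_img hW).mp ha
  exact R.sq_A h hy hy1 hg

/-- LEMMA FIX for `[M,A]` -/
theorem img_fix : ∀ k ∈ Abs.brs M (R.img (ww V cf y)), k ≠ 0 → (∀ t ∈ R.img T, t • k = k) → k = R.pi y := by
  have hz := h.ln.z_mem
  have hz1 := h.ln.z_ne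
  have hW := h.ww_le_cf' hy hy1 hz hz1
  have hjz : jj V cf ≤ ww V cf z := jj_le hz hz1
  let B : AddSubgroup M :=
    { carrier := {m | ∃ f ∈ jj V cf, R.pi f = m}
      zero_mem' := ⟨1, one_mem _, R.pi_one h⟩
      add_mem' := by
        rintro _ _ ⟨f, hf, rfl⟩ ⟨g, hg, rfl⟩
        exact ⟨f * g, mul_mem hf hg, R.pi_mul f (hjz hf) g (hjz hg)⟩
      neg_mem' := by
        rintro _ ⟨f, hf, rfl⟩
        exact ⟨f⁻¹, inv_mem hf, R.pi_inv h (hjz hf)⟩ }
  have hB : Abs.brs M (R.img (ww V cf y)) ≤ B := by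
    refine Abs.brs_le fun a ha => ?_
    obtain ⟨g, hg, rfl⟩ := (R.mem_img hW).mp ha
    rintro _ ⟨m, rfl⟩
    obtain ⟨w, hw, rfl⟩ := R.pi_surj m
    rw [R.comm_eq h (hW hg) hw]
    exact ⟨_, h.comm_mem_jj hy hy1 hz hz1 (Ne.symm hyz) hg hw, rfl⟩
  intro k hk hk0 hkT
  obtain ⟨f, hf, rfl⟩ := hB hk
  exact (R.fixI h hy hy1 hyz hf hkT).resolve_left hk0

omit hyz in
/-- (CP) -/
theorem img_cp (hyz : y ≠ z) {x : H} (hx : x • R.pi y = R.pi y) (hodd : Odd (orderOf x)) {a : H}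
    (ha : a ∈ R.img (ww V cf y)) (hi : a * x * a⁻¹ = x⁻¹) : x = 1 := by
  have h1 := h.img_norm R hy hy1 hyz hx a ha
  have h2 : x * x ∈ R.img (ww V cf y) := by
    have h3 := mul_mem h1 (inv_mem ha)
    have h4 : x = a * x⁻¹ * a⁻¹ := (Abs.inv_symm hi).symm
    have h5 : x * a * x⁻¹ * a⁻¹ = x * x := by
      calc x * a * x⁻¹ * a⁻¹ = x * (a * x⁻¹ * a⁻¹) := by group
        _ = x * x := by rw [← h4]
    rwa [h5] at h3
  have h3 := h.img_sq R hy hy1 _ h2
  have h4 : x ^ 4 = 1 := by rw [← h3]; simp only [pow_succ, pow_zero, one_mul, mul_assoc]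
  have h5 : orderOf x ∣ 4 := orderOf_dvd_of_pow_eq_one h4
  have h6 : (orderOf x).Coprime 4 := by
    have : Nat.Coprime (orderOf x) (2 ^ 2) := Nat.Coprime.pow_right 2 (Nat.coprime_two_right.mpr hodd)
    exact this
  exact orderOf_eq_one_iff.mp (Nat.eq_one_of_dvd_coprimes h6 dvd_rfl h5)

/-- `W_z ∩ Q_y` modulo `⟨z⟩` -/
def m1 (h : Fam T V z cf) (R : MRep V cf z M H) (y : G) : AddSubgroup M where
  carrier := {m | ∃ w ∈ ww V cf z, w ∈ qq V cf y ∧ R.pi w = m}
  zero_mem' := ⟨1, one_mem _, one_mem _, R.pi_one h⟩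
  add_mem' := by
    rintro _ _ ⟨f, hf, hf', rfl⟩ ⟨g, hg, hg', rfl⟩
    exact ⟨f * g, mul_mem hf hg, mul_mem hf' hg', R.pi_mul f hf g hg⟩
  neg_mem' := by
    rintro _ ⟨f, hf, hf', rfl⟩
    exact ⟨f⁻¹, inv_mem hf, inv_mem hf', R.pi_inv h hf⟩

omit hyz in
theorem m1_br : ∀ m ∈ m1 h R y, ∀ a ∈ R.img (ww V cf y), a • m = m ∨ a • m = m + R.pi y := by
  have hW := h.ww_le_cf' hy hy1 h.ln.z_mem h.ln.z_ne
  rintro _ ⟨w, hw, hwy, rfl⟩ a ha
  obtain ⟨g, hg, rfl⟩ := (R.mem_img hW).mp ha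
  rcases R.br_one h hy hy1 hg hw hwy with e | e
  · exact Or.inl (sub_eq_zero.mp e)
  · right
    rw [← e]; abel

/-- `|M : M1| ≤ |A|` -/
theorem m1_index [Finite M] [Finite H] : (m1 h R y).index ≤ Nat.card (R.img (ww V cf y)) := by
  classical
  have hz := h.ln.z_mem
  have hz1 := h.ln.z_ne
  have hW := h.ww_le_cf' hy hy1 hz hz1
  obtain ⟨g, hg, e1, e2⟩ := h.trans2 hz hz1 hy hy1 hyz hy hy1 hz hz1 (Ne.symm hyz)
  choose w hw hwm using R.pi_surj
  have hgw : ∀ {a : G}, a ∈ ww V cf z → g * a * g⁻¹ ∈ ww V cf y := by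
    intro a ha
    have := h.conj_ww hg hz hz1 ha
    rwa [e1] at this
  have hphiy : R.phi y = 1 := (R.phi_ker y (h.V_le_cf hz hz1 hy)).mpr
    (h.kk_le_qq hz hz1 (h.V_le_kk hz hz1 hy))
  have hadd : ∀ m m' : M, R.phi (g * w (m + m') * g⁻¹) = R.phi (g * w m * g⁻¹) * R.phi (g * w m' * g⁻¹) := by
    intro m m'
    rw [← R.phi_mul _ (hW (hgw (hw m))) _ (hW (hgw (hw m')))]
    have e : R.pi (w (m + m')) = R.pi (w m * w m') := by rw [R.pi_mul _ (hw m) _ (hw m'), hwm, hwm, hwm]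
    rcases (R.pi_eq h (hw _) (mul_mem (hw m) (hw m'))).mp e with e3 | e3
    · rw [e3]; congr 1; group
    · have e4 : g * w (m + m') * g⁻¹ = y * (g * (w m * w m') * g⁻¹) := by
        rw [e3, ← e1]; group
      rw [e4, R.phi_mul y (h.V_le_cf hz hz1 hy) _ (hW (hgw (mul_mem (hw m) (hw m')))), hphiy, one_mul]
      congr 1; group
  let ψ : M →+ Additive (R.img (ww V cf y)) := AddMonoidHom.mk'
    (fun m => Additive.ofMul ⟨R.phi (g * w m * g⁻¹), (R.mem_img hW).mpr ⟨_, hgw (hw m), rfl⟩⟩)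
    (fun m m' => congrArg Additive.ofMul (Subtype.ext (hadd m m')))
  have hker : ψ.ker ≤ m1 h R y := by
    intro m hm
    have h1 : R.phi (g * w m * g⁻¹) = 1 := congrArg (fun a : Additive (R.img (ww V cf y)) => (a.toMul : H)) hm
    refine ⟨w m, hw m, ?_, hwm m⟩
    have h2 := (R.phi_ker _ (hW (hgw (hw m)))).mp h1
    have h3 := h.conj_qq (inv_mem hg) hz hz1 h2
    have e3 : g⁻¹ * z * g⁻¹⁻¹ = y := by rw [← e2]; group
    have e4 : g⁻¹ * (g * w m * g⁻¹) * g⁻¹⁻¹ = w m := by group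
    rwa [e3, e4] at h3
  calc (m1 h R y).index ≤ ψ.ker.index := AddSubgroup.index_antitone hker
    _ = Nat.card ψ.range := AddSubgroup.index_ker ψ
    _ ≤ Nat.card (Additive (R.img (ww V cf y))) := Nat.card_le_card_of_injective _ Subtype.val_injective
    _ = Nat.card (R.img (ww V cf y)) := rfl

/-- `k ≥ 2` -/
theorem img_card (hk : ¬ One1 V cf) [Finite H] : 2 < Nat.card (R.img (ww V cf y)) := by
  classical
  have hz := h.ln.z_mem
  have hz1 := h.ln.z_ne
  have hW := h.ww_le_cf' hy hy1 hz hz1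
  by_contra hcon
  apply hk
  refine h.one1_of hy hy1 hz hz1 (Ne.symm hyz) fun w hw w' hw' hwz hwz' => ?_
  by_contra hne
  have h1 : R.phi w ≠ 1 := R.phi_ne_one (hW hw) hwz
  have h1' : R.phi w' ≠ 1 := R.phi_ne_one (hW hw') hwz'
  have h2 : R.phi w ≠ R.phi w' := by
    intro e
    apply hne
    rw [← R.phi_ker _ (mul_mem (hW hw) (hW hw')), R.phi_mul _ (hW hw) _ (hW hw'), ← e]
    exact R.sq_A h hy hy1 hw
  have h3 : (({1, R.phi w, R.phi w'} : Finset H) : Set H) ⊆ (R.img (ww V cf y) : Set H) := by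
    intro x hx
    simp only [Finset.coe_insert, Finset.coe_singleton, Set.mem_insert_iff, Set.mem_singleton_iff] at hx
    rcases hx with rfl | rfl | rfl
    · exact one_mem _
    · exact (R.mem_img hW).mpr ⟨w, hw, rfl⟩
    · exact (R.mem_img hW).mpr ⟨w', hw', rfl⟩
  have h4 := Set.ncard_le_ncard h3 (Set.toFinite _)
  rw [Set.ncard_coe_finset] at h4
  have h5 : ({1, R.phi w, R.phi w'} : Finset H).card = 3 := by
    rw [Finset.card_insert_of_notMem, Finset.card_insert_of_notMem, Finset.card_singleton]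
    · simpa using h2
    · simp [Ne.symm h1, Ne.symm h1']
  have h6 : Set.ncard (R.img (ww V cf y) : Set H) = Nat.card (R.img (ww V cf y)) :=
    (Nat.card_coe_set_eq _).symm
  omega

end Setup

/-- **(3.4), the transvection basis** -/
theorem exists_kb [Finite G] [Finite M] [Finite H] [FaithfulSMul H M] (h : Fam T V z cf) (R : MRep V cf z M H)
    {y : G} (hy : y ∈ V) (hy1 : y ≠ 1) (hyz : y ≠ z) {F : Subgroup H} (hFn : F.Normal)
    (hnil : Group.IsNilpotent F) (hF : Odd (Nat.card F))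
    (hne : ∃ w ∈ ww V cf y, ∃ f ∈ F, R.phi w * f ≠ f * R.phi w) (hk : ¬ One1 V cf) :
    ∃ (n : ℕ) (b : Fin n → M) (w : Fin n → G), 2 ≤ n ∧ Even n ∧ KB V cf z y n R.pi b w := by
  classical
  have hz := h.ln.z_mem
  have hz1 := h.ln.z_ne
  have hW := h.ww_le_cf' hy hy1 hz hz1
  have two := R.two h
  set A := R.img (ww V cf y) with hA
  have hmemA : ∀ {x : H}, x ∈ A ↔ ∃ g ∈ ww V cf y, R.phi g = x := R.mem_img hW
  have hsq : ∀ a ∈ A, a * a = 1 := h.img_sq R hy hy1
  have hq : ∀ a ∈ A, ∀ b ∈ A, ∀ m : M, a • (b • m - m) = b • m - m := h.img_quad R hy hy1 hyz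
  have hAF : ∀ a ∈ A, ∀ f ∈ F, a * f * a⁻¹ ∈ F := fun a _ f hf => hFn.conj_mem f hf a
  have hAF' : A ≤ normalizer (F : Set H) := by
    rw [normalizer_eq_top_iff.mpr hFn]; exact le_top
  have hT2 := R.img_T_two h
  have hTA : ∀ t ∈ R.img T, ∀ c ∈ A, t * c * t⁻¹ ∈ A := fun t ht =>
    h.img_norm R hy hy1 hyz (R.img_T_fix h hy hy1 hyz ht)
  have FIX := h.img_fix R hy hy1 hyz
  have hfaith := (Abs.faithful_on_F two hq hF hAF hT2 hTA (fun t _ f hf => hFn.conj_mem f hf t) FIX (by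
    obtain ⟨w, hw, f, hf, e⟩ := hne
    exact ⟨R.phi w, hmemA.mpr ⟨w, hw, rfl⟩, f, hf, e⟩)).2
  have hCP : ∀ x ∈ F, x • R.pi y = R.pi y → ∀ a ∈ A, a * x * a⁻¹ = x⁻¹ → x = 1 := by
    intro x hx hxv a ha hi
    refine h.img_cp R hy hy1 hyz hxv ?_ ha hi
    refine Odd.of_dvd_nat hF ?_
    have := orderOf_dvd_natCard (⟨x, hx⟩ : F)
    rwa [Subgroup.orderOf_mk] at this
  obtain ⟨n, a, b, m, hn, B, hM1⟩ := Abs.exists_tvb two hsq hq hnil hF hAF' hfaith
    (h.img_card R hy hy1 hyz hk) hCP (m1 h R y) (h.m1_index R hy hy1 hyz) (h.m1_br R hy hy1)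
  have hpc : ∀ v ∈ ww V cf z, ∀ g ∈ ww V cf y, R.pi (cm v g) = R.phi g • R.pi v - R.pi v := by
    intro v hv g hg
    rw [R.comm_eq h (hW hg) hv]
    congr 1
    exact (h.cm_symm hz hz1 hy hy1 hyz hv hg).symm
  -- `W_z ∩ Q_y` centralises `W_y`
  have hC : ∀ v ∈ ww V cf z, v ∈ qq V cf y → ∀ g ∈ ww V cf y, v * g = g * v := by
    intro v hv hvy g hg
    have h1 : R.pi v ∈ m1 h R y := ⟨v, hv, hvy, rfl⟩
    have h2 := (hM1 _).mp h1 _ (hmemA.mpr ⟨g, hg, rfl⟩)
    have h3 : R.pi (cm v g) = 0 := by rw [hpc v hv g hg, h2, sub_self]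
    have hm := h.cm_mem hz hz1 hy hy1 hyz hv hg
    rcases h.qq_cases hy hvy hg with e | e
    · exact comm_of_conj_eq e
    · exfalso
      have e1 : cm v g = y := by unfold cm; rw [e, mul_assoc, mul_inv_cancel, mul_one]
      rw [e1] at h3
      exact R.v0_ne h hy hy1 hyz h3
  -- the same for `(y, z)`
  have hC' : ∀ g ∈ ww V cf y, g ∈ qq V cf z → ∀ v ∈ ww V cf z, v * g = g * v := by
    intro g hg hgz v hv
    obtain ⟨k, hkN, e1, e2⟩ := h.trans2 hz hz1 hy hy1 hyz hy hy1 hz hz1 (Ne.symm hyz)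
    have h1 := h.conj_ww hkN hy hy1 hg
    have h2 := h.conj_qq hkN hz hz1 hgz
    have h3 := h.conj_ww hkN hz hz1 hv
    rw [e2] at h1
    rw [e1] at h2 h3
    have h4 := hC _ h1 h2 _ h3
    calc v * g = k⁻¹ * ((k * v * k⁻¹) * (k * g * k⁻¹)) * k := by group
      _ = k⁻¹ * ((k * g * k⁻¹) * (k * v * k⁻¹)) * k := by rw [h4]
      _ = g * v := by group
  -- `π v ∈ M1` implies `v ∈ C(W_y)`
  have hM1' : ∀ v ∈ ww V cf z, (∀ c ∈ A, c • R.pi v = R.pi v) → ∀ g ∈ ww V cf y, v * g = g * v := by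
    intro v hv hfix g hg
    obtain ⟨v', hv', hv'y, e⟩ := (hM1 (R.pi v)).mpr hfix
    have h1 := hC v' hv' hv'y g hg
    rcases (R.pi_eq h hv' hv).mp e with e1 | e1
    · rw [← e1]; exact h1
    · have h2 : v = z * v' := by rw [e1, ← mul_assoc, h.ln.zz, one_mul]
      rw [h2]
      exact mul_comm_of (h.V_comm hz (h.ww_le_cent hy hy1 hg)) h1
  choose w hw hwm using fun i => R.pi_surj (m i)
  refine ⟨n, b, w, hn, B.even hq two hT2 hTA FIX hn, ⟨two, R.pi_mul, R.pi_ker, hw, ?_, ?_, B.ind, ?_, ?_, ?_, ?_, ?_⟩⟩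
  · intro i g hg
    rw [hpc _ (hw i) g hg, hwm]
    rcases (B.all hq two (hmemA.mpr ⟨g, hg, rfl⟩) i).1 with e | e
    · left; rw [e, sub_self]
    · right; rw [e]; abel
  · intro i
    obtain ⟨g, hg, e⟩ := hmemA.mp (B.mem i)
    refine ⟨g, hg, ?_⟩
    rw [hpc _ (hw i) g hg, hwm, e, B.dual, add_sub_cancel_left]
    exact B.ne_zero i
  · exact B.sum_eq hq two hTA FIX (by omega)
  · intro g hg h1 v hv
    have h2 : R.phi g = 1 := by
      refine B.eq_one (hmemA.mpr ⟨g, hg, rfl⟩) fun j => ?_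
      have := h1 j
      rw [hpc _ (hw j) g hg, hwm] at this
      exact sub_eq_zero.mp this
    exact hC' g hg ((R.phi_ker g (hW hg)).mp h2) v hv
  · intro i v hv h1
    have h2 : ∀ j, j ≠ i → a j • R.pi v = R.pi v := by
      intro j hji
      obtain ⟨g, hg, e⟩ := hmemA.mp (B.mem j)
      rcases B.tv j (R.pi v) with e1 | e1
      · exact e1
      exfalso
      have h3 := h1 g hg
      rw [hpc v hv g hg, e, e1, add_sub_cancel_left] at h3
      rcases h3 with e2 | e2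
      · exact B.ne_zero j e2
      · exact hji (B.inj two e2)
    rcases B.tv i (R.pi v) with e | e
    · left
      refine hM1' v hv (B.fix_of fun j => ?_)
      by_cases hji : j = i
      · rw [hji]; exact e
      · exact h2 j hji
    · right
      refine hM1' _ (mul_mem hv (hw i)) (B.fix_of fun j => ?_)
      rw [R.pi_mul v hv _ (hw i), hwm, smul_add]
      by_cases hji : j = i
      · rw [hji, e, B.dual]
        calc R.pi v + b i + (m i + b i) = R.pi v + m i + (b i + b i) := by abel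
          _ = R.pi v + m i := by rw [two, add_zero]
      · rw [h2 j hji, B.dual' j i hji]
  · intro c hc i u hu e
    have hcc := h.cent_le_cf hz hz1 hc
    obtain ⟨j, hj⟩ := B.smul_cen hq two (h.img_norm R hy hy1 hyz (R.cent_v0 h hy hc)) i
    refine ⟨j, ?_⟩
    rw [← R.act c hcc u (jj_le hz hz1 hu), e, hj]
  · intro i j
    obtain ⟨t, ht, e⟩ := B.trans hq two hTA FIX i j
    obtain ⟨d, hd, e1⟩ := R.stab h hy hy1 hyz (R.img_T_fix h hy hy1 hyz ht)
    refine ⟨d, hd, fun u hu e2 => ?_⟩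
    rw [← R.act d (h.cent_le_cf hz hz1 hd) u (jj_le hz hz1 hu), e2, e1, e]

/-- **(3.4)**: `k = 1` if `A` does not centralise a normal nilpotent subgroup of odd order of `H` -/
theorem one1_of_nilpotent [Finite G] [Finite M] [Finite H] [FaithfulSMul H M] (h : Fam T V z cf)
    (R : MRep V cf z M H) {y : G} (hy : y ∈ V) (hy1 : y ≠ 1) (hyz : y ≠ z) {F : Subgroup H} (hFn : F.Normal)
    (hnil : Group.IsNilpotent F) (hF : Odd (Nat.card F))
    (hne : ∃ w ∈ ww V cf y, ∃ f ∈ F, R.phi w * f ≠ f * R.phi w) : One1 V cf := by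
  by_contra hk
  obtain ⟨n, b, w, hn, heven, K⟩ := h.exists_kb R hy hy1 hyz hFn hnil hF hne hk
  exact K.false_of h h.ln.z_mem h.ln.z_ne hy hy1 hyz hn heven

/-- **(3.4)**: `k = 1` if `A` does not centralise a normal `p`-subgroup of `H`, `p ≠ 2` -/
theorem one1_of_pgroup [Finite G] [Finite M] [Finite H] [FaithfulSMul H M] (h : Fam T V z cf)
    (R : MRep V cf z M H) {y : G} (hy : y ∈ V) (hy1 : y ≠ 1) (hyz : y ≠ z) {p : ℕ} (hp : p.Prime) (hp2 : p ≠ 2)
    {F : Subgroup H} (hFn : F.Normal) (hF : IsPGroup p F)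
    (hne : ∃ w ∈ ww V cf y, ∃ f ∈ F, R.phi w * f ≠ f * R.phi w) : One1 V cf := by
  have : Fact p.Prime := ⟨hp⟩
  refine h.one1_of_nilpotent R hy hy1 hyz hFn hF.isNilpotent ?_ hne
  obtain ⟨k, hk⟩ := IsPGroup.iff_card.mp hF
  rw [hk]
  exact (hp.odd_of_ne_two hp2).pow

end Fam

end Cfsg.Agent.Omega.NO3S.Fit

end

end

-- merged: Cfsg.Agent.Mrg.Omega.NO3S.Fit.FinMain
section

/-!
# NO-3S, `q = 2`, `n = 1` (helper311's text #13963): the main theorem

`Fam` for the FULL family (`cf p = C_G(p)`), `G` simple; the image of `W_y` does not centralise some nilpotent normal subgroup of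
`H = C_G(z)/Q_z`. Then `G` is known (it is the Tits group). The kill of the type T9 (section 4) is the hypothesis `NineDead`.
-/

set_option autoImplicit false
set_option linter.unusedSectionVars false

namespace Cfsg.Agent.Omega.NO3S.Fit

open Subgroup Cfsg Cfsg.Agent.ZN Cfsg.Agent.MinSimple.Geo Cfsg.Agent.Omega.CaseL

universe u

/-- **the type T9 is impossible** (#13963, section 4) -/
def NineDead : Prop :=
  ∀ (G : Type u) [Group G] [Finite G] (T V : Subgroup G) (z : G) (cf : G → Subgroup G), Fam T V z cf →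
    ∀ (M H : Type u) [AddCommGroup M] [Finite M] [Group H] [Finite H] [DistribMulAction H M] [FaithfulSMul H M]
      (R : MRep V cf z M H) (y : G), y ∈ V → y ≠ 1 → y ≠ z → ∀ (a d1 d2 : H) (b1 b2 : M),
      Abs.NineA (R.pi y) a d1 d2 b1 b2 → (∀ u ∈ ww V cf y, u ∉ qq V cf z → R.phi u = a) →
      (∀ g ∈ normalizer ((jj V cf : Subgroup G) : Set G), g ∈ normalizer (V : Set G)) → False

/-- (3.6) for the subfamily of `H1` -/
def Sub36 : Prop :=
  ∀ (G : Type u) [Group G] [Finite G] (T V : Subgroup G) (z : G) (cf : G → Subgroup G), Fam T V z cf →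
    cf z = centralizer ({z} : Set G) →
    ∀ (M H : Type u) [AddCommGroup M] [Finite M] [Group H] [Finite H] [DistribMulAction H M] [FaithfulSMul H M]
      (R : MRep V cf z M H) (y : G), y ∈ V → y ≠ 1 → y ≠ z → ∀ w ∈ ww V cf y,
      (∀ x : H, x • R.pi y ∈ Abs.br M (R.phi w) → x • R.pi y = R.pi y) → Nat.card (Abs.br M (R.phi w)) = 4 →
      ∀ K : Subgroup H, (∀ x : H, x • R.pi y = R.pi y → x ∈ K) → Fam T V z (subf V z (R.pre K)) →
      (∀ m ∈ spn K (R.pi y), R.phi w • m = m → m ∈ Abs.br M (R.phi w)) →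
      ∀ g ∈ normalizer ((jj V (subf V z (R.pre K)) : Subgroup G) : Set G), g ∈ normalizer (V : Set G)

variable {G : Type u} [Group G] {T V : Subgroup G} {z : G}
variable {M H : Type u} [AddCommGroup M] [Group H] [DistribMulAction H M]

/-- **the main theorem**, `F` a normal `p`-subgroup of `H`, `p` odd -/
theorem Fam.known_of_pgroup (h9 : NineDead.{u}) (h36 : Sub36.{u}) [Finite G] [Finite M] [Finite H]
    [FaithfulSMul H M] (h : Fam T V z cfull) (R : MRep V cfull z M H) {y : G} (hy : y ∈ V) (hy1 : y ≠ 1)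
    (hyz : y ≠ z) {p : ℕ} (hp : p.Prime) (hp2 : p ≠ 2) {F : Subgroup H} (hFn : F.Normal)
    (hF : IsPGroup p F) (hne : ∃ w ∈ ww V cfull y, ∃ f ∈ F, R.phi w * f ≠ f * R.phi w)
    (hs : IsSimpleGroup G) : IsKnownSimple' G := by
  have hk : One1 V cfull := h.one1_of_pgroup R hy hy1 hyz hp hp2 hFn hF hne
  obtain ⟨w, hw, f, hf, hwf⟩ := hne
  have hwz : w ∉ qq V cfull z := by
    intro e
    apply hwf
    rw [(R.phi_ker w (h.ww_le_cf' hy hy1 h.ln.z_mem h.ln.z_ne hw)).mpr e, one_mul, mul_one]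
  have ctx := h.ctx hk R hy hy1 hyz hw hwz
  have hfull : ∀ c ∈ centralizer ({z} : Set G), ∀ v ∈ V, ∀ w ∈ V, c * v * c⁻¹ * w = w * (c * v * c⁻¹) := by
    intro c hc v hv w' hw'
    exact h.ab _ (cj_le_wf hc (conj_mem_cj hv)) _ (h.V_le hw')
  rcases ctx.main' hp hp2 hF ⟨f, hf, fun e => hwf e.symm⟩ with ⟨-, d, -, K⟩ | ⟨h4, hm, ⟨d, hC, K⟩ |
    ⟨H1, d1, d2, b1, b2, K⟩⟩
  · exact (h.m12_false hk R hy hy1 hyz hw K hs hfull).elim
  · exact h.five_glue hk R hy hy1 hyz hw hwz h4 hp hFn hF hC K hs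
  · exfalso
    obtain ⟨h', M', H', i1, i2, i3, i4, i5, i6, R', a', d1', d2', b1', b2', hN, hu⟩ :=
      h.nine_data hk R hy hy1 hyz hw hwz K
    refine h9 G T V z _ h' M' H' R' y hy hy1 hyz a' d1' d2' b1' b2' hN hu ?_
    refine h36 G T V z _ h rfl M H R y hy hy1 hyz w hw (fun x hx => hm x hx) h4 H1 K.stab_le h' ?_
    intro m hm' e
    rw [spn_eq_sp] at hm'
    exact K.fixed ctx hm' e

/-- **the main theorem** -/
theorem Fam.known_of_nilpotent (h9 : NineDead.{u}) (h36 : Sub36.{u}) [Finite G] [Finite M] [Finite H]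
    [FaithfulSMul H M] (h : Fam T V z cfull) (R : MRep V cfull z M H) {y : G} (hy : y ∈ V) (hy1 : y ≠ 1)
    (hyz : y ≠ z) {N : Subgroup H} (hN : N.Normal) (hnil : Group.IsNilpotent N)
    (hne : ∃ w ∈ ww V cfull y, ∃ f ∈ N, R.phi w * f ≠ f * R.phi w) (hs : IsSimpleGroup G) :
    IsKnownSimple' G := by
  obtain ⟨p, hp, hp2, F, hFn, hF, hne'⟩ := h.exists_pgroup_of_not_cen R hN hnil hne
  exact h.known_of_pgroup h9 h36 R hy hy1 hyz hp hp2 hFn hF hne' hs

end Cfsg.Agent.Omega.NO3S.Fit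

end

-- merged: Cfsg.Agent.Mrg.Omega.NO3S.Fit.FinP
section

/-!
# NO-3S, `q = 2`, `n = 1` (helper311's text #13963): the leaf `FitP` of `TwoOneFin`
-/

set_option autoImplicit false

namespace Cfsg.Agent.Omega.NO3S.Fit

open Subgroup Cfsg Cfsg.Agent.Omega.MinPar Cfsg.Agent.Omega.Frame Cfsg.Agent.Omega.FrameNOFF
open Cfsg.Agent.ZN (zl zc o2)

universe u

/-- the leaf `FitP`, from the kill of T9 and (3.6) -/
theorem fitP_of (h9 : NineDead.{u}) (h36 : Sub36.{u}) (K : Cls.{u}) : TwoOne.FitP K := by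
  intro G _ _ _ S P hyp z ho M H _ _ _ _ _ _ R hR
  right
  have hex : ∃ N : Subgroup H, N.Normal ∧ Group.IsNilpotent N ∧ ∃ y ∈ zl (S : Subgroup G) P, y ≠ 1 ∧ y ≠ z ∧
      ¬ R.img (ww (zl (S : Subgroup G) P) TwoOne.cg y) ≤ centralizer (N : Set H) := by
    by_contra hcon
    apply hR
    intro N hN hnil y hy hy1 hyz
    by_contra hle
    exact hcon ⟨N, hN, hnil, y, hy, hy1, hyz, hle⟩
  obtain ⟨N, hN, hnil, y, hy, hy1, hyz, hne⟩ := hex
  have h : Fam (S : Subgroup G) (zl (S : Subgroup G) P) z TwoOne.cg := ho.fam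
  have hne' : ∃ w ∈ ww (zl (S : Subgroup G) P) TwoOne.cg y, ∃ f ∈ N, R.phi w * f ≠ f * R.phi w := by
    by_contra hcon
    push Not at hcon
    apply hne
    intro x hx
    obtain ⟨w, hw, rfl⟩ := (R.mem_img (h.ww_le_cf' hy hy1 h.ln.z_mem h.ln.z_ne)).mp hx
    rw [mem_centralizer_iff]
    intro f hf
    exact (hcon w hw f hf).symm
  exact Fam.known_of_nilpotent h9 h36 h R hy hy1 hyz hN hnil hne' hyp.ctx.simple

end Cfsg.Agent.Omega.NO3S.Fit

end

-- merged: Cfsg.Agent.Mrg.Omega.NO3S.Fit.NineDat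
section

section


/-!
# Text #13963 (helper311), section 4: the shape T9

`NineA ⟹ Shp ⟹ Dat`.
-/

set_option autoImplicit false
set_option linter.unusedSectionVars false

namespace Cfsg.Agent.Omega.NO3S.Fit

open Subgroup Cfsg Cfsg.Agent.ZN Cfsg.Agent.MinSimple.Geo Cfsg.Agent.Omega.CaseL
open Cfsg.Agent.Omega.NO3S.Fit.PlaneForm (cm cm_eq_one cm_inv)
open Cfsg.Agent.Omega.NO3S.Fit.Abs (NineA)
open Cfsg.Agent.ZN.Block (conj_mem_of_normalizer conj_mem_of_normalizer' le_normalizer_of_forall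
  mem_normalizer_of)

universe u

variable {G : Type u} [Group G]

section abs

variable {M H : Type*} [AddCommGroup M] [Group H] [DistribMulAction H M] {v0 : M} {a d1 d2 : H} {b1 b2 : M}

namespace Nine9

/-- the block of `d1` -/
def blkN (M : Type*) [AddCommGroup M] [DistribMulAction H M] (d1 d2 : H) : AddSubgroup M where
  carrier := {m | m + d1 • m + d1 • d1 • m = 0 ∧ d2 • m = m}
  zero_mem' := by simp
  add_mem' := by
    rintro m n ⟨h1, h2⟩ ⟨h3, h4⟩
    refine ⟨?_, by rw [smul_add, h2, h4]⟩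
    have e : m + n + d1 • (m + n) + d1 • d1 • (m + n) =
        (m + d1 • m + d1 • d1 • m) + (n + d1 • n + d1 • d1 • n) := by
      rw [smul_add, smul_add]; abel
    rw [e, h1, h3, add_zero]
  neg_mem' := by
    rintro m ⟨h1, h2⟩
    refine ⟨?_, by rw [smul_neg, h2]⟩
    have e : -m + d1 • (-m) + d1 • d1 • (-m) = -(m + d1 • m + d1 • d1 • m) := by
      rw [smul_neg, smul_neg]; abel
    rw [e, h1, neg_zero]

theorem smul_mem_blkN (c1 : d1 ^ 3 = 1) (comm : d1 * d2 = d2 * d1) {m : M} (hm : m ∈ blkN M d1 d2) :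
    d1 • m ∈ blkN M d1 d2 := by
  obtain ⟨h1, h2⟩ := hm
  refine ⟨?_, ?_⟩
  · have e : d1 • m + d1 • d1 • m + d1 • d1 • d1 • m = d1 • (m + d1 • m + d1 • d1 • m) := by
      rw [smul_add, smul_add]
    rw [e, h1, smul_zero]
  · rw [← mul_smul, ← comm, mul_smul, h2]

theorem pow_smul_mem_blkN (c1 : d1 ^ 3 = 1) (comm : d1 * d2 = d2 * d1) {m : M} (hm : m ∈ blkN M d1 d2) (i : ℕ) :
    d1 ^ i • m ∈ blkN M d1 d2 := by
  induction i with
  | zero => simpa using hm
  | succ i ih =>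
    rw [pow_succ', mul_smul]
    exact smul_mem_blkN c1 comm ih

theorem pow_smul_fix {g : H} {m : M} (h : g • m = m) (i : ℕ) : g ^ i • m = m := by
  induction i with
  | zero => simp
  | succ i ih => rw [pow_succ, mul_smul, h, ih]

variable (N : NineA v0 a d1 d2 b1 b2)
include N

theorem fd (two : ∀ m : M, m + m = 0) (span : AddSubgroup.closure (Set.range fun x : H => x • v0) = ⊤) {m : M}
    (hm : (d1 * d2) • m = m) : m = 0 := by
  have hb1 : b1 ∈ blkN M d1 d2 := ⟨N.s1, N.f2⟩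
  have hb2 : b2 ∈ blkN M d2 d1 := ⟨N.s2, N.f1⟩
  have key : ∀ m : M, ∃ m1 ∈ blkN M d1 d2, ∃ m2 ∈ blkN M d2 d1, m = m1 + m2 := by
    intro m
    have hm : m ∈ AddSubgroup.closure (Set.range fun x : H => x • v0) := by rw [span]; trivial
    induction hm using AddSubgroup.closure_induction with
    | mem m hm =>
      obtain ⟨x, rfl⟩ := hm
      obtain ⟨i, j, h0, h1, rfl⟩ := N.gen x
      have e1 : d1 ^ i • d2 ^ j • b1 = d1 ^ i • b1 := by rw [pow_smul_fix N.f2]
      have e2 : d1 ^ i • d2 ^ j • b2 = d2 ^ j • b2 := by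
        have hc : Commute (d1 ^ i) (d2 ^ j) := (show Commute d1 d2 from N.comm).pow_pow i j
        rw [← mul_smul, hc.eq, mul_smul, pow_smul_fix N.f1]
      refine ⟨_, pow_smul_mem_blkN N.c1 N.comm hb1 i, _, pow_smul_mem_blkN N.c2 N.comm.symm hb2 j, ?_⟩
      change (d1 ^ i * d2 ^ j * h0) • v0 = _
      rw [mul_smul, h1, mul_smul, N.vb, smul_add, smul_add, e1, e2]
    | zero => exact ⟨0, zero_mem _, 0, zero_mem _, by simp⟩
    | add m n _ _ hm hn =>
      obtain ⟨m1, h1, m2, h2, rfl⟩ := hm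
      obtain ⟨n1, h3, n2, h4, rfl⟩ := hn
      exact ⟨m1 + n1, add_mem h1 h3, m2 + n2, add_mem h2 h4, by abel⟩
    | neg m _ hm =>
      obtain ⟨m1, h1, m2, h2, rfl⟩ := hm
      exact ⟨-m1, neg_mem h1, -m2, neg_mem h2, by abel⟩
  have fix1 : ∀ m ∈ blkN M d1 d2, d1 • m = m → m = 0 := by
    intro m hm e
    have h1 := hm.1
    rw [e, e, two, zero_add] at h1
    exact h1
  have fix2 : ∀ m ∈ blkN M d2 d1, d2 • m = m → m = 0 := by
    intro m hm e
    have h1 := hm.1
    rw [e, e, two, zero_add] at h1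
    exact h1
  obtain ⟨m1, h1, m2, h2, rfl⟩ := key m
  have e1 : (d1 * d2) • (m1 + m2) = d1 • m1 + d2 • m2 := by
    rw [smul_add, mul_smul, h1.2]
    congr 1
    rw [N.comm, mul_smul, h2.2]
  rw [e1] at hm
  -- `u := d1 m1 + m1 = d2 m2 + m2`
  have e2 : d1 • m1 + m1 = d2 • m2 + m2 := by
    calc d1 • m1 + m1 = (d1 • m1 + d2 • m2) + (d2 • m2 + m1) := by
          have : (d1 • m1 + d2 • m2) + (d2 • m2 + m1) = d1 • m1 + m1 + (d2 • m2 + d2 • m2) := by abel
          rw [this, two, add_zero]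
      _ = (m1 + m2) + (d2 • m2 + m1) := by rw [hm]
      _ = d2 • m2 + m2 + (m1 + m1) := by abel
      _ = d2 • m2 + m2 := by rw [two, add_zero]
  have u1 : d1 • m1 + m1 ∈ blkN M d1 d2 := add_mem (smul_mem_blkN N.c1 N.comm h1) h1
  have u2 : d1 • m1 + m1 ∈ blkN M d2 d1 := by
    rw [e2]; exact add_mem (smul_mem_blkN N.c2 N.comm.symm h2) h2
  have u0 : d1 • m1 + m1 = 0 := fix1 _ u1 u2.2
  have eqs : ∀ a b : M, a + b = 0 → a = b := by
    intro a b h
    calc a = a + (b + b) := by rw [two, add_zero]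
      _ = (a + b) + b := by abel
      _ = b := by rw [h, zero_add]
  have g1 : m1 = 0 := fix1 _ h1 (eqs _ _ u0)
  have g2 : m2 = 0 := fix2 _ h2 (eqs _ _ (by rw [← e2]; exact u0))
  rw [g1, g2, add_zero]

/-- an element which fixes `v0` and commutes with `d1`, `d2` is trivial -/
theorem eq_one [FaithfulSMul H M] (span : AddSubgroup.closure (Set.range fun x : H => x • v0) = ⊤) {g : H}
    (hg : g • v0 = v0) (h1 : g * d1 = d1 * g) (h2 : g * d2 = d2 * g) : g = 1 := by
  refine FaithfulSMul.eq_of_smul_eq_smul (α := M) fun m => ?_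
  rw [one_smul]
  have hm : m ∈ AddSubgroup.closure (Set.range fun x : H => x • v0) := by rw [span]; trivial
  induction hm using AddSubgroup.closure_induction with
  | mem m hm =>
    obtain ⟨x, rfl⟩ := hm
    obtain ⟨i, j, h0, h3, rfl⟩ := N.gen x
    have hc : Commute g (d1 ^ i * d2 ^ j) :=
      ((show Commute g d1 from h1).pow_right i).mul_right ((show Commute g d2 from h2).pow_right j)
    change g • (d1 ^ i * d2 ^ j * h0) • v0 = (d1 ^ i * d2 ^ j * h0) • v0
    rw [mul_smul _ h0, h3, ← mul_smul, hc.eq, mul_smul, hg]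
  | zero => exact smul_zero _
  | add m n _ _ hm hn => rw [smul_add, hm, hn]
  | neg m _ hm => rw [smul_neg, hm]

theorem comm_of_inv {g d : H} (h : g * d * g⁻¹ = d ∨ g * d * g⁻¹ = d⁻¹) : (g * g) * d = d * (g * g) := by
  have h1 : g * g * d * (g * g)⁻¹ = d := by
    have e : g * g * d * (g * g)⁻¹ = g * (g * d * g⁻¹) * g⁻¹ := by group
    rw [e]
    rcases h with e1 | e1
    · rw [e1, e1]
    · rw [e1]
      have e2 : g * d⁻¹ * g⁻¹ = (g * d * g⁻¹)⁻¹ := by group
      rw [e2, e1, inv_inv]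
  exact mul_inv_eq_iff_eq_mul.mp h1

theorem two_pow [FaithfulSMul H M] (two : ∀ m : M, m + m = 0) (ne : v0 ≠ 0)
    (span : AddSubgroup.closure (Set.range fun x : H => x • v0) = ⊤) {h0 : H} (h : h0 • v0 = v0) :
    h0 ^ 2 ^ 2 = 1 := by
  have first : ∀ g : H, g • v0 = v0 → (g • b1 = b1) → g * g = 1 := by
    intro g hg hgb
    rcases N.st g hg with ⟨-, -, c, d⟩ | ⟨c, -⟩
    · refine eq_one N span ?_ (comm_of_inv N c) (comm_of_inv N d)
      rw [mul_smul, hg, hg]
    · exfalso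
      rw [hgb] at c
      apply ne
      rw [N.vb, c, two]
  have h2 : (h0 * h0) • v0 = v0 := by rw [mul_smul, h, h]
  have h3 : (h0 * h0) • b1 = b1 := by
    rw [mul_smul]
    rcases N.st h0 h with ⟨c, -⟩ | ⟨c, d, -⟩
    · rw [c, c]
    · rw [c, d]
  have h4 := first _ h2 h3
  have e : h0 ^ 2 ^ 2 = (h0 * h0) * (h0 * h0) := by
    simp only [pow_succ, pow_zero, one_mul, Nat.reduceMul, mul_assoc]
  rw [e, h4]

end Nine9

end abs

section shp

variable {T V : Subgroup G} {z : G} {cf : G → Subgroup G} {M H : Type u} [AddCommGroup M] [Group H]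
  [DistribMulAction H M] {R : MRep V cf z M H} {y a : G} {d1 d2 : H} {b1 b2 : M}

/-- **T9 has the common shape.** -/
theorem shp_of_nine [Finite G] [FaithfulSMul H M] (h : Fam T V z cf) (hk : Fam.One1 V cf) (hy : y ∈ V)
    (hy1 : y ≠ 1) (hyz : y ≠ z) (ha : a ∈ ww V cf y) (haQ : a ∉ qq V cf z)
    (N : NineA (R.pi y) (R.phi a) d1 d2 b1 b2) : Shp R y (closure {d1, d2}) (d1 * d2) := by
  have hz := h.ln.z_mem
  have hz1 := h.ln.z_ne
  have two := R.two h
  have span := R.span h hy hy1 hyz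
  have ne := R.v0_ne h hy hy1 hyz
  have hfin : Finite H := Finite.of_surjective R.hom (R.hom_surj (T := T) h)
  have hac := h.ww_le_cf' hy hy1 hz hz1 ha
  have hd1 : d1 ∈ closure ({d1, d2} : Set H) := subset_closure (by simp)
  have hd2 : d2 ∈ closure ({d1, d2} : Set H) := subset_closure (by simp)
  have hcom : ∀ p ∈ closure ({d1, d2} : Set H), ∃ i j : ℕ, p = d1 ^ i * d2 ^ j := by
    have hinv : ∀ d : H, d ^ 3 = 1 → ∀ i : ℕ, (d ^ i)⁻¹ = d ^ (2 * i) := by
      intro d hd i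
      refine inv_eq_of_mul_eq_one_right ?_
      rw [← pow_add, show i + 2 * i = 3 * i by ring, pow_mul, hd, one_pow]
    have hc : ∀ i j : ℕ, d1 ^ i * d2 ^ j = d2 ^ j * d1 ^ i := fun i j =>
      ((show Commute d1 d2 from N.comm).pow_pow i j).eq
    intro p hp
    induction hp using closure_induction with
    | mem x hx =>
      rcases hx with rfl | hx
      · exact ⟨1, 0, by simp⟩
      · rw [Set.mem_singleton_iff] at hx
        exact ⟨0, 1, by simp [hx]⟩
    | one => exact ⟨0, 0, by simp⟩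
    | mul x x' _ _ hx hx' =>
      obtain ⟨i, j, rfl⟩ := hx
      obtain ⟨i', j', rfl⟩ := hx'
      refine ⟨i + i', j + j', ?_⟩
      calc d1 ^ i * d2 ^ j * (d1 ^ i' * d2 ^ j') = d1 ^ i * (d2 ^ j * d1 ^ i') * d2 ^ j' := by group
        _ = d1 ^ i * (d1 ^ i' * d2 ^ j) * d2 ^ j' := by rw [hc i' j]
        _ = d1 ^ (i + i') * d2 ^ (j + j') := by rw [pow_add, pow_add]; group
    | inv x _ hx =>
      obtain ⟨i, j, rfl⟩ := hx
      refine ⟨2 * i, 2 * j, ?_⟩
      rw [mul_inv_rev, hinv d2 N.c2, hinv d1 N.c1, hc]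
  have habel : ∀ p ∈ closure ({d1, d2} : Set H), ∀ q ∈ closure ({d1, d2} : Set H), p * q = q * p := by
    intro p hp q hq
    obtain ⟨i, j, rfl⟩ := hcom p hp
    obtain ⟨i', j', rfl⟩ := hcom q hq
    have hd : Commute d1 d2 := N.comm
    have : Commute (d1 ^ i * d2 ^ j) (d1 ^ i' * d2 ^ j') := by
      refine Commute.mul_right ?_ ?_
      · exact Commute.mul_left ((Commute.refl d1).pow_pow i i') (hd.symm.pow_pow j i')
      · exact Commute.mul_left (hd.pow_pow i j') ((Commute.refl d2).pow_pow j j')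
    exact this.eq
  have hcube : ∀ p ∈ closure ({d1, d2} : Set H), p ^ 3 = 1 := by
    intro p hp
    obtain ⟨i, j, rfl⟩ := hcom p hp
    have hd : Commute (d1 ^ i) (d2 ^ j) := (show Commute d1 d2 from N.comm).pow_pow i j
    rw [hd.mul_pow, ← pow_mul, ← pow_mul, mul_comm i, mul_comm j, pow_mul, pow_mul, N.c1, N.c2, one_pow, one_pow,
      one_mul]
  have hnor0 : ∀ h0 : H, h0 • R.pi y = R.pi y → ∀ p ∈ closure ({d1, d2} : Set H),
      h0 * p * h0⁻¹ ∈ closure ({d1, d2} : Set H) := by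
    intro h0 hh p hp
    have h1 : h0 * d1 * h0⁻¹ ∈ closure ({d1, d2} : Set H) ∧ h0 * d2 * h0⁻¹ ∈ closure ({d1, d2} : Set H) := by
      rcases N.st h0 hh with ⟨-, -, c, d⟩ | ⟨-, -, c, d⟩
      · constructor
        · rcases c with e | e <;> rw [e]
          · exact hd1
          · exact inv_mem hd1
        · rcases d with e | e <;> rw [e]
          · exact hd2
          · exact inv_mem hd2
      · constructor
        · rcases c with e | e <;> rw [e]
          · exact hd2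
          · exact inv_mem hd2
        · rcases d with e | e <;> rw [e]
          · exact hd1
          · exact inv_mem hd1
    obtain ⟨i, j, rfl⟩ := hcom p hp
    have e : h0 * (d1 ^ i * d2 ^ j) * h0⁻¹ = (h0 * d1 * h0⁻¹) ^ i * (h0 * d2 * h0⁻¹) ^ j := by
      rw [conj_pow, conj_pow]; group
    rw [e]
    exact mul_mem (pow_mem h1.1 _) (pow_mem h1.2 _)
  have hinvP : ∀ p ∈ closure ({d1, d2} : Set H), R.phi a * p * (R.phi a)⁻¹ = p⁻¹ := by
    intro p hp
    have hq1 : ∀ q ∈ closure ({d1, d2} : Set H), R.phi a * q * (R.phi a)⁻¹ = q⁻¹ := by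
      intro q hq
      induction hq using closure_induction with
      | mem x hx =>
        rcases hx with rfl | hx
        · exact N.inv1
        · rw [Set.mem_singleton_iff] at hx
          rw [hx]; exact N.inv2
      | one => group
      | mul x x' hx0 hx0' hx hx' =>
        have e : R.phi a * (x * x') * (R.phi a)⁻¹ = (R.phi a * x * (R.phi a)⁻¹) * (R.phi a * x' * (R.phi a)⁻¹) := by
          group
        rw [e, hx, hx', ← mul_inv_rev, habel x' hx0' x hx0]
      | inv x _ hx =>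
        have e : R.phi a * x⁻¹ * (R.phi a)⁻¹ = (R.phi a * x * (R.phi a)⁻¹)⁻¹ := by group
        rw [e, hx]
    exact hq1 p hp
  refine
    { card := N.card, dP := mul_mem hd1 hd2, fd := fun m hm => Nine9.fd N two span hm, odd := ?_, nor := ?_
      inv := ?_, gen := ?_, two := fun h0 hh => ⟨2, Nine9.two_pow N two ne span hh⟩ }
  · have hfact : Fact (Nat.Prime 3) := ⟨Nat.prime_three⟩
    have hp : IsPGroup 3 (closure ({d1, d2} : Set H)) := by
      rintro ⟨p, hp⟩
      refine ⟨1, Subtype.ext ?_⟩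
      change p ^ 3 ^ 1 = 1
      rw [pow_one]
      exact hcube p hp
    obtain ⟨n, hn⟩ := IsPGroup.iff_card.mp hp
    rw [hn]
    exact Odd.pow (by decide)
  · intro x p hp
    obtain ⟨i, j, h0, h1, rfl⟩ := N.gen x
    have h2 := hnor0 h0 h1 p hp
    have h3 : d1 ^ i * d2 ^ j ∈ closure ({d1, d2} : Set H) := mul_mem (pow_mem hd1 _) (pow_mem hd2 _)
    have e : d1 ^ i * d2 ^ j * h0 * p * (d1 ^ i * d2 ^ j * h0)⁻¹ =
        (d1 ^ i * d2 ^ j) * (h0 * p * h0⁻¹) * (d1 ^ i * d2 ^ j)⁻¹ := by group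
    rw [e]
    exact mul_mem (mul_mem h3 h2) (inv_mem h3)
  · intro a' ha' haQ' p hp
    have hac' := h.ww_le_cf' hy hy1 hz hz1 ha'
    have h1 := hk y hy hy1 z hz hz1 (Ne.symm hyz) a' ha' a ha haQ' haQ
    have h2 : R.phi a' = R.phi a := by
      rw [R.phi_eq hac' hac, h.inv_ww hy hy1 ha]
      exact h1
    rw [h2]
    exact hinvP p hp
  · intro x
    obtain ⟨i, j, h0, h1, rfl⟩ := N.gen x
    exact ⟨d1 ^ i * d2 ^ j, mul_mem (pow_mem hd1 _) (pow_mem hd2 _), h0, h1, rfl⟩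

/-- **T9 gives `Dat`.** -/
theorem dat_of_nine [Finite G] [FaithfulSMul H M] (h : Fam T V z cf) (hk : Fam.One1 V cf) (hy : y ∈ V)
    (hy1 : y ≠ 1) (hyz : y ≠ z) (ha : a ∈ ww V cf y) (haQ : a ∉ qq V cf z)
    (N : NineA (R.pi y) (R.phi a) d1 d2 b1 b2) : Dat T V z cf y :=
  ⟨h, hy, hy1, hyz, M, H, _, _, _, ‹_›, R, _, _, shp_of_nine h hk hy hy1 hyz ha haQ N⟩

end shp

end Cfsg.Agent.Omega.NO3S.Fit

end

section


/-!
# NO-3S, `q = 2`, `n = 1` (helper311's text #13963): (4.6), the group part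

`Fam.nine_core` : `E = jj V cf`, `|E / V| = 2`, `u ∈ E - V`, `C_G(V)` a 2-group, `K_z ∩ K_y = E`, `N_G(E) ≤ N_G(V)`, an element
`f ∈ cf z ∩ C_G(u)` with `y y^f y^{f²} ∈ u⟨z⟩`, `[y^f, b] ∈ {uy, us}` for `b ∈ W_y - Q_z`, and `Q_z` separates the elements of
`W_z / ⟨z⟩`: this is impossible (`J = C_G(u)`, `R = O₂(J)`).
-/

set_option autoImplicit false
set_option linter.unusedSectionVars false

namespace Cfsg.Agent.Omega.NO3S.Fit

open Subgroup Cfsg Cfsg.Agent.ZN Cfsg.Agent.MinSimple.Geo Cfsg.Agent.Omega.CaseL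
open Cfsg.Agent.ZN.Block (conj_mem_of_normalizer conj_mem_of_normalizer' le_normalizer_of_forall
  mem_normalizer_of)
open scoped commutatorElement

universe u

variable {G : Type u} [Group G]

/-- the centralizer of an involution is 2-local -/
theorem isTwoLocal_cent {u : G} (hu2 : u * u = 1) (hu1 : u ≠ 1) : IsTwoLocal (centralizer ({u} : Set G)) := by
  refine ⟨zpowers u, isPGroup_zpowers hu2, ?_, ?_⟩
  · rw [Ne, zpowers_eq_bot]; exact hu1
  · ext g
    rw [mem_centralizer_singleton_iff]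
    constructor
    · intro hg
      refine centralizer_le_normalizer _ (mem_centralizer_iff.mpr fun x hx => ?_)
      obtain ⟨m, rfl⟩ := mem_zpowers_iff.mp hx
      exact ((show Commute g u from hg).zpow_right m).eq.symm
    · intro hg
      have h1 : g * u * g⁻¹ ∈ zpowers u := (mem_normalizer_iff.mp hg u).mp (mem_zpowers u)
      rcases (mem_zpowers_iff_of_mul_self hu2).mp h1 with e | e
      · exact absurd (conj_eq_one_iff.mp e) hu1
      · exact comm_of_conj_eq e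

/-- a solvable group generated by its derived group and a central element is generated by this element -/
theorem eq_zpowers_of_commutator {N : Subgroup G} (hs : Group.IsSolvable N) {u : G} (huN : u ∈ N)
    (hu : ∀ x ∈ N, x * u = u * x) (h : ∀ x ∈ N, ∃ d ∈ ⁅N, N⁆, ∃ c ∈ zpowers u, x = d * c) :
    ∀ x ∈ N, x ∈ zpowers u := by
  have hle : ⁅N, N⁆ ≤ ⁅⁅N, N⁆, ⁅N, N⁆⁆ := by
    rw [commutator_le]
    intro a ha b hb
    obtain ⟨d, hd, c, hc, rfl⟩ := h a ha
    obtain ⟨d', hd', c', hc', rfl⟩ := h b hb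
    have hNN : ⁅N, N⁆ ≤ N := by
      rw [commutator_le]
      intro a ha b hb
      rw [commutatorElement_def]
      exact mul_mem (mul_mem (mul_mem ha hb) (inv_mem ha)) (inv_mem hb)
    have hcen : ∀ c ∈ zpowers u, ∀ x ∈ N, Commute c x := by
      intro c hc x hx
      obtain ⟨m, rfl⟩ := mem_zpowers_iff.mp hc
      exact ((show Commute x u from hu x hx).zpow_right m).symm
    have hcN : ∀ c ∈ zpowers u, c ∈ N := fun c hc => by
      obtain ⟨m, rfl⟩ := mem_zpowers_iff.mp hc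
      exact zpow_mem huN m
    have e : ⁅d * c, d' * c'⁆ = ⁅d, d'⁆ := by
      have e1 := (hcen c hc _ (hNN hd')).eq
      have e2 := (hcen c hc _ (hcN c' hc')).eq
      have e3 := (hcen c' hc' _ (hNN hd)).eq
      have e4 := (hcen c' hc' _ (hNN hd')).eq
      rw [commutatorElement_def, commutatorElement_def, mul_inv_rev, mul_inv_rev]
      calc d * c * (d' * c') * (c⁻¹ * d⁻¹) * (c'⁻¹ * d'⁻¹)
          = d * (c * d') * c' * c⁻¹ * d⁻¹ * c'⁻¹ * d'⁻¹ := by group
        _ = d * d' * (c * c') * c⁻¹ * d⁻¹ * c'⁻¹ * d'⁻¹ := by rw [e1]; group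
        _ = d * d' * c' * (c * c⁻¹) * d⁻¹ * c'⁻¹ * d'⁻¹ := by rw [e2]; group
        _ = d * d' * (c' * d⁻¹) * c'⁻¹ * d'⁻¹ := by group
        _ = d * d' * (d⁻¹ * c') * c'⁻¹ * d'⁻¹ := by
            rw [((hcen c' hc' _ (hNN hd)).inv_right).eq]
        _ = d * d' * d⁻¹ * d'⁻¹ := by group
    rw [e]
    exact commutator_mem_commutator hd hd'
  -- `⁅N, N⁆ = ⊥`
  have hNN : ⁅N, N⁆ ≤ N := by
    rw [commutator_le]
    intro a ha b hb
    rw [commutatorElement_def]
    exact mul_mem (mul_mem (mul_mem ha hb) (inv_mem ha)) (inv_mem hb)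
  have hbot : ⁅N, N⁆ = ⊥ := by
    by_contra hne
    set D := (⁅N, N⁆).subgroupOf N with hD
    have hmap : D.map N.subtype = ⁅N, N⁆ := by rw [hD, map_subgroupOf_eq_of_le hNN]
    have hD1 : D ≠ ⊥ := by
      intro e
      rw [e, Subgroup.map_bot] at hmap
      exact hne hmap.symm
    have hlt := Group.IsSolvable.commutator_lt_of_ne_bot hD1
    have h2 : D ≤ ⁅D, D⁆ := by
      have h3 : D.map N.subtype ≤ (⁅D, D⁆).map N.subtype := by
        rw [map_commutator, hmap]; exact hle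
      exact (map_le_map_iff_of_injective N.subtype_injective).mp h3
    exact absurd h2 (not_le_of_gt hlt)
  intro x hx
  obtain ⟨d, hd, c, hc, rfl⟩ := h x hx
  rw [hbot, mem_bot] at hd
  rw [hd, one_mul]; exact hc

namespace Fam

variable {T V : Subgroup G} {z : G} {cf : G → Subgroup G}

/-- an element of `N_G(V)` can be corrected by `C_G(V)` to centralize `u ∈ I - V`, `|I / V| = 2` -/
theorem exists_adj [Finite G] (h : Fam T V z cf) {u : G} (hu : u ∈ jj V cf) (huV : u ∉ V)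
    (hjj : ∀ e ∈ jj V cf, e ∈ V ∨ e * u⁻¹ ∈ V) {g : G} (hg : g ∈ normalizer (V : Set G)) :
    ∃ c ∈ centralizer (V : Set G), c * g ∈ centralizer ({u} : Set G) := by
  have h1 : g * u * g⁻¹ ∈ jj V cf := conj_mem_of_normalizer h.normalizer_le_normalizer_jj hg hu
  have h2 : g * u * g⁻¹ * u⁻¹ ∈ V := by
    rcases hjj _ h1 with e | e
    · exfalso
      apply huV
      have := h.conj_pt' hg e
      have e' : g⁻¹ * (g * u * g⁻¹) * g = u := by group
      rwa [e'] at this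
    · exact e
  obtain ⟨c, hc, hcu⟩ := h.four_of (le_refl (jj V cf)) h.normalizer_le_normalizer_jj hu huV hjj h2
  refine ⟨c, hc, ?_⟩
  rw [mem_centralizer_singleton_iff]
  refine comm_of_conj_eq ?_
  set v := g * u * g⁻¹ * u⁻¹ with hv
  have e1 : g * u * g⁻¹ = v * u := by rw [hv]; group
  calc c * g * u * (c * g)⁻¹ = c * (g * u * g⁻¹) * c⁻¹ := by group
    _ = (c * v * c⁻¹) * (c * u * c⁻¹) := by rw [e1]; group
    _ = v * (v * u) := by rw [conj_eq_of_comm (h.V_comm h2 hc).symm, hcu]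
    _ = u := by rw [← mul_assoc, h.ln.sq v h2, one_mul]

/-- **(4.6), the group part** -/
theorem nine_core [Finite G] (h : Fam T V z cf) {y : G} (hy : y ∈ V) (hy1 : y ≠ 1) (hyz : y ≠ z) {u f : G}
    (hu : u ∈ jj V cf) (huV : u ∉ V) (hjj : ∀ e ∈ jj V cf, e ∈ V ∨ e * u⁻¹ ∈ V) (hf : f ∈ cf z)
    (hfu : f * u = u * f)
    (hprod : y * (f * y * f⁻¹) * (f * (f * y * f⁻¹) * f⁻¹) = u ∨
      y * (f * y * f⁻¹) * (f * (f * y * f⁻¹) * f⁻¹) = z * u)
    (hP1 : ∀ b ∈ ww V cf y, b ∉ qq V cf z → (f * y * f⁻¹) * b * (f * y * f⁻¹)⁻¹ * b⁻¹ = y * u ∨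
      (f * y * f⁻¹) * b * (f * y * f⁻¹)⁻¹ * b⁻¹ = z * (y * u))
    (hP2 : f * y * f⁻¹ ∉ qq V cf y)
    (hdual : ∀ w ∈ ww V cf z, w = 1 ∨ w = z ∨ w = u ∨ w = z * u ∨
      ∃ q ∈ qq V cf z, q * u = u * q ∧ q * w * q⁻¹ = z * w)
    (hCV : IsPGroup 2 (centralizer (V : Set G))) (hKK : kk V cf z ⊓ kk V cf y ≤ jj V cf)
    (h36 : ∀ g ∈ normalizer ((jj V cf : Subgroup G) : Set G), g ∈ normalizer (V : Set G)) : False := by
  classical
  have hfact : Fact (Nat.Prime 2) := ⟨Nat.prime_two⟩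
  have hz := h.ln.z_mem
  have hz1 := h.ln.z_ne
  have hzy := Ne.symm hyz
  set J := centralizer ({u} : Set G) with hJ
  have hJm : ∀ {g : G}, g ∈ J ↔ g * u = u * g := mem_centralizer_singleton_iff
  have huz := Fam.jj_le (cf := cf) hz hz1 hu
  have huu : u * u = 1 := h.sq hz hz1 u huz
  have hu1 : u ≠ 1 := fun e => huV (by rw [e]; exact one_mem _)
  have huJ : u ∈ J := hJm.mpr rfl
  set Jl := J ⊓ normalizer (V : Set G) with hJl
  set Tu := Jl ⊓ centralizer ({z} : Set G) with hTu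
  set R := o2 J with hR
  have hRJ : R ≤ J := ZN.o2_le J
  have hR2 : IsPGroup 2 R := ZN.isPGroup_o2 J
  have hRn : J ≤ normalizer (R : Set G) := ZN.le_normalizer_o2 J
  have hRconj : ∀ {g r : G}, g ∈ J → r ∈ R → g * r * g⁻¹ ∈ R := fun hg hr => conj_mem_of_normalizer hRn hg hr
  have hRconj' : ∀ {g r : G}, g ∈ J → r ∈ R → g⁻¹ * r * g ∈ R := fun hg hr => conj_mem_of_normalizer' hRn hg hr
  -- transitivity of `Jl`
  have htrans : ∀ {p q p' q' : G}, p ∈ V → p ≠ 1 → q ∈ V → q ≠ 1 → q ≠ p → p' ∈ V → p' ≠ 1 → q' ∈ V → q' ≠ 1 →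
      q' ≠ p' → ∃ g ∈ Jl, g * p * g⁻¹ = p' ∧ g * q * g⁻¹ = q' := by
    intro p q p' q' hp hp1 hq hq1 hqp hp' hp1' hq' hq1' hqp'
    obtain ⟨g, hg, e1, e2⟩ := h.trans2 hp hp1 hq hq1 hqp hp' hp1' hq' hq1' hqp'
    obtain ⟨c, hc, hcg⟩ := h.exists_adj hu huV hjj hg
    refine ⟨c * g, mem_inf.mpr ⟨hcg, mul_mem (centralizer_le_normalizer _ hc) hg⟩, ?_, ?_⟩
    · calc c * g * p * (c * g)⁻¹ = c * (g * p * g⁻¹) * c⁻¹ := by group
        _ = p' := by rw [e1, conj_eq_of_comm (h.V_comm hp' hc).symm]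
    · calc c * g * q * (c * g)⁻¹ = c * (g * q * g⁻¹) * c⁻¹ := by group
        _ = q' := by rw [e2, conj_eq_of_comm (h.V_comm hq' hc).symm]
  have htrans1 : ∀ {p p' : G}, p ∈ V → p ≠ 1 → p' ∈ V → p' ≠ 1 → ∃ g ∈ Jl, g * p * g⁻¹ = p' := by
    intro p p' hp hp1 hp' hp1'
    obtain ⟨q, hq, hq1, hqp⟩ := h.exists_q hp hp1
    obtain ⟨q', hq', hq1', hqp'⟩ := h.exists_q hp' hp1'
    obtain ⟨g, hg, e, -⟩ := htrans hp hp1 hq hq1 hqp hp' hp1' hq' hq1' hqp'
    exact ⟨g, hg, e⟩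
  -- a 2-subgroup normal in `Jl` centralizes `V`
  have hnorm2 : ∀ D : Subgroup G, D ≤ Jl → IsPGroup 2 D → (∀ g ∈ Jl, ∀ d ∈ D, g * d * g⁻¹ ∈ D) →
      D ≤ centralizer (V : Set G) := by
    intro D hD hD2 hDn
    obtain ⟨c, hc, hcT⟩ := exists_cj_le_of_sylow h.ln.T_norm h.ln.two h.ln.T_syl' (hD.trans inf_le_right) hD2
    have hp : c⁻¹ * z * c ∈ V := h.conj_pt' hc hz
    have hp1 : c⁻¹ * z * c ≠ 1 := conj_ne' hz1
    have h1 : ∀ d ∈ D, d * (c⁻¹ * z * c) = (c⁻¹ * z * c) * d := by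
      intro d hd
      have h2 : c * d * c⁻¹ ∈ T := hcT (conj_mem_cj hd)
      have h3 := h.ln.z_comm (h.ln.T_le h2)
      calc d * (c⁻¹ * z * c) = c⁻¹ * ((c * d * c⁻¹) * z) * c := by group
        _ = c⁻¹ * (z * (c * d * c⁻¹)) * c := by rw [h3]
        _ = (c⁻¹ * z * c) * d := by group
    intro d hd
    rw [mem_centralizer_iff]
    intro v hv
    by_cases hv1 : v = 1
    · rw [hv1]; simp
    obtain ⟨g, hg, e⟩ := htrans1 hp hp1 hv hv1
    have h2 : g⁻¹ * d * g ∈ D := by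
      have := hDn g⁻¹ (inv_mem hg) d hd
      rwa [inv_inv] at this
    have h3 := h1 _ h2
    calc v * d = g * ((c⁻¹ * z * c) * (g⁻¹ * d * g)) * g⁻¹ := by rw [← e]; group
      _ = g * ((g⁻¹ * d * g) * (c⁻¹ * z * c)) * g⁻¹ := by rw [h3]
      _ = d * (g * (c⁻¹ * z * c) * g⁻¹) := by group
      _ = d * v := by rw [e]
  -- `Tu` is a 2-group
  have hTuz : ∀ {t : G}, t ∈ Tu → t * z = z * t := fun ht => mem_centralizer_singleton_iff.mp ht.2
  have hTu2 : IsPGroup 2 Tu := by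
    rintro ⟨t, ht⟩
    have htt : t * t ∈ centralizer (V : Set G) := by
      by_cases htV : t ∈ centralizer (V : Set G)
      · exact mul_mem htV htV
      · have hi : t⁻¹ ∉ centralizer (V : Set G) := fun e => htV (by simpa using inv_mem e)
        have := h.coset_of hz hz1 (inv_mem ht.1.2) (inv_comm_of (hTuz ht)) hi ht.1.2 (hTuz ht) htV
        rwa [inv_inv] at this
    obtain ⟨k, hk⟩ := hCV ⟨t * t, htt⟩
    refine ⟨k + 1, Subtype.ext ?_⟩
    have hk' : (t * t) ^ 2 ^ k = 1 := congrArg Subtype.val hk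
    change t ^ 2 ^ (k + 1) = 1
    rw [pow_succ', pow_mul, pow_two, hk']
  have hWTu : ∀ p ∈ V, p ≠ 1 → ww V cf p ≤ Tu := by
    intro p hp hp1 w hw
    have hwV := h.ww_le_cent hp hp1 hw
    refine mem_inf.mpr ⟨mem_inf.mpr ⟨hJm.mpr ?_, centralizer_le_normalizer _ hwV⟩, h.cent_le_cs hz hwV⟩
    exact h.comm hp hp1 w hw u (Fam.jj_le hp hp1 hu)
  have hjTu : jj V cf ≤ Tu := (Fam.jj_le hz hz1).trans (hWTu z hz hz1)
  -- `[E, Tu] ≤ ⟨z⟩`
  have hE : ∀ e ∈ jj V cf, ∀ t ∈ Tu, t * e * t⁻¹ = e ∨ t * e * t⁻¹ = z * e := by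
    intro e he t ht
    have htu : t * u * t⁻¹ = u := conj_eq_of_comm (hJm.mp ht.1.1)
    have hV : ∀ v ∈ V, t * v * t⁻¹ = v ∨ t * v * t⁻¹ = z * v := by
      intro v hv
      by_cases hv1 : v = 1
      · left; rw [hv1]; group
      exact h.ln.conj_cases hz hv hz1 (hTuz ht) ht.1.2
    rcases hjj e he with h1 | h1
    · exact hV e h1
    · have e1 : e = (e * u⁻¹) * u := by group
      have e2 : t * e * t⁻¹ = (t * (e * u⁻¹) * t⁻¹) * u := by
        conv_lhs => rw [e1]
        calc t * ((e * u⁻¹) * u) * t⁻¹ = (t * (e * u⁻¹) * t⁻¹) * (t * u * t⁻¹) := by group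
          _ = _ := by rw [htu]
      rcases hV _ h1 with e3 | e3
      · left; rw [e2, e3]; group
      · right; rw [e2, e3]; group
  -- (a) `V ∩ R = 1`
  have hVR : ∀ p ∈ V, p ∈ R → p = 1 := by
    intro p hp hpR
    by_contra hp1
    have hVR : V ≤ R := by
      intro v hv
      by_cases hv1 : v = 1
      · rw [hv1]; exact one_mem _
      obtain ⟨g, hg, rfl⟩ := htrans1 hp hp1 hv hv1
      exact hRconj hg.1 hpR
    set N := wf V J with hN
    have hNR : N ≤ R := wf_le fun c hc x hx => by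
      rw [mem_cj] at hx
      have := hRconj hc (hVR hx)
      have e : c * (c⁻¹ * x * c) * c⁻¹ = x := by group
      rwa [e] at this
    have hVN : V ≤ N := V_le_wf V J
    have hNconj : ∀ {g n : G}, g ∈ J → n ∈ N → g * n * g⁻¹ ∈ N := fun hg hn => conj_mem_wf hg hn
    have hN2 : IsPGroup 2 N := hR2.to_le hNR
    have hfJ : f ∈ J := hJm.mpr hfu
    have hy2N : f * y * f⁻¹ ∈ N := hNconj hfJ (hVN hy)
    have hy3N : f * (f * y * f⁻¹) * f⁻¹ ∈ N := hNconj hfJ hy2N
    have huN : u ∈ N := by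
      have h1 := mul_mem (mul_mem (hVN hy) hy2N) hy3N
      rcases hprod with e | e
      · rwa [e] at h1
      · rw [e] at h1
        have h2 := mul_mem (hVN hz) h1
        rwa [← mul_assoc, h.ln.zz, one_mul] at h2
    -- the commutator `[y2, y2^g] = u s`
    obtain ⟨g, hg, e1, e2⟩ := htrans hz hz1 hy hy1 hyz hy hy1 hz hz1 hzy
    have hgu : g * u * g⁻¹ = u := conj_eq_of_comm (hJm.mp hg.1)
    have hgu' : g⁻¹ * u * g = u := by
      calc g⁻¹ * u * g = g⁻¹ * (g * u * g⁻¹) * g := by rw [hgu]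
        _ = u := by group
    set y2 := f * y * f⁻¹ with hy2
    have hy2W : y2 ∈ ww V cf z := conj_mem_wf hf (h.V_le hy)
    have hy2' : g * y2 * g⁻¹ ∈ ww V cf y := by
      have := h.conj_ww hg.2 hz hz1 hy2W
      rwa [e1] at this
    have hnq : g * y2 * g⁻¹ ∉ qq V cf z := by
      intro e
      apply hP2
      have h3 := h.conj_qq (inv_mem hg.2) hz hz1 e
      have e3 : g⁻¹ * z * g⁻¹⁻¹ = y := by rw [← e2]; group
      have e4 : g⁻¹ * (g * y2 * g⁻¹) * g⁻¹⁻¹ = y2 := by group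
      rwa [e3, e4] at h3
    have hc1 := hP1 _ hy2' hnq
    -- the same with `g⁻¹ y2 g`
    have hy2'' : g⁻¹ * y2 * g ∈ ww V cf y := by
      have := h.conj_ww (inv_mem hg.2) hz hz1 hy2W
      have e3 : g⁻¹ * z * g⁻¹⁻¹ = y := by rw [← e2]; group
      rwa [e3, inv_inv] at this
    have hnq' : g⁻¹ * y2 * g ∉ qq V cf z := by
      intro e
      apply hP2
      have h3 := h.conj_qq hg.2 hz hz1 e
      have e4 : g * (g⁻¹ * y2 * g) * g⁻¹ = y2 := by group
      rwa [e1, e4] at h3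
    have hc2 := hP1 _ hy2'' hnq'
    -- conjugate by `g`
    have hgy : g * (y * u) * g⁻¹ = z * u := by
      calc g * (y * u) * g⁻¹ = (g * y * g⁻¹) * (g * u * g⁻¹) := by group
        _ = z * u := by rw [e2, hgu]
    have hgzy : g * (z * (y * u)) * g⁻¹ = y * (z * u) := by
      calc g * (z * (y * u)) * g⁻¹ = (g * z * g⁻¹) * (g * (y * u) * g⁻¹) := by group
        _ = y * (z * u) := by rw [e1, hgy]
    have hc3 : (g * y2 * g⁻¹) * y2 * (g * y2 * g⁻¹)⁻¹ * y2⁻¹ = z * u ∨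
        (g * y2 * g⁻¹) * y2 * (g * y2 * g⁻¹)⁻¹ * y2⁻¹ = y * (z * u) := by
      have e5 : (g * y2 * g⁻¹) * y2 * (g * y2 * g⁻¹)⁻¹ * y2⁻¹ =
          g * (y2 * (g⁻¹ * y2 * g) * y2⁻¹ * (g⁻¹ * y2 * g)⁻¹) * g⁻¹ := by group
      rcases hc2 with e | e
      · left; rw [e5, e, hgy]
      · right; rw [e5, e, hgzy]
    have hinv : (g * y2 * g⁻¹) * y2 * (g * y2 * g⁻¹)⁻¹ * y2⁻¹ =
        (y2 * (g * y2 * g⁻¹) * y2⁻¹ * (g * y2 * g⁻¹)⁻¹)⁻¹ := by group
    have hVu : ∀ v ∈ V, v * u = u * v := fun v hv => h.comm hz hz1 v (h.V_le hv) u huz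
    have hsqv : ∀ v ∈ V, (v * u)⁻¹ = v * u := by
      intro v hv
      rw [mul_inv_rev, inv_eq_self huu, h.ln.inv_eq hv, hVu v hv]
    have hs : y2 * (g * y2 * g⁻¹) * y2⁻¹ * (g * y2 * g⁻¹)⁻¹ = z * (y * u) := by
      rcases hc1 with e | e
      · exfalso
        rw [hinv, e, hsqv y hy] at hc3
        rcases hc3 with e' | e'
        · exact hyz (mul_right_cancel e')
        · have : u = z * u := by
            have := mul_left_cancel (a := y) (b := u) (c := z * u) e'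
            exact this
          exact hz1 (by simpa using this.symm)
      · exact e
    -- `S = ⁅N, N⁆ ⟨u⟩`
    have hNJ : N ≤ J := hNR.trans hRJ
    have hNN : ⁅N, N⁆ ≤ N := by
      rw [commutator_le]
      intro a ha b hb
      rw [commutatorElement_def]
      exact mul_mem (mul_mem (mul_mem ha hb) (inv_mem ha)) (inv_mem hb)
    have hcen : ∀ c ∈ zpowers u, ∀ d ∈ N, c * d = d * c := by
      intro c hc d hd
      obtain ⟨m, rfl⟩ := mem_zpowers_iff.mp hc
      exact ((show Commute d u from hJm.mp (hNJ hd)).zpow_right m).eq.symm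
    let S : Subgroup G :=
      { carrier := {x | ∃ d ∈ ⁅N, N⁆, ∃ c ∈ zpowers u, x = d * c}
        mul_mem' := by
          rintro _ _ ⟨d, hd, c, hc, rfl⟩ ⟨d', hd', c', hc', rfl⟩
          refine ⟨d * d', mul_mem hd hd', c * c', mul_mem hc hc', ?_⟩
          calc d * c * (d' * c') = d * (c * d') * c' := by group
            _ = d * d' * (c * c') := by rw [hcen c hc d' (hNN hd')]; group
        one_mem' := ⟨1, one_mem _, 1, one_mem _, by rw [one_mul]⟩
        inv_mem' := by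
          rintro _ ⟨d, hd, c, hc, rfl⟩
          refine ⟨d⁻¹, inv_mem hd, c⁻¹, inv_mem hc, ?_⟩
          rw [mul_inv_rev, hcen _ (inv_mem hc) _ (inv_mem (hNN hd))] }
    have hNS' : ⁅N, N⁆ ≤ S := fun x hx => ⟨x, hx, 1, one_mem _, by rw [mul_one]⟩
    have huS : zpowers u ≤ S := fun x hx => ⟨1, one_mem _, x, hx, by rw [one_mul]⟩
    have hcomS : z * (y * u) ∈ ⁅N, N⁆ := by
      rw [← hs]
      have := commutator_mem_commutator hy2N (hNconj hg.1 hy2N)
      rwa [commutatorElement_def] at this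
    have hsS : z * y ∈ S := by
      have h1 : z * (y * u) * u ∈ S := mul_mem (hNS' hcomS) (huS (mem_zpowers u))
      have e : z * (y * u) * u = z * y := by
        calc z * (y * u) * u = z * y * (u * u) := by group
          _ = z * y := by rw [huu, mul_one]
      rwa [e] at h1
    have hSn : ∀ {g x : G}, g ∈ J → x ∈ S → g * x * g⁻¹ ∈ S := by
      rintro g _ hg ⟨d, hd, c, hc, rfl⟩
      have hle : ⁅N, N⁆ ≤ cj g⁻¹ ⁅N, N⁆ := by
        rw [commutator_le]
        intro a ha b hb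
        rw [mem_cj, inv_inv]
        have e : g * ⁅a, b⁆ * g⁻¹ = ⁅g * a * g⁻¹, g * b * g⁻¹⁆ := by
          rw [commutatorElement_def, commutatorElement_def]; group
        rw [e]
        exact commutator_mem_commutator (hNconj hg ha) (hNconj hg hb)
      have h1 := mem_cj.mp (hle hd)
      rw [inv_inv] at h1
      refine ⟨_, h1, c, hc, ?_⟩
      have h2 : g * c * g⁻¹ = c := by
        obtain ⟨m, rfl⟩ := mem_zpowers_iff.mp hc
        exact conj_eq_of_comm ((show Commute g u from hJm.mp hg).zpow_right m).eq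
      calc g * (d * c) * g⁻¹ = (g * d * g⁻¹) * (g * c * g⁻¹) := by group
        _ = _ := by rw [h2]
    have hsV : z * y ∈ V := mul_mem hz hy
    have hs1 : z * y ≠ 1 := h.mul_ne_one hy hzy
    have hVS : V ≤ S := by
      intro v hv
      by_cases hv1 : v = 1
      · rw [hv1]; exact one_mem _
      obtain ⟨g, hg, rfl⟩ := htrans1 hsV hs1 hv hv1
      exact hSn hg.1 hsS
    have hNS : N ≤ S := wf_le fun c hc x hx => by
      rw [mem_cj] at hx
      have := hSn hc (hVS hx)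
      have e : c * (c⁻¹ * x * c) * c⁻¹ = x := by group
      rwa [e] at this
    have hsol : Group.IsSolvable N := by
      have : Group.IsNilpotent N := hN2.isNilpotent
      infer_instance
    have hall := eq_zpowers_of_commutator hsol huN (fun x hx => hJm.mp (hNJ hx)) (fun x hx => hNS hx)
    rcases (mem_zpowers_iff_of_mul_self huu).mp (hall z (hVN hz)) with e | e
    · exact hz1 e
    · exact huV (by rw [← e]; exact hz)
  have hVR' : ∀ p ∈ V, p ≠ 1 → p ∉ R := fun p hp hp1 e => hp1 (hVR p hp e)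
  -- `u ∈ R`, `C_J(R) ≤ R`
  have huR : u ∈ R := by
    have h1 : zpowers u ≤ o2 J := by
      refine ZN.le_o2 ?_ (isPGroup_zpowers huu) ?_
      · rw [zpowers_le]; exact huJ
      · refine le_normalizer_of_forall fun g hg x hx => ?_
        obtain ⟨m, rfl⟩ := mem_zpowers_iff.mp hx
        rw [conj_eq_of_comm ((show Commute g u from hJm.mp hg).zpow_right m).eq]
        exact hx
    exact h1 (mem_zpowers u)
  have hCJR : ∀ x ∈ J, (∀ r ∈ R, r * x = x * r) → x ∈ R := by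
    intro x hx hxR
    exact inf_centralizer_o2_le h.ln.charTwo (isTwoLocal_cent huu hu1) ⟨hx, mem_centralizer_iff.mpr hxR⟩
  -- `R ∩ Jl ≤ C_G(V)`
  have hR0 : R ⊓ Jl ≤ centralizer (V : Set G) := by
    refine hnorm2 (R ⊓ Jl) inf_le_right (hR2.to_le inf_le_left) fun g hg d hd => ?_
    exact mem_inf.mpr ⟨hRconj hg.1 hd.1, mul_mem (mul_mem hg hd.2) (inv_mem hg)⟩
  have hVJ : V ≤ J := fun v hv => hJm.mpr (h.comm hz hz1 v (h.V_le hv) u huz)
  have hRnot : ¬ R ≤ Jl := by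
    intro hle
    refine hVR' z hz hz1 (hCJR z (hVJ hz) fun r hr => ?_)
    exact (h.V_comm hz (hR0 ⟨hr, hle hr⟩)).symm
  -- `t ∈ N_R(Tu) - Tu`
  obtain ⟨t, htR, htn, htT⟩ : ∃ t ∈ R, t ∈ normalizer (Tu : Set G) ∧ t ∉ Tu := by
    have hTuJ : Tu ≤ J := inf_le_left.trans inf_le_left
    have hP : IsPGroup 2 ↥(R ⊔ Tu) := hR2.to_sup_of_normal_left' hTu2 (hTuJ.trans hRn)
    have hlt : Tu.subgroupOf (R ⊔ Tu) < ⊤ := by
      refine lt_of_le_of_ne le_top fun e => hRnot ?_
      have := subgroupOf_eq_top.mp e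
      exact (le_sup_left.trans this).trans inf_le_left
    have : Group.IsNilpotent ↥(R ⊔ Tu) := hP.isNilpotent
    have h1 := Group.normalizerCondition_of_isNilpotent (G := ↥(R ⊔ Tu)) _ hlt
    obtain ⟨x, hx, hxT⟩ := SetLike.exists_of_lt h1
    have hTle : Tu ≤ R ⊔ Tu := le_sup_right
    have hxn : (x : G) ∈ normalizer (Tu : Set G) := by
      rw [mem_normalizer_iff] at hx ⊢
      intro t
      constructor
      · intro ht
        have := (hx ⟨t, hTle ht⟩).mp (mem_subgroupOf.mpr ht)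
        exact mem_subgroupOf.mp this
      · intro ht
        have h2 : (x : G) * t * (x : G)⁻¹ ∈ R ⊔ Tu := hTle ht
        have h3 : t ∈ R ⊔ Tu := by
          have := mul_mem (mul_mem (inv_mem x.2) h2) x.2
          have e : (x : G)⁻¹ * (x * t * (x : G)⁻¹) * x = t := by group
          rwa [e] at this
        have := (hx ⟨t, h3⟩).mpr (mem_subgroupOf.mpr ht)
        exact mem_subgroupOf.mp this
    -- `x = r τ`
    obtain ⟨r, hr, τ, hτ, e⟩ : ∃ r ∈ R, ∃ τ ∈ Tu, (x : G) = r * τ := by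
      let Q : Subgroup G :=
        { carrier := {g | ∃ r ∈ R, ∃ τ ∈ Tu, g = r * τ}
          mul_mem' := by
            rintro _ _ ⟨r, hr, τ, hτ, rfl⟩ ⟨r', hr', τ', hτ', rfl⟩
            refine ⟨r * (τ * r' * τ⁻¹), mul_mem hr (hRconj (hTuJ hτ) hr'), τ * τ', mul_mem hτ hτ', by group⟩
          one_mem' := ⟨1, one_mem _, 1, one_mem _, by rw [one_mul]⟩
          inv_mem' := by
            rintro _ ⟨r, hr, τ, hτ, rfl⟩
            refine ⟨τ⁻¹ * r⁻¹ * τ, hRconj' (hTuJ hτ) (inv_mem hr), τ⁻¹, inv_mem hτ, by group⟩ }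
      have hQ : R ⊔ Tu ≤ Q := sup_le (fun r hr => ⟨r, hr, 1, one_mem _, by rw [mul_one]⟩)
        (fun τ hτ => ⟨1, one_mem _, τ, hτ, by rw [one_mul]⟩)
      exact hQ x.2
    refine ⟨r, hr, ?_, ?_⟩
    · have e1 : r = x * τ⁻¹ := by rw [e]; group
      rw [e1]
      exact mul_mem hxn (inv_mem (le_normalizer hτ))
    · intro hrT
      apply hxT
      rw [mem_subgroupOf, e]
      exact mul_mem hrT hτ
  have htJ : t ∈ J := hRJ htR
  -- (b)
  have hbz : ∀ w ∈ ww V cf z, w ∈ R → w = 1 ∨ w = u := by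
    intro w hw hwR
    rcases hdual w hw with e | e | e | e | ⟨q, hq, hqu, e⟩
    · exact Or.inl e
    · exact absurd (by rw [← e]; exact hwR) (hVR' z hz hz1)
    · exact Or.inr e
    · exfalso
      apply hVR' z hz hz1
      have h1 := mul_mem hwR huR
      rw [e] at h1
      have e2 : z * u * u = z := by rw [mul_assoc, huu, mul_one]
      rwa [e2] at h1
    · exfalso
      apply hVR' z hz hz1
      have h1 := mul_mem (hRconj (hJm.mpr hqu) hwR) (inv_mem hwR)
      rw [e] at h1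
      have e2 : z * w * w⁻¹ = z := by group
      rwa [e2] at h1
  have hb : ∀ p ∈ V, p ≠ 1 → ∀ w ∈ ww V cf p, w ∈ R → w = 1 ∨ w = u := by
    intro p hp hp1 w hw hwR
    obtain ⟨g, hg, e⟩ := htrans1 hp hp1 hz hz1
    have h1 := h.conj_ww hg.2 hp hp1 hw
    rw [e] at h1
    rcases hbz _ h1 (hRconj hg.1 hwR) with e1 | e1
    · exact Or.inl (conj_eq_one_iff.mp e1)
    · right
      have h2 : g * u * g⁻¹ = u := conj_eq_of_comm (hJm.mp hg.1)
      rw [← h2] at e1
      have := mul_right_cancel e1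
      exact mul_left_cancel this
  -- (c)
  have hWJ : ∀ p ∈ V, p ≠ 1 → ww V cf p ≤ J := fun p hp hp1 => (hWTu p hp hp1).trans (inf_le_left.trans inf_le_left)
  have hc : ∀ e ∈ jj V cf, ∀ p ∈ V, p ≠ 1 → ∀ w ∈ ww V cf p, w * (t * e * t⁻¹) = (t * e * t⁻¹) * w := by
    intro e he p hp hp1 w hw
    set r := t * e * t⁻¹ * e⁻¹ with hr
    have heT := hjTu he
    have hrT : r ∈ Tu := mul_mem ((mem_normalizer_iff.mp htn e).mp heT) (inv_mem heT)
    have heJ : e ∈ J := heT.1.1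
    have hrR : r ∈ R := by
      have e1 : r = t * (e * t⁻¹ * e⁻¹) := by rw [hr]; group
      rw [e1]
      exact mul_mem htR (hRconj heJ (inv_mem htR))
    have hrV : r ∈ centralizer (V : Set G) := hR0 ⟨hrR, hrT.1⟩
    have hew : e * w = w * e := h.comm hp hp1 e (Fam.jj_le hp hp1 he) w hw
    have e' : t * e * t⁻¹ = r * e := by rw [hr]; group
    -- `[r, w] ∈ R ∩ W_p`
    have h1 : r * w * r⁻¹ * w⁻¹ ∈ ww V cf p :=
      mul_mem (conj_mem_of_normalizer (h.cent_norm hp hp1) hrV hw) (inv_mem hw)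
    have h2 : r * w * r⁻¹ * w⁻¹ ∈ R := by
      have e1 : r * w * r⁻¹ * w⁻¹ = r * (w * r⁻¹ * w⁻¹) := by group
      rw [e1]
      exact mul_mem hrR (hRconj (hWJ p hp hp1 hw) (inv_mem hrR))
    have h3 : (t * e * t⁻¹) * w * (t * e * t⁻¹)⁻¹ * w⁻¹ = r * w * r⁻¹ * w⁻¹ := by
      rw [e']
      calc r * e * w * (r * e)⁻¹ * w⁻¹ = r * (e * w) * e⁻¹ * r⁻¹ * w⁻¹ := by group
        _ = r * w * r⁻¹ * w⁻¹ := by rw [hew]; group
    -- `[e^t, w] ∈ ⟨z⟩^t`
    have hwT := hWTu p hp hp1 hw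
    have hwT' : t⁻¹ * w * t ∈ Tu := (mem_normalizer_iff''.mp htn w).mp hwT
    have h4 : (t * e * t⁻¹) * w * (t * e * t⁻¹)⁻¹ * w⁻¹ =
        t * (e * ((t⁻¹ * w * t) * e⁻¹ * (t⁻¹ * w * t)⁻¹)) * t⁻¹ := by group
    have hee : e⁻¹ = e := h.inv_ww hz hz1 (Fam.jj_le hz hz1 he)
    have heee : e * e = 1 := h.sq hz hz1 e (Fam.jj_le hz hz1 he)
    have h5 : (t * e * t⁻¹) * w * (t * e * t⁻¹)⁻¹ * w⁻¹ = 1 := by
      rcases hE e he _ hwT' with e1 | e1
      · rw [h4, hee, e1, heee]; group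
      · have e2 : (t * e * t⁻¹) * w * (t * e * t⁻¹)⁻¹ * w⁻¹ = t * z * t⁻¹ := by
          have hez : e * z = z * e := h.comm hz hz1 e (Fam.jj_le hz hz1 he) z (h.V_le hz)
          have e3 : e * (z * e) = z := by
            rw [← mul_assoc, hez, mul_assoc, heee, mul_one]
          rw [h4, hee, e1, e3]
        rcases hb p hp hp1 _ h1 h2 with e3 | e3
        · rw [h3, e3]
        · exfalso
          rw [h3, e3] at e2
          -- `u = t z t⁻¹`
          have htu : t * u * t⁻¹ = u := conj_eq_of_comm (hJm.mp htJ)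
          rw [← htu] at e2
          have e4 : u = z := mul_left_cancel (mul_right_cancel e2)
          exact huV (by rw [e4]; exact hz)
    have h6 := mul_inv_eq_one.mp h5
    exact (mul_inv_eq_iff_eq_mul.mp h6).symm
  -- `t ∈ N_G(E)`
  have htE : t ∈ normalizer ((jj V cf : Subgroup G) : Set G) := by
    have hle : cj t (jj V cf) ≤ jj V cf := by
      intro x hx
      rw [mem_cj] at hx
      have e1 : x = t * (t⁻¹ * x * t) * t⁻¹ := by group
      refine hKK (mem_inf.mpr ⟨mem_centralizer_iff.mpr fun w hw => ?_, mem_centralizer_iff.mpr fun w hw => ?_⟩)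
      · rw [e1]; exact hc _ hx z hz hz1 w hw
      · rw [e1]; exact hc _ hx y hy hy1 w hw
    rw [mem_normalizer_iff_cj]
    exact eq_of_le_of_card_ge hle (by rw [card_cj])
  have htV := h36 t htE
  have ht0 : t ∈ centralizer (V : Set G) := hR0 ⟨htR, mem_inf.mpr ⟨htJ, htV⟩⟩
  exact htT (mem_inf.mpr ⟨mem_inf.mpr ⟨htJ, htV⟩, h.cent_le_cs hz ht0⟩)

end Fam

end Cfsg.Agent.Omega.NO3S.Fit

end

section


/-!
# NO-3S, `q = 2`, `n = 1` (helper311's text #13963): (4.6), T9 is impossible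

`Fam.nine_false` : from `Abs.NineA`, `C_G(V)` a 2-group, `K_z ∩ K_y ≤ jj V cf` and `N_G(jj V cf) ≤ N_G(V)`.
-/

set_option autoImplicit false
set_option linter.unusedSectionVars false

namespace Cfsg.Agent.Omega.NO3S.Fit

open Subgroup Cfsg Cfsg.Agent.ZN Cfsg.Agent.MinSimple.Geo Cfsg.Agent.Omega.CaseL
open Cfsg.Agent.Omega.NO3S.Fit.Abs (br fx)
open Cfsg.Agent.ZN.Block (conj_mem_of_normalizer conj_mem_of_normalizer' le_normalizer_of_forall
  mem_normalizer_of)

universe u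

namespace Abs.NineA

variable {H M : Type*} [Group H] [AddCommGroup M] [DistribMulAction H M] {v0 : M} {a d1 d2 : H} {b1 b2 : M}

theorem symm (N : NineA v0 a d1 d2 b1 b2) : NineA v0 a d2 d1 b2 b1 where
  card := N.card
  vb := by rw [N.vb, add_comm]
  f1 := N.f2
  f2 := N.f1
  s1 := N.s2
  s2 := N.s1
  n1 := N.n2
  n2 := N.n1
  comm := N.comm.symm
  c1 := N.c2
  c2 := N.c1
  inv1 := N.inv2
  inv2 := N.inv1
  fa1 := N.fa2
  fa2 := N.fa1
  gen := by
    intro x
    obtain ⟨i, j, h0, hh, e⟩ := N.gen x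
    refine ⟨j, i, h0, hh, ?_⟩
    rw [e]
    have : Commute d1 d2 := N.comm
    rw [(this.pow_pow i j).eq]
  st := by
    intro h0 hh
    rcases N.st h0 hh with ⟨e1, e2, e3, e4⟩ | ⟨e1, e2, e3, e4⟩
    · exact Or.inl ⟨e2, e1, e4, e3⟩
    · exact Or.inr ⟨e2, e1, e4, e3⟩
  sw := by
    obtain ⟨h0, hh, e1, e2⟩ := N.sw
    exact ⟨h0, hh, e2, e1⟩

theorem odd1 (N : NineA v0 a d1 d2 b1 b2) : Odd (orderOf d1) :=
  Odd.of_dvd_nat (by decide : Odd 3) (orderOf_dvd_of_pow_eq_one N.c1)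

theorem b1_ne (N : NineA v0 a d1 d2 b1 b2) : b1 ≠ 0 := by
  intro e
  apply N.n1
  rw [e, smul_zero]

theorem b1_mem (N : NineA v0 a d1 d2 b1 b2) (two : ∀ m : M, m + m = 0) : b1 ∈ br M d1 := by
  refine ⟨d1 • b1, ?_⟩
  have h1 := N.s1
  have h2 : b1 = -(d1 • b1 + d1 • d1 • b1) := by
    rw [← add_eq_zero_iff_eq_neg, ← add_assoc]; exact h1
  rw [neg_eq two] at h2
  rw [sub_eq two, add_comm]
  exact h2.symm

theorem card_mul {x : H} [Finite M] : Nat.card (fx M x) * Nat.card (br M x) = Nat.card M := by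
  let f : M →+ M :=
    { toFun := fun m => x • m - m
      map_zero' := by simp
      map_add' := fun m n => by rw [smul_add]; abel }
  have h1 : Nat.card f.ker * Nat.card f.range = Nat.card M := by
    rw [← AddSubgroup.index_ker, AddSubgroup.card_mul_index]
  have h2 : f.ker = fx M x := by
    ext m
    rw [AddMonoidHom.mem_ker, mem_fx]
    exact sub_eq_zero
  have h3 : f.range = br M x := by
    ext m
    rw [AddMonoidHom.mem_range, mem_br]
    rfl
  rw [← h2, ← h3]; exact h1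

theorem three_le [Finite M] {N : AddSubgroup M} {u v : M} (hu : u ∈ N) (hv : v ∈ N) (hu0 : u ≠ 0)
    (hv0 : v ≠ 0) (huv : u ≠ v) : 3 ≤ Nat.card N := by
  classical
  have h1 : (({0, u, v} : Finset M) : Set M) ⊆ (N : Set M) := by
    intro y hy
    simp only [Finset.coe_insert, Finset.coe_singleton, Set.mem_insert_iff, Set.mem_singleton_iff] at hy
    rcases hy with rfl | rfl | rfl
    · exact zero_mem _
    · exact hu
    · exact hv
  have h2 := Set.ncard_le_ncard h1 (Set.toFinite _)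
  rw [Set.ncard_coe_finset] at h2
  have h3 : Set.ncard (N : Set M) = Nat.card N := (Nat.card_coe_set_eq _).symm
  have h4 : ({0, u, v} : Finset M).card = 3 := by
    rw [Finset.card_insert_of_notMem, Finset.card_insert_of_notMem, Finset.card_singleton]
    · simpa using huv
    · simp [hu0.symm, hv0.symm]
  omega

theorem card1 (N : NineA v0 a d1 d2 b1 b2) (two : ∀ m : M, m + m = 0) :
    Nat.card (br M d1) = 4 ∧ Nat.card (fx M d1) = 4 := by
  have hfin : Finite M := Nat.finite_of_card_ne_zero (by rw [N.card]; decide)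
  have h1 := card_mul (M := M) (x := d1)
  rw [N.card] at h1
  have h2 : 3 ≤ Nat.card (br M d1) := by
    refine three_le (N.b1_mem two) (smul_mem_br_self (N.b1_mem two)) N.b1_ne ?_ (fun e => N.n1 e.symm)
    intro e
    exact N.b1_ne ((smul_eq_zero_iff_eq d1).mp e)
  have h3 : 3 ≤ Nat.card (fx M d1) := by
    refine three_le (u := b2) (v := d2 • b2) N.f1 ?_ N.symm.b1_ne ?_ (fun e => N.n2 e.symm)
    · rw [mem_fx, ← mul_smul, N.comm, mul_smul, N.f1]
    · intro e
      exact N.symm.b1_ne ((smul_eq_zero_iff_eq d2).mp e)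
  obtain ⟨k, hk⟩ := exists_card_two_pow two (br M d1)
  obtain ⟨l, hl⟩ := exists_card_two_pow two (fx M d1)
  rw [hk, hl, ← pow_add] at h1
  rw [hk] at h2
  rw [hl] at h3
  have h4 : l + k = 4 := Nat.pow_right_injective (le_refl 2) (by simpa using h1)
  have h5 : 2 ≤ k := by
    by_contra hcon
    have : 2 ^ k ≤ 2 ^ 1 := Nat.pow_le_pow_right (by norm_num) (by omega)
    omega
  have h6 : 2 ≤ l := by
    by_contra hcon
    have : 2 ^ l ≤ 2 ^ 1 := Nat.pow_le_pow_right (by norm_num) (by omega)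
    omega
  have h7 : k = 2 := by omega
  have h8 : l = 2 := by omega
  rw [hk, hl, h7, h8]
  norm_num

theorem cases1 (N : NineA v0 a d1 d2 b1 b2) (two : ∀ m : M, m + m = 0) {m : M} (hm : m ∈ br M d1) :
    m = 0 ∨ m = b1 ∨ m = d1 • b1 ∨ m = d1 ^ 2 • b1 :=
  nat_cases two N.odd1 (N.card1 two).1 (N.b1_mem two) N.b1_ne hm

/-- `C_M(d1) = [M, d2]` -/
theorem fx1 (N : NineA v0 a d1 d2 b1 b2) (two : ∀ m : M, m + m = 0) : br M d2 = fx M d1 := by
  have hfin : Finite M := Nat.finite_of_card_ne_zero (by rw [N.card]; decide)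
  refine AddSubgroup.eq_of_le_of_card_ge ?_ (by rw [(N.card1 two).2, (N.symm.card1 two).1])
  have key : ∀ j : ℕ, d1 • d2 ^ j • b2 = d2 ^ j • b2 := by
    intro j
    have : Commute d1 d2 := N.comm
    rw [← mul_smul, (this.pow_right j).eq, mul_smul, N.f1]
  intro m hm
  rw [mem_fx]
  rcases N.symm.cases1 two hm with rfl | rfl | rfl | rfl
  · exact smul_zero _
  · exact N.f1
  · simpa using key 1
  · exact key 2

theorem exists_dec (N : NineA v0 a d1 d2 b1 b2) (two : ∀ m : M, m + m = 0) (m : M) :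
    ∃ m1 ∈ br M d1, ∃ m2 ∈ br M d2, m = m1 + m2 := by
  obtain ⟨d, hd, c, hc, rfl⟩ := exists_decomp two N.odd1 m
  exact ⟨d, hd, c, by rw [N.fx1 two]; exact hc, rfl⟩

theorem inv_sm (N : NineA v0 a d1 d2 b1 b2) : a • d1 • b1 = d1 • d1 • b1 := by
  have h1 := inv_smul_of_inv N.inv1 N.fa1
  rw [h1, inv_smul_eq_iff, ← mul_smul, ← mul_smul]
  have : d1 * d1 * d1 = 1 := by
    have := N.c1
    rw [pow_succ, pow_two] at this
    exact this
  rw [this, one_smul]

/-- `a (d1 b1) - d1 b1 = b1` -/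
theorem comm_b1 (N : NineA v0 a d1 d2 b1 b2) (two : ∀ m : M, m + m = 0) : a • d1 • b1 - d1 • b1 = b1 := by
  rw [N.inv_sm]
  have h1 := N.s1
  have h2 : b1 = -(d1 • b1 + d1 • d1 • b1) := by
    rw [← add_eq_zero_iff_eq_neg, ← add_assoc]; exact h1
  rw [neg_eq two] at h2
  rw [sub_eq two, add_comm]
  exact h2.symm

theorem fix_br1 (N : NineA v0 a d1 d2 b1 b2) (two : ∀ m : M, m + m = 0) {m : M} (hm : m ∈ br M d1)
    (ha : a • m = m) : m = 0 ∨ m = b1 := by
  have hne : ¬ (a • d1 • b1 = d1 • b1) := by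
    intro e
    have := N.comm_b1 two
    rw [e, sub_self] at this
    exact N.b1_ne this.symm
  rcases N.cases1 two hm with e | e | e | e
  · exact Or.inl e
  · exact Or.inr e
  · exfalso
    rw [e] at ha
    exact hne ha
  · exfalso
    rw [e, pow_two, mul_smul, ← N.inv_sm] at ha
    -- `a (a d1 b1) = a d1 b1`
    exact hne (smul_left_cancel a ha)

/-- `C_M(a) = {0, b1, b2, v0}` -/
theorem fix_a (N : NineA v0 a d1 d2 b1 b2) (two : ∀ m : M, m + m = 0) {m : M} (ha : a • m = m) :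
    m = 0 ∨ m = b1 ∨ m = b2 ∨ m = v0 := by
  obtain ⟨m1, h1, m2, h2, rfl⟩ := N.exists_dec two m
  have h1' : a • m1 ∈ br M d1 := smul_mem_br_of_inv N.inv1 h1
  have h2' : a • m2 ∈ br M d2 := smul_mem_br_of_inv N.inv2 h2
  have h3 : a • m1 - m1 = m2 - a • m2 := by
    rw [smul_add] at ha
    calc a • m1 - m1 = (a • m1 + a • m2) - m1 - a • m2 := by abel
      _ = m2 - a • m2 := by rw [ha]; abel
  have h4 : a • m1 - m1 ∈ br M d1 := sub_mem h1' h1
  have h5 : a • m1 - m1 ∈ fx M d1 := by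
    rw [← N.fx1 two, h3]; exact sub_mem h2 h2'
  have h6 := br_inf_fx two N.odd1 h4 h5
  rw [h6] at h3
  have e1 : a • m1 = m1 := sub_eq_zero.mp h6
  have e2 : a • m2 = m2 := (sub_eq_zero.mp h3.symm).symm
  rcases N.fix_br1 two h1 e1 with e | e <;> rcases N.symm.fix_br1 two h2 e2 with e' | e'
  · left; rw [e, e', add_zero]
  · right; right; left; rw [e, e', zero_add]
  · right; left; rw [e, e', add_zero]
  · right; right; right; rw [e, e', N.vb]

/-- an `H`-invariant subgroup `≠ 0` contains `v0` -/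
theorem irr (N : NineA v0 a d1 d2 b1 b2) (two : ∀ m : M, m + m = 0) {X : AddSubgroup M}
    (hX : ∀ x : H, ∀ m ∈ X, x • m ∈ X) {m : M} (hm : m ∈ X) (hm0 : m ≠ 0) : v0 ∈ X := by
  have key : ∀ {d1 d2 : H} {b1 b2 : M}, NineA v0 a d1 d2 b1 b2 → ∀ n ∈ X, n ∈ br M d1 → n ≠ 0 → v0 ∈ X := by
    intro d1 d2 b1 b2 N n hn hnb hn0
    have hb1 : b1 ∈ X := by
      have hc : d1 * (d1 * d1) = 1 := by
        have := N.c1
        rw [pow_succ, pow_two] at this
        rw [← mul_assoc]; exact this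
      rcases N.cases1 two hnb with e | e | e | e
      · exact absurd e hn0
      · rw [← e]; exact hn
      · have h1 := hX (d1 * d1) n hn
        rw [e, ← mul_smul, mul_assoc, hc, one_smul] at h1
        exact h1
      · have h1 := hX d1 n hn
        rw [e, pow_two, ← mul_smul, hc, one_smul] at h1
        exact h1
    obtain ⟨h0, -, e1, -⟩ := N.sw
    have hb2 : b2 ∈ X := by rw [← e1]; exact hX h0 _ hb1
    rw [N.vb]; exact add_mem hb1 hb2
  obtain ⟨m1, h1, m2, h2, rfl⟩ := N.exists_dec two m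
  by_cases hm1 : m1 = 0
  · rw [hm1, zero_add] at hm hm0
    exact key N.symm m2 hm h2 hm0
  · refine key N (d1 • (m1 + m2) - (m1 + m2)) (sub_mem (hX d1 _ hm) hm) ⟨_, rfl⟩ ?_
    intro e
    apply hm1
    refine br_inf_fx two N.odd1 h1 ?_
    have h3 : d1 • m2 = m2 := by
      have : m2 ∈ fx M d1 := by rw [← N.fx1 two]; exact h2
      exact this
    rw [smul_add, h3] at e
    have : d1 • m1 - m1 = 0 := by rw [← e]; abel
    exact sub_eq_zero.mp this

end Abs.NineA

variable {G : Type u} [Group G]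

namespace Fam

variable {T V : Subgroup G} {z : G} {cf : G → Subgroup G} {M H : Type u} [AddCommGroup M] [Group H]
  [DistribMulAction H M]

/-- **(4.6): T9 is impossible** -/
theorem nine_false [Finite G] (h : Fam T V z cf) (R : MRep V cf z M H) {y : G} (hy : y ∈ V) (hy1 : y ≠ 1)
    (hyz : y ≠ z) (hk : One1 V cf) {a : G} (ha : a ∈ ww V cf y) (haQ : a ∉ qq V cf z) {d1 d2 : H} {b1 b2 : M}
    (N : Abs.NineA (R.pi y) (R.phi a) d1 d2 b1 b2) (hCV : IsPGroup 2 (centralizer (V : Set G)))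
    (hKK : kk V cf z ⊓ kk V cf y ≤ jj V cf)
    (h36 : ∀ g ∈ normalizer ((jj V cf : Subgroup G) : Set G), g ∈ normalizer (V : Set G)) : False := by
  have hz := h.ln.z_mem
  have hz1 := h.ln.z_ne
  have hzy := Ne.symm hyz
  have two := R.two h
  have hac := h.ww_le_cf' hy hy1 hz hz1 ha
  have hyW := h.V_le (p := z) hy
  -- `u`
  obtain ⟨w1, hw1, hw1m⟩ := R.pi_surj (d1 • b1)
  set u := a * w1 * a⁻¹ * w1⁻¹ with hu
  have huj : u ∈ jj V cf := h.comm_mem_jj hy hy1 hz hz1 hzy ha hw1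
  have huz := Fam.jj_le (cf := cf) hz hz1 huj
  have hpu : R.pi u = b1 := by
    rw [hu, ← R.comm_eq h hac hw1, hw1m, N.comm_b1 two]
  have hpyu : R.pi (y * u) = b2 := by
    rw [R.pi_mul y hyW u huz, hpu, N.vb, add_comm b1, add_assoc, two, add_zero]
  have hpV : ∀ v ∈ V, R.pi v = 0 ∨ R.pi v = R.pi y := by
    intro v hv
    rcases h.ln.four hz hy hz1 hy1 hzy hv with e | e | e | e
    · left; rw [e, R.pi_one h]
    · left; rw [e, R.pi_z h]
    · right; rw [e]
    · right; rw [e, R.pi_mul z h.z_mem_ww y hyW, R.pi_z h, zero_add]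
  have hb1v : b1 ≠ R.pi y := by
    intro e
    rw [N.vb, left_eq_add] at e
    exact N.symm.b1_ne e
  have hb2v : b2 ≠ R.pi y := by
    intro e
    rw [N.vb, right_eq_add] at e
    exact N.b1_ne e
  have huV : u ∉ V := by
    intro hV
    rcases hpV u hV with e | e
    · rw [hpu] at e; exact N.b1_ne e
    · rw [hpu] at e; exact hb1v e
  have hVof : ∀ w ∈ ww V cf z, R.pi w = 0 ∨ R.pi w = R.pi y → w ∈ V := by
    rintro w hw (e | e)
    · rcases (R.pi_ker w hw).mp e with e | e <;> rw [e]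
      · exact one_mem _
      · exact hz
    · rcases (R.pi_eq h hw hyW).mp e with e | e <;> rw [e]
      · exact hy
      · exact mul_mem hz hy
  have huinv : u⁻¹ = u := h.inv_ww hz hz1 huz
  have hjj : ∀ e ∈ jj V cf, e ∈ V ∨ e * u⁻¹ ∈ V := by
    intro e he
    have hez := Fam.jj_le (cf := cf) hz hz1 he
    have h1 : R.phi a • R.pi e = R.pi e := by
      rw [R.act a hac e hez, conj_eq_of_comm (h.comm hy hy1 a ha e (Fam.jj_le hy hy1 he))]
    rcases N.fix_a two h1 with e1 | e1 | e1 | e1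
    · exact Or.inl (hVof e hez (Or.inl e1))
    · right
      rw [huinv]
      exact hVof _ (mul_mem hez huz) (Or.inl (by rw [R.pi_mul e hez u huz, e1, hpu, two]))
    · right
      rw [huinv]
      refine hVof _ (mul_mem hez huz) (Or.inr ?_)
      rw [R.pi_mul e hez u huz, e1, hpu, N.vb, add_comm]
    · exact Or.inl (hVof e hez (Or.inr e1))
  -- `f`
  obtain ⟨f', hf', hfd'⟩ := R.phi_surj d2
  have hpow : ∀ c ∈ cf z, ∀ k : ℕ, R.phi (c ^ k) = R.phi c ^ k := by
    intro c hc k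
    exact map_pow R.hom ⟨c, hc⟩ k
  set f := f' ^ 4 with hfd
  have hf : f ∈ cf z := pow_mem hf' 4
  have hphif : R.phi f = d2 := by
    rw [hfd, hpow f' hf', hfd', pow_succ, N.c2, one_mul]
  have hfu : f * u = u * f := by
    have h1 : f' * u * f'⁻¹ = u ∨ f' * u * f'⁻¹ = z * u := by
      have h2 := R.act f' hf' u huz
      rw [hfd', hpu, N.f2, ← hpu] at h2
      exact (R.pi_eq h (conj_mem_wf hf' huz) huz).mp h2.symm
    have h2 : (f' * f') * u = u * (f' * f') := by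
      rcases h1 with e | e
      · have := comm_of_conj_eq e
        rw [mul_assoc, this, ← mul_assoc, this, mul_assoc]
      · refine comm_of_conj_eq ?_
        have hfz : f' * z * f'⁻¹ = z := conj_eq_of_comm (h.cf_comm hz hz1 hf')
        calc f' * f' * u * (f' * f')⁻¹ = f' * (f' * u * f'⁻¹) * f'⁻¹ := by group
          _ = f' * (z * u) * f'⁻¹ := by rw [e]
          _ = (f' * z * f'⁻¹) * (f' * u * f'⁻¹) := by group
          _ = (z * z) * u := by rw [hfz, e, mul_assoc]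
          _ = u := by rw [h.ln.zz, one_mul]
    have h3 : f = (f' * f') * (f' * f') := by
      rw [hfd]; simp only [pow_succ, pow_zero, one_mul, mul_assoc]
    rw [h3]
    exact mul_comm_of h2 h2
  set y2 := f * y * f⁻¹ with hy2
  have hy2W : y2 ∈ ww V cf z := conj_mem_wf hf hyW
  have hpy2 : R.pi y2 = b1 + d2 • b2 := by
    rw [hy2, ← R.act f hf y hyW, hphif, N.vb, smul_add, N.f2]
  have hy3W : f * y2 * f⁻¹ ∈ ww V cf z := conj_mem_wf hf hy2W
  have hpy3 : R.pi (f * y2 * f⁻¹) = b1 + d2 • d2 • b2 := by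
    rw [← R.act f hf y2 hy2W, hphif, hpy2, smul_add, N.f2]
  have hprod : y * y2 * (f * y2 * f⁻¹) = u ∨ y * y2 * (f * y2 * f⁻¹) = z * u := by
    refine (R.pi_eq h (mul_mem (mul_mem hyW hy2W) hy3W) huz).mp ?_
    rw [R.pi_mul _ (mul_mem hyW hy2W) _ hy3W, R.pi_mul y hyW _ hy2W, hpy2, hpy3, hpu, N.vb]
    have h1 : b1 + b2 + (b1 + d2 • b2) + (b1 + d2 • d2 • b2) =
        b1 + (b1 + b1) + (b2 + d2 • b2 + d2 • d2 • b2) := by abel
    rw [h1, two, N.s2, add_zero, add_zero]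
  have hphib : ∀ b ∈ ww V cf y, b ∉ qq V cf z → R.phi b = R.phi a := by
    intro b hb hbQ
    have h1 := hk y hy hy1 z hz hz1 hzy b hb a ha hbQ haQ
    rw [R.phi_eq (h.ww_le_cf' hy hy1 hz hz1 hb) hac, h.inv_ww hy hy1 ha]
    exact h1
  have hcmb : ∀ b ∈ ww V cf y, b ∉ qq V cf z → R.pi (y2 * b * y2⁻¹ * b⁻¹) = b2 := by
    intro b hb hbQ
    have hbc := h.ww_le_cf' hy hy1 hz hz1 hb
    have h1 := R.comm_eq h hbc hy2W
    rw [hphib b hb hbQ, hpy2, smul_add, N.fa1] at h1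
    have h2 : b1 + R.phi a • d2 • b2 - (b1 + d2 • b2) = R.phi a • d2 • b2 - d2 • b2 := by abel
    rw [h2, N.symm.comm_b1 two] at h1
    have h3 : y2 * b * y2⁻¹ * b⁻¹ = (b * y2 * b⁻¹ * y2⁻¹)⁻¹ := by group
    have h4 : b * y2 * b⁻¹ * y2⁻¹ ∈ ww V cf z := mul_mem (conj_mem_wf hbc hy2W) (inv_mem hy2W)
    rw [h3, R.pi_inv h h4, ← h1, Abs.neg_eq two]
  have hcmW : ∀ b ∈ ww V cf y, y2 * b * y2⁻¹ * b⁻¹ ∈ ww V cf z := by
    intro b hb
    exact (h.comm_mem hz hz1 hy hy1 hy2W hb).1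
  have hP1 : ∀ b ∈ ww V cf y, b ∉ qq V cf z → y2 * b * y2⁻¹ * b⁻¹ = y * u ∨
      y2 * b * y2⁻¹ * b⁻¹ = z * (y * u) := by
    intro b hb hbQ
    refine (R.pi_eq h (hcmW b hb) (mul_mem hyW huz)).mp ?_
    rw [hcmb b hb hbQ, hpyu]
  have hP2 : y2 ∉ qq V cf y := by
    intro hq
    have h1 := hcmb a ha haQ
    rcases h.qq_cases hy hq ha with e | e
    · rw [e, mul_inv_cancel, R.pi_one h] at h1
      exact N.symm.b1_ne h1.symm
    · rw [e, mul_assoc, mul_inv_cancel, mul_one] at h1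
      exact hb2v h1.symm
  -- `Q_z` separates
  let X : AddSubgroup M :=
    { carrier := {m | ∃ w ∈ ww V cf z, R.pi w = m ∧ ∀ q ∈ qq V cf z, q * w = w * q}
      zero_mem' := ⟨1, one_mem _, R.pi_one h, fun q _ => by rw [mul_one, one_mul]⟩
      add_mem' := by
        rintro _ _ ⟨w, hw, rfl, h1⟩ ⟨w', hw', rfl, h2⟩
        exact ⟨w * w', mul_mem hw hw', R.pi_mul w hw w' hw', fun q hq => comm_mul_of (h1 q hq) (h2 q hq)⟩
      neg_mem' := by
        rintro _ ⟨w, hw, rfl, h1⟩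
        exact ⟨w⁻¹, inv_mem hw, R.pi_inv h hw, fun q hq => (inv_comm_of (h1 q hq).symm).symm⟩ }
  have hXinv : ∀ x : H, ∀ m ∈ X, x • m ∈ X := by
    rintro x _ ⟨w, hw, rfl, h1⟩
    obtain ⟨c, hc, rfl⟩ := R.phi_surj x
    refine ⟨c * w * c⁻¹, conj_mem_wf hc hw, (R.act c hc w hw).symm, fun q hq => ?_⟩
    have h2 := h1 _ (conj_mem_of_normalizer' (h.cf_norm_qq hz hz1) hc hq)
    calc q * (c * w * c⁻¹) = c * ((c⁻¹ * q * c) * w) * c⁻¹ := by group
      _ = c * (w * (c⁻¹ * q * c)) * c⁻¹ := by rw [h2]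
      _ = c * w * c⁻¹ * q := by group
  have hX0 : ∀ w ∈ ww V cf z, (∀ q ∈ qq V cf z, q * w = w * q) → R.pi w = 0 := by
    intro w hw hc
    by_contra hne
    obtain ⟨w', hw', e, h1⟩ := N.irr two hXinv ⟨w, hw, rfl, hc⟩ hne
    obtain ⟨k, hk, hk1⟩ := h.exists_mover hz hz1
    have h2 := h.move hz hz1 hy hy1 hyz hk hk1
    have h3 : k * y = y * k := by
      rcases (R.pi_eq h hyW hw').mp e.symm with e1 | e1
      · rw [e1]; exact h1 k hk
      · rw [e1]
        exact comm_mul_of (h.qq_p hk) (h1 k hk)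
    rw [conj_eq_of_comm h3] at h2
    exact hz1 (by simpa using h2.symm)
  have hsep : ∀ w ∈ ww V cf z, R.pi w ≠ 0 → ∃ q ∈ qq V cf z, q * w * q⁻¹ = z * w := by
    intro w hw hne
    by_contra hcon
    push Not at hcon
    exact hne (hX0 w hw fun q hq => comm_of_conj_eq ((h.qq_cases hz hq hw).resolve_right (hcon q hq)))
  have hdual : ∀ w ∈ ww V cf z, w = 1 ∨ w = z ∨ w = u ∨ w = z * u ∨
      ∃ q ∈ qq V cf z, q * u = u * q ∧ q * w * q⁻¹ = z * w := by
    intro w hw
    by_cases h0 : R.pi w = 0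
    · rcases (R.pi_ker w hw).mp h0 with e | e
      · exact Or.inl e
      · exact Or.inr (Or.inl e)
    by_cases h1 : R.pi w = R.pi u
    · rcases (R.pi_eq h hw huz).mp h1 with e | e
      · exact Or.inr (Or.inr (Or.inl e))
      · exact Or.inr (Or.inr (Or.inr (Or.inl e)))
    right; right; right; right
    have hwu : w * u ∈ ww V cf z := mul_mem hw huz
    have h2 : R.pi (w * u) ≠ 0 := by
      rw [R.pi_mul w hw u huz]
      intro e
      apply h1
      have := eq_neg_of_add_eq_zero_left e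
      rwa [Abs.neg_eq two] at this
    obtain ⟨q1, hq1, e1⟩ := hsep w hw h0
    obtain ⟨q2, hq2, e2⟩ := hsep (w * u) hwu h2
    have e2' : (q2 * w * q2⁻¹) * (q2 * u * q2⁻¹) = z * (w * u) := by rw [← e2]; group
    rcases h.qq_cases hz hq1 huz with f1 | f1
    · exact ⟨q1, hq1, comm_of_conj_eq f1, e1⟩
    rcases h.qq_cases hz hq2 huz with f2 | f2
    · refine ⟨q2, hq2, comm_of_conj_eq f2, ?_⟩
      rw [f2] at e2'
      have e2'' : q2 * w * q2⁻¹ * u = z * w * u := by rw [e2', mul_assoc]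
      exact mul_right_cancel e2''
    · -- `q1 q2`
      have hzu : z * u = u * z := h.comm hz hz1 z h.z_mem_ww u huz
      have e3 : q2 * w * q2⁻¹ = w := by
        rcases h.qq_cases hz hq2 hw with e | e
        · exact e
        · exfalso
          rw [e, f2] at e2'
          have hzw : w * z = z * w := h.comm hz hz1 w hw z h.z_mem_ww
          have : z * w * (z * u) = w * u := by
            calc z * w * (z * u) = z * (w * z) * u := by group
              _ = (z * z) * w * u := by rw [hzw]; group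
              _ = w * u := by rw [h.ln.zz, one_mul]
          rw [this] at e2'
          exact hz1 (by simpa using e2'.symm)
      have hq1z : q1 * z * q1⁻¹ = z := conj_eq_of_comm (h.qq_p hq1)
      refine ⟨q1 * q2, mul_mem hq1 hq2, comm_of_conj_eq ?_, ?_⟩
      · calc q1 * q2 * u * (q1 * q2)⁻¹ = q1 * (q2 * u * q2⁻¹) * q1⁻¹ := by group
          _ = q1 * (z * u) * q1⁻¹ := by rw [f2]
          _ = (q1 * z * q1⁻¹) * (q1 * u * q1⁻¹) := by group
          _ = (z * z) * u := by rw [hq1z, f1, mul_assoc]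
          _ = u := by rw [h.ln.zz, one_mul]
      · calc q1 * q2 * w * (q1 * q2)⁻¹ = q1 * (q2 * w * q2⁻¹) * q1⁻¹ := by group
          _ = z * w := by rw [e3, e1]
  exact h.nine_core hy hy1 hyz huj huV hjj hf hfu hprod hP1 hP2 hdual hCV hKK h36

end Fam

end Cfsg.Agent.Omega.NO3S.Fit

end

end

-- merged: Cfsg.Agent.Mrg.Omega.NO3S.Fit.NineDead
section

/-!
# NO-3S, `q = 2`, `n = 1` (helper311's text #13963), section 4: the type T9 is impossible

`nineDead : NineDead` : the hypothesis `NineDead` of `Fit/FinMain.lean` is a theorem.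
-/

set_option autoImplicit false

namespace Cfsg.Agent.Omega.NO3S.Fit

open Subgroup Cfsg Cfsg.Agent.ZN Cfsg.Agent.MinSimple.Geo Cfsg.Agent.Omega.CaseL

universe u

/-- **the type T9 is impossible** (#13963, section 4) -/
theorem nineDead : NineDead.{u} := by
  intro G _ _ T V z cf h M H _ _ _ _ _ _ R y hy hy1 hyz a d1 d2 b1 b2 N hu h36
  have hz := h.ln.z_mem
  have hz1 := h.ln.z_ne
  have hk : Fam.One1 V cf := by
    refine h.one1_of hy hy1 hz hz1 (Ne.symm hyz) fun w hw w' hw' hwQ hwQ' => ?_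
    have hwc := h.ww_le_cf' hy hy1 hz hz1 hw
    have hwc' := h.ww_le_cf' hy hy1 hz hz1 hw'
    have hwwc := h.ww_le_cf' hy hy1 hz hz1 (mul_mem hw hw')
    by_contra hcon
    have e1 := hu w hw hwQ
    have e2 := hu w' hw' hwQ'
    have e3 := hu (w * w') (mul_mem hw hw') hcon
    rw [R.phi_mul w hwc w' hwc', e1, e2] at e3
    apply hwQ
    rw [← R.phi_ker w hwc, e1]
    exact mul_eq_left.mp e3
  obtain ⟨u, hu1, hu2⟩ := h.exists_not_qq hy hy1 hz hz1 (Ne.symm hyz)
  have N' : Abs.NineA (R.pi y) (R.phi u) d1 d2 b1 b2 := by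
    rw [hu u hu1 hu2]; exact N
  have D := dat_of_nine h hk hy hy1 hyz hu1 hu2 N'
  exact h.nine_false R hy hy1 hyz hk hu1 hu2 N' D.two D.kk_inf.le h36

end Cfsg.Agent.Omega.NO3S.Fit

end

-- merged: Cfsg.Agent.Mrg.Omega.NO3S.Fit.Nsix
section

/-!
# NO-3S, `q = 2`, `n = 1` (helper311's text #13963): (3.6) for the subfamily of `H1`

`Fam.h36` : if the full stabilizer of `v0` is the only part of `H` which maps `v0` into `[M, a]` (of order 4), and if `C_{M1}(a)` lies
in `[M, a]` for the span `M1` of the `K`-orbit of `v0`, then `N_G(I') ≤ N_G(V)`, `I' = jj` of the subfamily of `K`.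
-/

set_option autoImplicit false
set_option linter.unusedSectionVars false

namespace Cfsg.Agent.Omega.NO3S.Fit

open Subgroup Cfsg Cfsg.Agent.ZN Cfsg.Agent.MinSimple.Geo Cfsg.Agent.Omega.CaseL
open Cfsg.Agent.ZN.Block (conj_mem_of_normalizer conj_mem_of_normalizer' le_normalizer_of_forall
  mem_normalizer_of)

universe u

variable {G : Type u} [Group G] {T V : Subgroup G} {z : G} {cf : G → Subgroup G}
variable {M H : Type u} [AddCommGroup M] [Group H] [DistribMulAction H M]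

/-- the image in `M` of the intersection `I'` of the subfamily lies in `[M, a]` -/
theorem Fam.pi_jj_mem_br [Finite G] (h : Fam T V z cf) (R : MRep V cf z M H) {y : G} (hy : y ∈ V)
    (hy1 : y ≠ 1) (hyz : y ≠ z) {w : G} (hw : w ∈ ww V cf y) {K : Subgroup H}
    (hK : ∀ x : H, x • R.pi y = R.pi y → x ∈ K)
    (hD : ∀ m ∈ spn K (R.pi y), R.phi w • m = m → m ∈ Abs.br M (R.phi w)) {e : G}
    (he : e ∈ jj V (subf V z (R.pre K))) : e ∈ ww V cf z ∧ R.pi e ∈ Abs.br M (R.phi w) := by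
  have hz := h.ln.z_mem
  have hz1 := h.ln.z_ne
  have hC := R.le_pre h hy hy1 hyz hK
  have h1 : e ∈ wf V (R.pre K) := by
    have := he z hz hz1
    rwa [Fam.ww_subf hC] at this
  obtain ⟨h2, h3⟩ := (R.mem_wf_pre h hy hy1 hyz K).mp h1
  have h4 : e ∈ ww V cf y := h.ww_subf_le hC (R.pre_le K) hy hy1 (he y hy hy1)
  refine ⟨h2, hD _ h3 ?_⟩
  rw [R.act w (h.ww_le_cf' hy hy1 hz hz1 hw) e h2, conj_eq_of_comm (h.comm hy hy1 w hw e h4)]

/-- **(3.6) for the subfamily of `K`** -/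
theorem Fam.h36 [Finite G] (h : Fam T V z cf) (hcf : cf z = centralizer ({z} : Set G))
    (R : MRep V cf z M H) {y : G} (hy : y ∈ V) (hy1 : y ≠ 1) (hyz : y ≠ z) {w : G} (hw : w ∈ ww V cf y)
    (hm : ∀ x : H, x • R.pi y ∈ Abs.br M (R.phi w) → x • R.pi y = R.pi y)
    (h4 : Nat.card (Abs.br M (R.phi w)) = 4) {K : Subgroup H}
    (hK : ∀ x : H, x • R.pi y = R.pi y → x ∈ K) (h' : Fam T V z (subf V z (R.pre K)))
    (hD : ∀ m ∈ spn K (R.pi y), R.phi w • m = m → m ∈ Abs.br M (R.phi w)) :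
    ∀ g ∈ normalizer ((jj V (subf V z (R.pre K)) : Subgroup G) : Set G), g ∈ normalizer (V : Set G) := by
  have hz := h.ln.z_mem
  have hz1 := h.ln.z_ne
  have hbr : ∀ e ∈ jj V (subf V z (R.pre K)), e ∈ ww V cf z ∧ R.pi e ∈ Abs.br M (R.phi w) :=
    fun e he => h.pi_jj_mem_br R hy hy1 hyz hw hK hD he
  intro g hg
  have hVJ : ∀ v ∈ V, g * v * g⁻¹ ∈ jj V (subf V z (R.pre K)) := fun v hv =>
    conj_mem_of_normalizer (le_refl _) hg (h'.V_le_jj hv)
  -- `V` meets `V^g`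
  obtain ⟨q, hq, hq1, hp⟩ : ∃ q ∈ V, q ≠ 1 ∧ g * q * g⁻¹ ∈ V := by
    by_contra hcon
    push Not at hcon
    have : Finite (Abs.br M (R.phi w)) := Nat.finite_of_card_ne_zero (by omega)
    let f : V → Abs.br M (R.phi w) := fun v => ⟨R.pi (g * v * g⁻¹), (hbr _ (hVJ v v.2)).2⟩
    have hinj : Function.Injective f := by
      intro a b hab
      have e1 : R.pi (g * a * g⁻¹) = R.pi (g * b * g⁻¹) := congrArg Subtype.val hab
      rw [R.pi_eq h (hbr _ (hVJ a a.2)).1 (hbr _ (hVJ b b.2)).1] at e1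
      have e2 : g * ((a : G) * (b : G)⁻¹) * g⁻¹ ∈ V := by
        rcases e1 with e1 | e1
        · have e3 : g * ((a : G) * (b : G)⁻¹) * g⁻¹ = (g * a * g⁻¹) * (g * b * g⁻¹)⁻¹ := by group
          rw [e3, e1, mul_inv_cancel]; exact one_mem _
        · have e3 : g * ((a : G) * (b : G)⁻¹) * g⁻¹ = (g * a * g⁻¹) * (g * b * g⁻¹)⁻¹ := by group
          rw [e3, e1, mul_assoc, mul_inv_cancel, mul_one]; exact hz
      by_contra hne
      refine hcon _ (mul_mem a.2 (inv_mem b.2)) ?_ e2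
      intro e3
      exact hne (Subtype.ext (mul_inv_eq_one.mp e3))
    have hcard : Nat.card V = Nat.card (Abs.br M (R.phi w)) := by
      rw [h4]; exact h.ln.card_V
    have hsurj : Function.Surjective f :=
      ((Nat.bijective_iff_injective_and_card f).mpr ⟨hinj, hcard⟩).2
    obtain ⟨v, hv⟩ := hsurj ⟨R.pi y, (hbr _ (h'.V_le_jj hy)).2⟩
    have e1 : R.pi (g * v * g⁻¹) = R.pi y := congrArg Subtype.val hv
    have hv1 : (v : G) ≠ 1 := by
      intro e2
      rw [e2] at e1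
      have e3 : g * 1 * g⁻¹ = 1 := by group
      rw [e3, R.pi_one h] at e1
      exact R.v0_ne h hy hy1 hyz e1.symm
    refine hcon v v.2 hv1 ?_
    rcases (R.pi_eq h (hbr _ (hVJ v v.2)).1 (h.V_le hy)).mp e1 with e2 | e2
    · rw [e2]; exact hy
    · rw [e2]; exact mul_mem hz hy
  set p := g * q * g⁻¹ with hpd
  have hp1 : p ≠ 1 := Fam.conj_ne hq1
  obtain ⟨m, hmN, em⟩ := h.ln.trans p hp hp1
  obtain ⟨n, hnN, en⟩ := h.ln.trans q hq hq1
  have hNJ := h'.normalizer_le_normalizer_jj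
  set c := m⁻¹ * g * n with hc
  have hcz : c * z * c⁻¹ = z := by
    calc c * z * c⁻¹ = m⁻¹ * (g * (n * z * n⁻¹) * g⁻¹) * m := by rw [hc]; group
      _ = m⁻¹ * p * m := by rw [en]
      _ = z := by rw [← em]; group
  have hcJ : c ∈ normalizer ((jj V (subf V z (R.pre K)) : Subgroup G) : Set G) :=
    mul_mem (mul_mem (inv_mem (hNJ hmN)) hg) (hNJ hnN)
  have hccf : c ∈ cf z := by
    rw [hcf, mem_centralizer_singleton_iff]
    exact comm_of_conj_eq hcz
  have h5 : R.phi c • R.pi y ∈ Abs.br M (R.phi w) := by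
    rw [R.act c hccf y (h.V_le hy)]
    exact (hbr _ (conj_mem_of_normalizer (le_refl _) hcJ (h'.V_le_jj hy))).2
  have h6 : c ∈ normalizer (V : Set G) := (R.smul_v0_iff h hy hy1 hyz hccf).mp (hm _ h5)
  have e : g = m * c * n⁻¹ := by rw [hc]; group
  rw [e]
  exact mul_mem (mul_mem hmN h6) (inv_mem hnN)

/-- `Sub36` of FinMain.lean -/
theorem sub36 : Sub36.{u} := by
  intro G _ _ T V z cf h hcf M H _ _ _ _ _ _ R y hy hy1 hyz w hw hm h4 K hK h' hD
  exact h.h36 hcf R hy hy1 hyz hw hm h4 hK h' hD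

end Cfsg.Agent.Omega.NO3S.Fit

end

-- merged: Cfsg.Agent.Mrg.Omega.NO3S.Fit.Final
section

/-!
# NO-3S, `q = 2`, `n = 1` (helper311's text #13963): the node `FitP`
-/

set_option autoImplicit false

namespace Cfsg.Agent.Omega.NO3S.Fit

open Cfsg Cfsg.Agent.Omega.MinPar Cfsg.Agent.Omega.Frame Cfsg.Agent.Omega.FrameNOFF

universe u

/-- **`FitP` holds** -/
theorem fitP (K : Cls.{u}) : TwoOne.FitP K := fitP_of nineDead sub36 K

end Cfsg.Agent.Omega.NO3S.Fit

end

-- merged: Cfsg.Agent.Mrg.Omega.NO3S.TwoOne.Cases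
section

/-!
# NO-3S, `TwoOneFin`: the case list of `CompP` (assembler: helper391)

`FitP` is proved (helper568, `Fit.fitP`). `CompP K` is cut by `k = rk A` and the `λ`-transvections in `A`:

* `TvOneP K` : `k = 1`, `A = ⟨λ`-transvection`⟩` (helper311 #16747, TV);
* `NtOneP K` : `k = 1`, no `λ`-transvection (helper881 #18307, helper225 #17919, helper311 #17959);
* `MixP K` : `k ≥ 2`, some `λ`-transvection in `A` ⟹ all of them (helper311 #18168 (2));
* `TvBigP K` : `k ≥ 2`, `A` consists of `λ`-transvections (TV2, helper46's `known_card`);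
* `NtBigP K` : `k ≥ 2`, no `λ`-transvection (helper541, 409, 311, 881, 862);
* `compP : TvOneP K → NtOneP K → MixP K → TvBigP K → NtBigP K → CompP K`;
* `twoOneFin' : FOneP K → TvOneP K → NtOneP K → MixP K → TvBigP K → NtBigP K → TwoOneFin K`.
-/

set_option autoImplicit false

namespace Cfsg.Agent.Omega.NO3S.TwoOne

open Subgroup Cfsg Cfsg.Agent.Omega.MinPar Cfsg.Agent.Omega.Frame Cfsg.Agent.Omega.FrameNOFF
open Cfsg.Agent.ZN (zl zc o2)
open Cfsg.Agent.MinSimple.Geo (ws kq)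
open Cfsg.Agent.Classification.TitsFin (FinHyp)
open Cfsg.Agent.Omega.NO3S.Fit
open scoped commutatorElement

universe u

/-- `k = 1`: `|A| = 2` -/
def KOne {G : Type u} [Group G] (V : Subgroup G) : Prop :=
  ∀ p ∈ V, p ≠ 1 → (ee V p).relIndex (ws V p) = 2

/-- `A` consists of `λ`-transvections: `[W_p, W_q] ≤ V` -/
def AllTv {G : Type u} [Group G] (V : Subgroup G) : Prop :=
  ∀ p ∈ V, p ≠ 1 → ∀ q ∈ V, q ≠ 1 → ∀ a ∈ ws V p, ∀ b ∈ ws V q, ⁅a, b⁆ ∈ V

/-- `A ≠ 1` has order 2 and contains a `λ`-transvection: `[W_p, W_q] ≤ V`. -/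
theorem One.allTv_of_kOne {G : Type u} [Group G] [Finite G] {T V : Subgroup G} {z : G} (h : One T V z) (hk : KOne V)
    (hn : ¬ NT V) : AllTv V := by
  have key : ∃ p ∈ V, p ≠ 1 ∧ ws V p ≤ n0 V p := by
    by_contra hc
    apply hn
    intro p hp hp1
    by_contra hle
    apply hc
    refine ⟨p, hp, hp1, ?_⟩
    have h1 := relIndex_mul_relIndex (ee V p) (n0 V p) (ws V p) (h.ee_le_n0 hp hp1) (fun w hw => hw.1)
    rw [hk p hp hp1] at h1
    have h2 : (ee V p).relIndex (n0 V p) ≠ 1 := fun e => hle (relIndex_eq_one.mp e)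
    have h3 : (n0 V p).relIndex (ws V p) ≠ 0 := fun e => by rw [e, mul_zero] at h1; omega
    have h4 : (ee V p).relIndex (n0 V p) ≠ 0 := fun e => by rw [e, zero_mul] at h1; omega
    have h5 : (n0 V p).relIndex (ws V p) = 1 := by
      have h6 : 2 ≤ (ee V p).relIndex (n0 V p) := by omega
      have h7 : 1 ≤ (n0 V p).relIndex (ws V p) := by omega
      nlinarith
    exact relIndex_eq_one.mp h5
  obtain ⟨p, hp, hp1, hle⟩ := key
  intro r hr hr1 q hq hq1 a ha b hb
  obtain ⟨g, hg, hgp⟩ := h.xl_trans hp hp1 hr hr1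
  have hgn := h.xl_le_normalizer hg
  have h1 : g⁻¹ * a * g ∈ ws V p := by
    have := CaseL.conj_mem_ws g⁻¹ ha
    rw [inv_inv] at this
    have e : g⁻¹ * r * g = p := by rw [← hgp]; group
    rwa [e] at this
  have h2 := conj_mem_n0 hgn (hle h1)
  have e1 : g * (g⁻¹ * a * g) * g⁻¹ = a := by group
  rw [e1] at h2
  exact h2.2.2 q hq hq1 b hb

/-- A case of `CompP`, given by a property `C` of the pair `(G, V_P)`. -/
def CompCase (K : Cls.{u}) (C : ∀ (G : Type u) [Group G], Subgroup G → Prop) : Prop :=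
  ∀ (G : Type u) [Group G] [Finite G], K G → ∀ (S : Sylow 2 G) (P : Subgroup G), Hyp S P → ∀ z : G,
    One (S : Subgroup G) (zl (S : Subgroup G) P) z → C G (zl (S : Subgroup G) P) →
    ∀ (M H : Type u) [AddCommGroup M] [Finite M] [Group H] [Finite H] [DistribMulAction H M] [FaithfulSMul H M]
      (R : MRep (zl (S : Subgroup G) P) cg z M H), CenFit R → IsKnownSimple' G

variable (K : Cls.{u})

/-- `k = 1`, transvections -/
def TvOneP : Prop := CompCase K fun _ _ V => KOne V ∧ AllTv V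

/-- `k = 1`, no `λ`-transvection -/
def NtOneP : Prop := CompCase K fun _ _ V => KOne V ∧ NT V

/-- `k ≥ 2`, transvections -/
def TvBigP : Prop := CompCase K fun _ _ V => ¬ KOne V ∧ AllTv V

/-- `k ≥ 2`, no `λ`-transvection -/
def NtBigP : Prop := CompCase K fun _ _ V => ¬ KOne V ∧ NT V

/-- `k ≥ 2`, the mixed case -/
def MixP : Prop := CompCase K fun _ _ V => ¬ KOne V ∧ ¬ NT V ∧ ¬ AllTv V

variable {K}

/-- **`CompP` from its cases.** -/
theorem compP (h1 : TvOneP K) (h2 : NtOneP K) (h3 : MixP K) (h4 : TvBigP K) (h5 : NtBigP K) : CompP K := by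
  intro G _ _ hK S P h z ho M H _ _ _ _ _ _ R hc
  by_cases hk : KOne (zl (S : Subgroup G) P)
  · by_cases hn : NT (zl (S : Subgroup G) P)
    · exact h2 G hK S P h z ho ⟨hk, hn⟩ M H R hc
    · exact h1 G hK S P h z ho ⟨hk, ho.allTv_of_kOne hk hn⟩ M H R hc
  · by_cases hn : NT (zl (S : Subgroup G) P)
    · exact h5 G hK S P h z ho ⟨hk, hn⟩ M H R hc
    · by_cases ha : AllTv (zl (S : Subgroup G) P)
      · exact h4 G hK S P h z ho ⟨hk, ha⟩ M H R hc
      · exact h3 G hK S P h z ho ⟨hk, hn, ha⟩ M H R hc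

/-- **`TwoOneFin` with `FitP` plugged.** -/
theorem twoOneFin' (h0 : FOneP K) (h1 : TvOneP K) (h2 : NtOneP K) (h3 : MixP K) (h4 : TvBigP K) (h5 : NtBigP K) :
    TwoOneFin K :=
  twoOneFin h0 (Fit.fitP K) (compP h1 h2 h3 h4 h5)

end Cfsg.Agent.Omega.NO3S.TwoOne

end
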