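import Cfsg.Agent.Mrg.Omega.NO3S.Fit.Char
import Cfsg.Agent.Mrg.Omega.NO3S.TV.Sys
import Cfsg.Agent.MinSimple.VModule
import Mathlib.GroupTheory.Subgroup.Centralizer
import Mathlib.Algebra.Group.Subgroup.Pointwise
import Mathlib.Data.ZMod.Basic
import Mathlib.Tactic
import Cfsg.Agent.Mrg.Omega.CaseL.Base
import Cfsg.Agent.Mrg.Omega.NO3S.TwoOne.Main
import Cfsg.Agent.Mrg.Omega.NO3S.TwoOne.Cases
import Cfsg.Agent.Mrg.Omega.NO3S.TwoOne.PlaneKF

-- merged: Cfsg.Agent.Mrg.Omega.NO3S.TV.Def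
section

/-!
# NO-3a.4, transvection types (helper311's text #16747): vocabulary

`Fam T V z cf` (#13963, helper568): a family over the flag `(z, V)`.

* `pts V cf z` : the points `t ~ z`, i.e. `t = c y c⁻¹`, `c ∈ cf z`, `y ∈ V`, `y ≠ 1, z`;
* `wt V cf z t` : `W_t` (relative to `z`); `wt_conj` : `W_{c y c⁻¹} = (W_y)^c`;
* `Tvf T V z cf` : `k = 1` and `[W_p, W_q] ≤ V`.
-/

set_option autoImplicit false
set_option linter.unusedSectionVars false

namespace Cfsg.Agent.Omega.NO3S.TV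

open Subgroup Cfsg Cfsg.Agent.ZN Cfsg.Agent.MinSimple.Geo Cfsg.Agent.Omega.CaseL Cfsg.Agent.Omega.NO3S.Fit
open Cfsg.Agent.ZN.Block (conj_mem_of_normalizer conj_mem_of_normalizer' le_normalizer_of_forall
  mem_normalizer_of)

universe u

variable {G : Type u} [Group G]

/-- the points `t ~ z` -/
def pts (V : Subgroup G) (cf : G → Subgroup G) (z : G) : Set G :=
  {t | ∃ y ∈ V, y ≠ 1 ∧ y ≠ z ∧ ∃ c ∈ cf z, t = c * y * c⁻¹}

/-- `W_t` for `t ~ z` -/
def wt (V : Subgroup G) (cf : G → Subgroup G) (z t : G) : Subgroup G :=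
  sSup {W | ∃ y ∈ V, y ≠ 1 ∧ y ≠ z ∧ ∃ c ∈ cf z, t = c * y * c⁻¹ ∧ W = cj c (ww V cf y)}

/-- **The transvection situation**: `k = 1` and `[W_p, W_q] ≤ V`. -/
structure Tvf (T V : Subgroup G) (z : G) (cf : G → Subgroup G) : Prop extends Fam T V z cf where
  one : Fam.One1 V cf
  comm' : ∀ p ∈ V, p ≠ 1 → ∀ q ∈ V, q ≠ 1 → q ≠ p → ∀ a ∈ ww V cf p, ∀ b ∈ ww V cf q, a * b * a⁻¹ * b⁻¹ ∈ V

section fam

variable {T V : Subgroup G} {z : G} {cf : G → Subgroup G}

theorem mem_pts_conj {y c : G} (hy : y ∈ V) (hy1 : y ≠ 1) (hyz : y ≠ z) (hc : c ∈ cf z) :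
    c * y * c⁻¹ ∈ pts V cf z := ⟨y, hy, hy1, hyz, c, hc, rfl⟩

theorem mem_pts {y : G} (hy : y ∈ V) (hy1 : y ≠ 1) (hyz : y ≠ z) : y ∈ pts V cf z :=
  ⟨y, hy, hy1, hyz, 1, one_mem _, by simp⟩

theorem pts_conj {t c : G} (ht : t ∈ pts V cf z) (hc : c ∈ cf z) : c * t * c⁻¹ ∈ pts V cf z := by
  obtain ⟨y, hy, hy1, hyz, d, hd, rfl⟩ := ht
  exact ⟨y, hy, hy1, hyz, c * d, mul_mem hc hd, by group⟩

/-- two presentations of the same point give the same group -/
theorem cj_ww_eq (h : Fam T V z cf) {y y' c c' : G} (hy : y ∈ V) (hy1 : y ≠ 1) (hyz : y ≠ z)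
    (hy' : y' ∈ V) (hy1' : y' ≠ 1) (hyz' : y' ≠ z) (hc : c ∈ cf z) (hc' : c' ∈ cf z)
    (e : c * y * c⁻¹ = c' * y' * c'⁻¹) : cj c (ww V cf y) = cj c' (ww V cf y') := by
  have hz := h.ln.z_mem
  have hz1 := h.ln.z_ne
  -- `n = c'⁻¹ c` maps `y` to `y'` and centralizes `z`
  have hn : c'⁻¹ * c ∈ cf z := mul_mem (inv_mem hc') hc
  have hnz := h.cf_comm hz hz1 hn
  have hny : (c'⁻¹ * c) * y * (c'⁻¹ * c)⁻¹ = y' := by
    calc (c'⁻¹ * c) * y * (c'⁻¹ * c)⁻¹ = c'⁻¹ * (c * y * c⁻¹) * c' := by group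
      _ = y' := by rw [e]; group
  have hnn : c'⁻¹ * c ∈ normalizer (V : Set G) := by
    have h1 : ∀ g : G, g * z = z * g → ∀ a b : G, a ∈ V → a ≠ 1 → a ≠ z → b ∈ V → g * a * g⁻¹ = b →
        ∀ v ∈ V, g * v * g⁻¹ ∈ V := by
      intro g hg a b ha ha1 haz hb he v hv
      have hgz : g * z * g⁻¹ = z := by rw [hg]; group
      rcases h.ln.four hz ha hz1 ha1 (Ne.symm haz) hv with e1 | e1 | e1 | e1
      · rw [e1]; simp
      · rw [e1, hgz]; exact hz
      · rw [e1, he]; exact hb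
      · rw [e1]
        have : g * (z * a) * g⁻¹ = (g * z * g⁻¹) * (g * a * g⁻¹) := by group
        rw [this, hgz, he]
        exact mul_mem hz hb
    have h2 := h1 _ hnz y y' hy hy1 hyz hy' hny
    have hnz' : (c'⁻¹ * c)⁻¹ * z = z * (c'⁻¹ * c)⁻¹ := by
      have := (show Commute (c'⁻¹ * c) z from hnz).inv_left
      exact this
    have hny' : (c'⁻¹ * c)⁻¹ * y' * (c'⁻¹ * c)⁻¹⁻¹ = y := by rw [← hny]; group
    have h3 := h1 _ hnz' y' y hy' hy1' hyz' hy hny'
    rw [mem_normalizer_iff]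
    intro v
    refine ⟨h2 v, fun hv => ?_⟩
    have := h3 _ hv
    have e3 : (c'⁻¹ * c)⁻¹ * (c'⁻¹ * c * v * (c'⁻¹ * c)⁻¹) * (c'⁻¹ * c)⁻¹⁻¹ = v := by group
    rwa [e3] at this
  have h4 := h.cj_ww hnn hy hy1
  rw [hny] at h4
  rw [← h4, cj_cj, mul_inv_cancel_left]

/-- `W_{c y c⁻¹} = (W_y)^c` -/
theorem wt_conj (h : Fam T V z cf) {y c : G} (hy : y ∈ V) (hy1 : y ≠ 1) (hyz : y ≠ z) (hc : c ∈ cf z) :
    wt V cf z (c * y * c⁻¹) = cj c (ww V cf y) := by
  apply le_antisymm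
  · refine sSup_le ?_
    rintro W ⟨y', hy', hy1', hyz', c', hc', e, rfl⟩
    exact (cj_ww_eq h hy hy1 hyz hy' hy1' hyz' hc hc' e).ge
  · exact le_sSup ⟨y, hy, hy1, hyz, c, hc, rfl, rfl⟩

/-- `W_y` for `y ∈ V` -/
theorem wt_eq (h : Fam T V z cf) {y : G} (hy : y ∈ V) (hy1 : y ≠ 1) (hyz : y ≠ z) :
    wt V cf z y = ww V cf y := by
  have := wt_conj h hy hy1 hyz (one_mem (cf z))
  rwa [one_mul, inv_one, mul_one, cj_one] at this

/-- `W_{c t c⁻¹} = (W_t)^c` -/
theorem wt_cj (h : Fam T V z cf) {t c : G} (ht : t ∈ pts V cf z) (hc : c ∈ cf z) :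
    wt V cf z (c * t * c⁻¹) = cj c (wt V cf z t) := by
  obtain ⟨y, hy, hy1, hyz, d, hd, rfl⟩ := ht
  rw [wt_conj h hy hy1 hyz hd, cj_cj, ← wt_conj h hy hy1 hyz (mul_mem hc hd)]
  congr 1
  group

end fam

end Cfsg.Agent.Omega.NO3S.TV

end

-- merged: Cfsg.Agent.Mrg.Omega.NO3S.TV.Form
section

section


/-!
# NO-3a.4, transvection types (helper311's text #16747): section 1

`h : Tvf T V z cf` (`k = 1`, `[W_p, W_q] ≤ V`), `R : MRep V cf z M H`, `y ∈ V`, `y ≠ 1, z`, `v0 = R.pi y`.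

* `Tvf.point` : every point of `V` is as good as `z`;
* `Tvf.exists_special`, `Tvf.pre` : (1.1) for `v0` and `a0 = φ(w0)`, `w0 ∈ W_y - Q_z`;
* `Tvf.rel` : the GOOD case: `W_p ∩ Q_q` centralises `W_q`, `⁅a, b⁆ = p q` otherwise.
-/

set_option autoImplicit false
set_option linter.unusedSectionVars false

namespace Cfsg.Agent.Omega.NO3S.TV

open Subgroup Cfsg Cfsg.Agent.ZN Cfsg.Agent.MinSimple.Geo Cfsg.Agent.Omega.CaseL Cfsg.Agent.Omega.NO3S.Fit
open scoped commutatorElement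
open Cfsg.Agent.ZN.Block (conj_mem_of_normalizer conj_mem_of_normalizer' le_normalizer_of_forall
  mem_normalizer_of)

universe u

variable {G : Type u} [Group G]

/-! ### commutators -/

/-- the commutator, expanded -/
theorem cm_def (a b : G) : ⁅a, b⁆ = a * b * a⁻¹ * b⁻¹ := rfl

theorem cm_eq_one {a b : G} : ⁅a, b⁆ = 1 ↔ a * b = b * a := commutatorElement_eq_one_iff_mul_comm

theorem cm_inv (a b : G) : ⁅a, b⁆⁻¹ = ⁅b, a⁆ := commutatorElement_inv a b

theorem cm_conj (g a b : G) : g * ⁅a, b⁆ * g⁻¹ = ⁅g * a * g⁻¹, g * b * g⁻¹⁆ := by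
  rw [cm_def, cm_def]; group

/-- `⁅a, b c⁆ = ⁅a, b⁆ ⁅a, c⁆` if `b` commutes with `⁅a, c⁆` -/
theorem cm_mul_right {a b c : G} (h : b * ⁅a, c⁆ = ⁅a, c⁆ * b) : ⁅a, b * c⁆ = ⁅a, b⁆ * ⁅a, c⁆ := by
  have e : ⁅a, b * c⁆ = ⁅a, b⁆ * (b * ⁅a, c⁆ * b⁻¹) := by simp only [cm_def]; group
  rw [e, h]; group

/-- `⁅a b, c⁆ = ⁅a, c⁆ ⁅b, c⁆` if `a` commutes with `⁅b, c⁆` and with the product -/
theorem cm_mul_left {a b c : G} (h : a * ⁅b, c⁆ = ⁅b, c⁆ * a) (h' : ⁅b, c⁆ * ⁅a, c⁆ = ⁅a, c⁆ * ⁅b, c⁆) :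
    ⁅a * b, c⁆ = ⁅a, c⁆ * ⁅b, c⁆ := by
  have e : ⁅a * b, c⁆ = (a * ⁅b, c⁆ * a⁻¹) * ⁅a, c⁆ := by simp only [cm_def]; group
  rw [e, h, ← h']; group

variable {T V : Subgroup G} {z : G} {cf : G → Subgroup G}

namespace Tvf

/-! ### points -/

theorem point (h : Tvf T V z cf) {p : G} (hp : p ∈ V) (hp1 : p ≠ 1) :
    ∃ g ∈ normalizer (V : Set G), g * z * g⁻¹ = p ∧ Tvf (cj g T) V p cf := by
  obtain ⟨g, hg, e, hf⟩ := h.toFam.point hp hp1
  exact ⟨g, hg, e, ⟨hf, h.one, h.comm'⟩⟩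

variable (h : Tvf T V z cf)
include h

theorem z_mem : z ∈ V := h.ln.z_mem

theorem z_ne : z ≠ 1 := h.ln.z_ne

/-- `⁅a, b⁆ ∈ V` -/
theorem cm_mem {p q : G} (hp : p ∈ V) (hp1 : p ≠ 1) (hq : q ∈ V) (hq1 : q ≠ 1) (hqp : q ≠ p) {a b : G}
    (ha : a ∈ ww V cf p) (hb : b ∈ ww V cf q) : ⁅a, b⁆ ∈ V := h.comm' p hp hp1 q hq hq1 hqp a ha b hb

/-- elements of `W_p` commute with the elements of `V` -/
theorem wV {p v a : G} (hp : p ∈ V) (hp1 : p ≠ 1) (ha : a ∈ ww V cf p) (hv : v ∈ V) : a * v = v * a :=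
  (mem_centralizer_iff.mp (h.ww_le_cent hp hp1 ha) v hv).symm

theorem VV {v w : G} (hv : v ∈ V) (hw : w ∈ V) : v * w = w * v :=
  h.comm h.z_mem h.z_ne v (h.V_le hv) w (h.V_le hw)

/-- `⁅a, b c⁆ = ⁅a, b⁆ ⁅a, c⁆` -/
theorem cm_mulr {p q : G} (hp : p ∈ V) (hp1 : p ≠ 1) (hq : q ∈ V) (hq1 : q ≠ 1) (hqp : q ≠ p) {a b c : G}
    (ha : a ∈ ww V cf p) (hb : b ∈ ww V cf q) (hc : c ∈ ww V cf q) : ⁅a, b * c⁆ = ⁅a, b⁆ * ⁅a, c⁆ :=
  cm_mul_right (h.wV hq hq1 hb (h.cm_mem hp hp1 hq hq1 hqp ha hc))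

/-- `⁅a b, c⁆ = ⁅a, c⁆ ⁅b, c⁆` -/
theorem cm_mull {p q : G} (hp : p ∈ V) (hp1 : p ≠ 1) (hq : q ∈ V) (hq1 : q ≠ 1) (hqp : q ≠ p) {a b c : G}
    (ha : a ∈ ww V cf p) (hb : b ∈ ww V cf p) (hc : c ∈ ww V cf q) : ⁅a * b, c⁆ = ⁅a, c⁆ * ⁅b, c⁆ :=
  cm_mul_left (h.wV hp hp1 ha (h.cm_mem hp hp1 hq hq1 hqp hb hc))
    (h.VV (h.cm_mem hp hp1 hq hq1 hqp hb hc) (h.cm_mem hp hp1 hq hq1 hqp ha hc))

/-- the commutator is symmetric -/
theorem cm_symm {p q : G} (hp : p ∈ V) (hp1 : p ≠ 1) (hq : q ∈ V) (hq1 : q ≠ 1) (hqp : q ≠ p) {a b : G}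
    (ha : a ∈ ww V cf p) (hb : b ∈ ww V cf q) : ⁅b, a⁆ = ⁅a, b⁆ := by
  rw [← cm_inv, h.ln.inv_eq (h.cm_mem hp hp1 hq hq1 hqp ha hb)]

/-- `a ∈ W_p ∩ Q_q` iff `⁅a, b⁆ ∈ {1, q}` for all `b ∈ W_q` -/
theorem mem_qq_iff {p q : G} (hp : p ∈ V) (hp1 : p ≠ 1) (hq : q ∈ V) (hq1 : q ≠ 1) {a : G}
    (ha : a ∈ ww V cf p) : a ∈ qq V cf q ↔ ∀ b ∈ ww V cf q, ⁅a, b⁆ = 1 ∨ ⁅a, b⁆ = q := by
  constructor
  · intro h1 b hb
    have := h1.2.2 b hb
    rwa [mem_zpowers_iff_of_mul_self (h.ln.sq q hq)] at this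
  · intro h1
    refine ⟨h.ww_le_cf' hp hp1 hq hq1 ha, h.wV hp hp1 ha hq, fun b hb => ?_⟩
    rw [mem_zpowers_iff_of_mul_self (h.ln.sq q hq)]
    exact h1 b hb

variable [Finite G]

/-- **The special element of `W_y`**: every `m ∈ W_z` with `⁅m, w⁆ ∈ {1, z}` commutes with `w`. -/
theorem exists_special {y : G} (hy : y ∈ V) (hy1 : y ≠ 1) (hyz : y ≠ z) :
    ∃ w ∈ ww V cf y, w ∉ qq V cf z ∧ ∀ m ∈ ww V cf z, (⁅m, w⁆ = 1 ∨ ⁅m, w⁆ = z) → m * w = w * m := by
  have hz := h.z_mem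
  have hz1 := h.z_ne
  by_cases hb : ∃ w ∈ ww V cf y, w ∉ qq V cf z ∧ ∀ m ∈ ww V cf z, ⁅m, w⁆ = 1 ∨ ⁅m, w⁆ = y
  · obtain ⟨w, hw, hwz, hw1⟩ := hb
    refine ⟨w, hw, hwz, fun m hm hmz => cm_eq_one.mp ?_⟩
    rcases hw1 m hm with e | e
    · exact e
    · rcases hmz with e' | e'
      · exact e'
      · rw [e] at e'; exact absurd e' hyz
  · push Not at hb
    obtain ⟨w0, hw0, hw0z⟩ := h.exists_not_qq hy hy1 hz hz1 (Ne.symm hyz)
    refine ⟨w0, hw0, hw0z, fun m hm hmz => cm_eq_one.mp ?_⟩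
    -- all commutators of `m` are in `{1, z}`
    have hall : ∀ w ∈ ww V cf y, ⁅m, w⁆ = 1 ∨ ⁅m, w⁆ = z := by
      intro w hw
      by_cases hwz : w ∈ qq V cf z
      · have := (h.mem_qq_iff hy hy1 hz hz1 hw).mp hwz m hm
        rwa [h.cm_symm hz hz1 hy hy1 hyz hm hw] at this
      · have h1 := h.one y hy hy1 z hz hz1 (Ne.symm hyz) w0 hw0 w hw hw0z hwz
        have h2 := (h.mem_qq_iff hy hy1 hz hz1 (mul_mem hw0 hw)).mp h1 m hm
        rw [h.cm_symm hz hz1 hy hy1 hyz hm (mul_mem hw0 hw), h.cm_mulr hz hz1 hy hy1 hyz hm hw0 hw] at h2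
        have hzz := h.ln.sq z hz
        rcases hmz with e | e <;> rcases h2 with e2 | e2 <;> rw [e] at e2
        · left; simpa using e2
        · right; simpa using e2
        · right
          calc ⁅m, w⁆ = z * z * ⁅m, w⁆ := by rw [hzz, one_mul]
            _ = z * (z * ⁅m, w⁆) := mul_assoc _ _ _
            _ = z := by rw [e2, mul_one]
        · left
          exact mul_left_cancel (e2.trans (mul_one z).symm)
    -- so `m ∈ Q_y` by the good case at `(y, z)`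
    have hmy : m ∈ qq V cf y := by
      by_contra hmy
      obtain ⟨g, hg, e1, e2⟩ := h.trans2 hz hz1 hy hy1 hyz hy hy1 hz hz1 (Ne.symm hyz)
      have hm' : g * m * g⁻¹ ∈ ww V cf y := by
        have := h.conj_ww hg hz hz1 hm
        rwa [e1] at this
      have hm'z : g * m * g⁻¹ ∉ qq V cf z := by
        intro h3
        apply hmy
        have := h.conj_qq (inv_mem hg) hz hz1 h3
        have e3 : g⁻¹ * z * g⁻¹⁻¹ = y := by rw [← e2]; group
        have e4 : g⁻¹ * (g * m * g⁻¹) * g⁻¹⁻¹ = m := by group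
        rwa [e3, e4] at this
      obtain ⟨n, hn, hn1⟩ := hb _ hm' hm'z
      have hn' : g⁻¹ * n * g ∈ ww V cf y := by
        have := h.conj_ww (inv_mem hg) hz hz1 hn
        have e3 : g⁻¹ * z * g⁻¹⁻¹ = y := by rw [← e2]; group
        rwa [e3, inv_inv] at this
      have e5 : g * ⁅g⁻¹ * n * g, m⁆ * g⁻¹ = ⁅n, g * m * g⁻¹⁆ := by
        rw [cm_conj]; congr 1; group
      have h6 := hall _ hn'
      rw [← h.cm_symm hz hz1 hy hy1 hyz hm hn'] at h6
      rcases h6 with e6 | e6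
      · rw [e6] at e5
        exact hn1.1 (by rw [← e5]; group)
      · rw [e6, e1] at e5
        exact hn1.2 e5.symm
    rcases (h.mem_qq_iff hz hz1 hy hy1 hm).mp hmy w0 hw0 with e | e
    · exact e
    · rcases hmz with e' | e'
      · exact e'
      · rw [e] at e'; exact absurd e' hyz

/-! ### (1.1) -/

variable {M H : Type u} [AddCommGroup M] [Group H] [DistribMulAction H M]

omit [Finite G] in
/-- all elements of `W_y - Q_z` have the same image -/
theorem phi_eq_of (R : MRep V cf z M H) {y w w' : G} (hy : y ∈ V) (hy1 : y ≠ 1) (hyz : y ≠ z)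
    (hw : w ∈ ww V cf y) (hw' : w' ∈ ww V cf y) (hwz : w ∉ qq V cf z) (hwz' : w' ∉ qq V cf z) :
    R.phi w = R.phi w' := by
  have hz := h.z_mem
  have hz1 := h.z_ne
  have hwc := h.ww_le_cf' hy hy1 hz hz1 hw
  have hwc' := h.ww_le_cf' hy hy1 hz hz1 hw'
  have h1 := h.one y hy hy1 z hz hz1 (Ne.symm hyz) w hw w' hw' hwz hwz'
  have h2 := (R.phi_ker _ (mul_mem hwc hwc')).mpr h1
  rw [R.phi_mul w hwc w' hwc'] at h2
  calc R.phi w = R.phi w * (R.phi w' * R.phi w') := by rw [R.sq_A h.toFam hy hy1 hw', mul_one]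
    _ = R.phi w' := by rw [← mul_assoc, h2, one_mul]

omit [Finite G] in
theorem phi_one_of (R : MRep V cf z M H) {w : G} (hw : w ∈ qq V cf z) : R.phi w = 1 :=
  (R.phi_ker w hw.1).mpr hw

/-- **(1.1)**, group part -/
theorem pre (R : MRep V cf z M H) [FaithfulSMul H M] {y w0 : G} (hy : y ∈ V) (hy1 : y ≠ 1) (hyz : y ≠ z)
    (hw0 : w0 ∈ ww V cf y) (hw0z : w0 ∉ qq V cf z) : Abs.Pre (R.pi y) (R.phi w0) := by
  have hz := h.z_mem
  have hz1 := h.z_ne
  have hyW : y ∈ ww V cf z := h.V_le hy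
  have hwc0 := h.ww_le_cf' hy hy1 hz hz1 hw0
  have hmv : ∀ m : M, R.phi w0 • m = m ∨ R.phi w0 • m = m + R.pi y := by
    intro m
    obtain ⟨b, hb, rfl⟩ := R.pi_surj m
    have h1 := R.comm_eq h.toFam hwc0 hb
    have hv : w0 * b * w0⁻¹ * b⁻¹ ∈ V := h.comm' y hy hy1 z hz hz1 (Ne.symm hyz) w0 hw0 b hb
    rcases h.ln.four hz hy hz1 hy1 (Ne.symm hyz) hv with e | e | e | e
    · left; rw [e, R.pi_one h.toFam, sub_eq_zero] at h1; exact h1
    · left; rw [e, R.pi_z h.toFam, sub_eq_zero] at h1; exact h1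
    · right; rw [e, sub_eq_iff_eq_add, add_comm] at h1; exact h1
    · right
      rw [e, R.pi_mul z h.z_mem_ww y hyW, R.pi_z h.toFam, zero_add, sub_eq_iff_eq_add, add_comm] at h1
      exact h1
  have hstab : ∀ x : H, x • R.pi y = R.pi y → x * R.phi w0 = R.phi w0 * x := by
    intro x hx
    obtain ⟨w', hw', e, d, hd, rfl, rfl⟩ := R.norm_A h.toFam hy hy1 hy hy1 hyz hx hw0
    have hdc := h.cent_le_cf hz hz1 hd
    have hn : d * w0 * d⁻¹ ∉ qq V cf z := by
      intro h3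
      apply hw0z
      have := conj_mem_of_normalizer (h.cf_norm_qq hz hz1) (inv_mem hdc) h3
      have e4 : d⁻¹ * (d * w0 * d⁻¹) * d⁻¹⁻¹ = w0 := by group
      rwa [e4] at this
    rw [h.phi_eq_of R hy hy1 hyz hw' hw0 hn hw0z] at e
    exact mul_inv_eq_iff_eq_mul.mp e
  have hne : ∃ m : M, R.phi w0 • m ≠ m := by
    by_contra hcon
    push Not at hcon
    apply hw0z
    rw [← R.phi_ker w0 hwc0]
    refine FaithfulSMul.eq_of_smul_eq_smul (M := H) (α := M) fun m => ?_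
    rw [one_smul, hcon]
  refine ⟨R.two h.toFam, hne, hmv, hstab, R.span h.toFam hy hy1 hyz, ?_⟩
  intro x hx
  obtain ⟨c, hc, rfl⟩ := R.phi_surj x
  obtain ⟨w, hw, hwz, hsp⟩ := h.exists_special hy hy1 hyz
  have hwc := h.ww_le_cf' hy hy1 hz hz1 hw
  have he : R.phi w0 = R.phi w := h.phi_eq_of R hy hy1 hyz hw0 hw hw0z hwz
  have htW : c * y * c⁻¹ ∈ ww V cf z := conj_mem_wf hc hyW
  have hcz := h.cf_comm hz hz1 hc
  -- `w` commutes with `t`
  have hwt : (c * y * c⁻¹) * w = w * (c * y * c⁻¹) := by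
    apply hsp _ htW
    rw [R.act c hc y hyW, he] at hx
    have h1 := R.comm_eq h.toFam hwc htW
    rw [hx, sub_self] at h1
    have h2 : w * (c * y * c⁻¹) * w⁻¹ * (c * y * c⁻¹)⁻¹ ∈ ww V cf z :=
      mul_mem (conj_mem_wf hwc htW) (inv_mem htW)
    have h3 := (R.pi_ker _ h2).mp h1.symm
    have h4 : ⁅c * y * c⁻¹, w⁆ = ⁅w, c * y * c⁻¹⁆ := h.cm_symm hy hy1 hz hz1 (Ne.symm hyz) hw htW
    rw [h4]
    exact h3
  -- `c⁻¹ w c` centralizes `V`
  have hcen : c⁻¹ * w * c ∈ centralizer (V : Set G) := by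
    refine h.mem_centralizer_of hz hz1 hy hy1 hyz ?_ ?_
    · have h1 : w * z = z * w := h.wV hy hy1 hw hz
      have h2 : c⁻¹ * z = z * c⁻¹ := (show Commute c z from hcz).inv_left
      calc c⁻¹ * w * c * z = c⁻¹ * w * (c * z) := by group
        _ = c⁻¹ * w * (z * c) := by rw [hcz]
        _ = c⁻¹ * (w * z) * c := by group
        _ = c⁻¹ * (z * w) * c := by rw [h1]
        _ = c⁻¹ * z * w * c := by group
        _ = z * c⁻¹ * w * c := by rw [h2]
        _ = z * (c⁻¹ * w * c) := by group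
    · calc c⁻¹ * w * c * y = c⁻¹ * (w * (c * y * c⁻¹)) * c := by group
        _ = c⁻¹ * ((c * y * c⁻¹) * w) * c := by rw [hwt]
        _ = y * (c⁻¹ * w * c) := by group
  have h5 : ((R.phi c)⁻¹ * R.phi w0 * R.phi c) • R.pi y = R.pi y := by
    have := R.cent_v0 h.toFam hy hcen
    rwa [R.phi_mul _ (mul_mem (inv_mem hc) hwc) _ hc, R.phi_mul _ (inv_mem hc) _ hwc, R.phi_inv hc, ← he] at this
  have h6 := hstab _ h5
  -- `a0` commutes with `a_u`
  have h7 : (R.phi c * R.phi w0 * (R.phi c)⁻¹) * R.phi w0 = R.phi w0 * (R.phi c * R.phi w0 * (R.phi c)⁻¹) := by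
    calc (R.phi c * R.phi w0 * (R.phi c)⁻¹) * R.phi w0
        = R.phi c * (R.phi w0 * ((R.phi c)⁻¹ * R.phi w0 * R.phi c)) * (R.phi c)⁻¹ := by group
      _ = R.phi c * (((R.phi c)⁻¹ * R.phi w0 * R.phi c) * R.phi w0) * (R.phi c)⁻¹ := by rw [h6]
      _ = R.phi w0 * (R.phi c * R.phi w0 * (R.phi c)⁻¹) := by group
  obtain ⟨m, hm⟩ := hne
  have hm1 := (hmv m).resolve_left hm
  set a := R.phi c * R.phi w0 * (R.phi c)⁻¹ with ha
  have h8 : a • m + a • R.pi y = R.phi w0 • a • m := by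
    rw [← smul_add, ← hm1, ← mul_smul, ← mul_smul, h7]
  rcases hmv (a • m) with e | e
  · rw [e] at h8
    have h9 : a • R.pi y = 0 := by simpa using h8
    exact absurd ((smul_eq_zero_iff_eq a).mp h9) (R.v0_ne h.toFam hy hy1 hyz)
  · rw [e] at h8
    exact add_left_cancel h8

/-- the form exists -/
theorem exists_isForm (R : MRep V cf z M H) [FaithfulSMul H M] {y w0 : G} (hy : y ∈ V) (hy1 : y ≠ 1) (hyz : y ≠ z)
    (hw0 : w0 ∈ ww V cf y) (hw0z : w0 ∉ qq V cf z) : ∃ B, Abs.IsForm (R.pi y) (R.phi w0) B :=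
  (h.pre R hy hy1 hyz hw0 hw0z).exists_form

/-- `W_z ∩ Q_y` is the orthogonal space of `y` -/
theorem form_qq (R : MRep V cf z M H) {y w0 : G} (hy : y ∈ V) (hy1 : y ≠ 1) (hyz : y ≠ z)
    {B : M → M → ZMod 2} (F : Abs.IsForm (R.pi y) (R.phi w0) B) {w : G} (hw : w ∈ ww V cf z) :
    B (R.pi w) (R.pi y) = 0 ↔ w ∈ qq V cf y := by
  classical
  have hz := h.z_mem
  have hz1 := h.z_ne
  have hyW : y ∈ ww V cf z := h.V_le hy
  have hzQ : z ∈ qq V cf y := h.kk_le_qq hy hy1 (h.V_le_kk hy hy1 hz)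
  let g : M → ZMod 2 := fun m => if ∃ w ∈ ww V cf z, R.pi w = m ∧ w ∈ qq V cf y then 0 else 1
  have hg0 : ∀ w ∈ ww V cf z, g (R.pi w) = 0 ↔ w ∈ qq V cf y := by
    intro w hw
    constructor
    · intro h1
      by_contra hcon
      have h2 : ¬ ∃ w' ∈ ww V cf z, R.pi w' = R.pi w ∧ w' ∈ qq V cf y := by
        rintro ⟨w', hw', e, hq⟩
        rcases (R.pi_eq h.toFam hw' hw).mp e with e | e
        · exact hcon (e ▸ hq)
        · have : w = z * w' := by rw [e, ← mul_assoc, h.ln.sq z hz, one_mul]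
          exact hcon (this ▸ mul_mem hzQ hq)
      have h3 : g (R.pi w) = 1 := if_neg h2
      rw [h3] at h1
      exact one_ne_zero h1
    · intro h1
      exact if_pos ⟨w, hw, rfl, h1⟩
  have hg1 : ∀ w ∈ ww V cf z, g (R.pi w) = 1 ↔ w ∉ qq V cf y := by
    intro w hw
    rw [← hg0 w hw]
    exact Abs.zmod_ne_zero.symm
  have hadd : ∀ a b, g (a + b) = g a + g b := by
    intro a b
    obtain ⟨u, hu, rfl⟩ := R.pi_surj a
    obtain ⟨v, hv, rfl⟩ := R.pi_surj b
    rw [← R.pi_mul u hu v hv]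
    by_cases h1 : u ∈ qq V cf y <;> by_cases h2 : v ∈ qq V cf y
    · rw [(hg0 u hu).mpr h1, (hg0 v hv).mpr h2, (hg0 _ (mul_mem hu hv)).mpr (mul_mem h1 h2), add_zero]
    · rw [(hg0 u hu).mpr h1, (hg1 v hv).mpr h2, zero_add]
      refine (hg1 _ (mul_mem hu hv)).mpr fun h3 => h2 ?_
      have := mul_mem (inv_mem h1) h3
      rwa [inv_mul_cancel_left] at this
    · rw [(hg1 u hu).mpr h1, (hg0 v hv).mpr h2, add_zero]
      refine (hg1 _ (mul_mem hu hv)).mpr fun h3 => h1 ?_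
      have := mul_mem h3 (inv_mem h2)
      rwa [mul_inv_cancel_right] at this
    · rw [(hg1 u hu).mpr h1, (hg1 v hv).mpr h2, (hg0 _ (mul_mem hu hv)).mpr (h.one z hz hz1 y hy hy1 hyz u hu v hv h1 h2)]
      decide
  have hinv : ∀ x : H, x • R.pi y = R.pi y → ∀ m, g (x • m) = g m := by
    intro x hx m
    obtain ⟨d, hd, rfl⟩ := R.stab h.toFam hy hy1 hyz hx
    obtain ⟨u, hu, rfl⟩ := R.pi_surj m
    have hdc := h.cent_le_cf hz hz1 hd
    have hdy := h.cent_le_cf hy hy1 hd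
    have hu' := conj_mem_wf hdc hu
    rw [R.act d hdc u hu]
    have key : d * u * d⁻¹ ∈ qq V cf y ↔ u ∈ qq V cf y := by
      constructor
      · intro h1
        have := conj_mem_of_normalizer (h.cf_norm_qq hy hy1) (inv_mem hdy) h1
        have e4 : d⁻¹ * (d * u * d⁻¹) * d⁻¹⁻¹ = u := by group
        rwa [e4] at this
      · intro h1
        exact conj_mem_of_normalizer (h.cf_norm_qq hy hy1) hdy h1
    by_cases h1 : u ∈ qq V cf y
    · rw [(hg0 u hu).mpr h1, (hg0 _ hu').mpr (key.mpr h1)]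
    · rw [(hg1 u hu).mpr h1, (hg1 _ hu').mpr fun h2 => h1 (key.mp h2)]
  have h0 : ∀ u ∈ Set.range (fun x : H => x • R.pi y), B (R.pi y) u = 0 → g u = 0 := by
    rintro _ ⟨x, rfl⟩ hx
    obtain ⟨m, hm⟩ := F.sys.nd _ (Set.mem_range_self x)
    have h1 := F.fix x (R.pi y) hx
    have h2 := hinv _ h1 m
    rw [F.mv x m (by rw [F.symm]; exact hm), hadd] at h2
    simpa using h2
  have hgy : ∀ m, g m = B (R.pi y) m := by
    rcases F.sys.fun_eq ⟨1, one_smul _ _⟩ hadd h0 with h1 | h1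
    · exfalso
      obtain ⟨w, hw, hwy⟩ := h.exists_not_qq hz hz1 hy hy1 hyz
      exact hwy ((hg0 w hw).mp (h1 _))
    · exact h1
  rw [← hg0 w hw, hgy, F.symm]

omit [Finite G] in
/-- transport of `Q_q` by `N_G(V)` -/
theorem qq_conj_iff {g q a : G} (hg : g ∈ normalizer (V : Set G)) (hq : q ∈ V) (hq1 : q ≠ 1) :
    g * a * g⁻¹ ∈ qq V cf (g * q * g⁻¹) ↔ a ∈ qq V cf q := by
  constructor
  · intro h1
    have := h.conj_qq (inv_mem hg) (h.conj_pt hg hq) (Fam.conj_ne hq1) h1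
    have e1 : g⁻¹ * (g * q * g⁻¹) * g⁻¹⁻¹ = q := by group
    have e2 : g⁻¹ * (g * a * g⁻¹) * g⁻¹⁻¹ = a := by group
    rwa [e1, e2] at this
  · exact h.conj_qq hg hq hq1

/-- **GOOD**: `W_p ∩ Q_q` centralises `W_q` -/
theorem good {p q a b : G} (hp : p ∈ V) (hp1 : p ≠ 1) (hq : q ∈ V) (hq1 : q ≠ 1) (hqp : q ≠ p)
    (ha : a ∈ ww V cf p) (haq : a ∈ qq V cf q) (hb : b ∈ ww V cf q) : a * b = b * a := by
  have hz := h.z_mem
  have hz1 := h.z_ne
  -- at `(z, y)`
  have key : ∀ y ∈ V, y ≠ 1 → y ≠ z → ∀ w ∈ ww V cf z, w ∈ qq V cf y → ∀ b ∈ ww V cf y, ⁅w, b⁆ = 1 := by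
    intro y hy hy1 hyz w hw hwy b hb
    obtain ⟨w0, hw0, hw0z⟩ := h.exists_not_qq hy hy1 hz hz1 (Ne.symm hyz)
    obtain ⟨M, H, _, _, _, _, _, _, ⟨R⟩⟩ := h.exists_mrep
    obtain ⟨B, F⟩ := h.exists_isForm R hy hy1 hyz hw0 hw0z
    have h1 := (h.form_qq R hy hy1 hyz F hw).mpr hwy
    have hbc := h.ww_le_cf' hy hy1 hz hz1 hb
    have h2 : R.phi b • R.pi w = R.pi w := by
      by_cases hbz : b ∈ qq V cf z
      · rw [h.phi_one_of R hbz, one_smul]
      · rw [h.phi_eq_of R hy hy1 hyz hb hw0 hbz hw0z]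
        have := F.fix 1 (R.pi w) (by rwa [one_smul])
        rwa [one_mul, inv_one, mul_one] at this
    have h3 := R.comm_eq h.toFam hbc hw
    rw [h2, sub_self] at h3
    have h4 : b * w * b⁻¹ * w⁻¹ ∈ ww V cf z := mul_mem (conj_mem_wf hbc hw) (inv_mem hw)
    have h5 := (R.pi_ker _ h4).mp h3.symm
    have h6 := (h.mem_qq_iff hz hz1 hy hy1 hw).mp hwy b hb
    have h7 := h.cm_symm hz hz1 hy hy1 hyz hw hb
    rw [← cm_def, h7] at h5
    rcases h5 with e | e
    · exact e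
    · rcases h6 with e' | e'
      · exact e'
      · rw [e] at e'; exact absurd e'.symm hyz
  obtain ⟨y, hy, hy1, hyz⟩ := h.ln.exists_y
  obtain ⟨g, hg, e1, e2⟩ := h.trans2 hp hp1 hq hq1 hqp hz hz1 hy hy1 hyz
  have h1 := h.conj_ww hg hp hp1 ha
  have h2 := h.conj_ww hg hq hq1 hb
  have h3 := (h.qq_conj_iff hg hq hq1).mpr haq
  rw [e1] at h1
  rw [e2] at h2 h3
  have h4 := key y hy hy1 hyz _ h1 h3 _ h2
  rw [← cm_conj] at h4
  exact cm_eq_one.mp (conj_eq_one_iff.mp h4)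

/-- `⁅a, b⁆ = p q` for `a ∈ W_p - Q_q`, `b ∈ W_q - Q_p` -/
theorem cm_eq {p q a b : G} (hp : p ∈ V) (hp1 : p ≠ 1) (hq : q ∈ V) (hq1 : q ≠ 1) (hqp : q ≠ p)
    (ha : a ∈ ww V cf p) (haq : a ∉ qq V cf q) (hb : b ∈ ww V cf q) (hbp : b ∉ qq V cf p) :
    a * b * a⁻¹ * b⁻¹ = p * q := by
  -- the commutator is constant
  have hconst : ∀ a ∈ ww V cf p, a ∉ qq V cf q → ∀ b ∈ ww V cf q, b ∉ qq V cf p → ∀ a' ∈ ww V cf p,
      a' ∉ qq V cf q → ∀ b' ∈ ww V cf q, b' ∉ qq V cf p → ⁅a, b⁆ = ⁅a', b'⁆ := by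
    intro a ha haq b hb hbp a' ha' haq' b' hb' hbp'
    have h1 := h.one p hp hp1 q hq hq1 hqp a ha a' ha' haq haq'
    have h2 := h.one q hq hq1 p hp hp1 (Ne.symm hqp) b hb b' hb' hbp hbp'
    have h3 := cm_eq_one.mpr (h.good hp hp1 hq hq1 hqp (mul_mem ha ha') h1 hb)
    rw [h.cm_mull hp hp1 hq hq1 hqp ha ha' hb] at h3
    have h4 := cm_eq_one.mpr (h.good hq hq1 hp hp1 (Ne.symm hqp) (mul_mem hb hb') h2 ha').symm
    rw [h.cm_mulr hp hp1 hq hq1 hqp ha' hb hb'] at h4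
    have s1 := h.ln.sq _ (h.cm_mem hp hp1 hq hq1 hqp ha' hb)
    have s2 := h.ln.sq _ (h.cm_mem hp hp1 hq hq1 hqp ha' hb')
    calc ⁅a, b⁆ = ⁅a, b⁆ * (⁅a', b⁆ * ⁅a', b⁆) := by rw [s1, mul_one]
      _ = ⁅a', b⁆ := by rw [← mul_assoc, h3, one_mul]
      _ = ⁅a', b⁆ * (⁅a', b'⁆ * ⁅a', b'⁆) := by rw [s2, mul_one]
      _ = ⁅a', b'⁆ := by rw [← mul_assoc, h4, one_mul]
  -- it is not trivial
  have hne : ⁅a, b⁆ ≠ 1 := by
    obtain ⟨a', ha', b', hb', hab'⟩ := h.nc' hp hp1 hq hq1 hqp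
    have h1 : a' ∉ qq V cf q := fun h1 => hab' (h.good hp hp1 hq hq1 hqp ha' h1 hb')
    have h2 : b' ∉ qq V cf p := fun h2 => hab' (h.good hq hq1 hp hp1 (Ne.symm hqp) hb' h2 ha').symm
    rw [hconst a ha haq b hb hbp a' ha' h1 b' hb' h2]
    exact fun e => hab' (cm_eq_one.mp e)
  -- it is fixed by the elements which interchange `p` and `q`
  obtain ⟨g, hg, e1, e2⟩ := h.trans2 hp hp1 hq hq1 hqp hq hq1 hp hp1 (Ne.symm hqp)
  have h1 := h.conj_ww hg hp hp1 ha
  have h2 := h.conj_ww hg hq hq1 hb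
  have h3 : g * a * g⁻¹ ∉ qq V cf p := by
    intro h3
    rw [← e2] at h3
    exact haq ((h.qq_conj_iff hg hq hq1).mp h3)
  have h4 : g * b * g⁻¹ ∉ qq V cf q := by
    intro h4
    rw [← e1] at h4
    exact hbp ((h.qq_conj_iff hg hp hp1).mp h4)
  rw [e1] at h1
  rw [e2] at h2
  have h5 : g * ⁅a, b⁆ * g⁻¹ = ⁅a, b⁆ := by
    rw [cm_conj, h.cm_symm hp hp1 hq hq1 hqp h2 h1]
    exact hconst _ h2 h4 _ h1 h3 a ha haq b hb hbp
  rw [← cm_def]
  rcases h.ln.four hp hq hp1 hq1 (Ne.symm hqp) (h.cm_mem hp hp1 hq hq1 hqp ha hb) with e | e | e | e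
  · exact absurd e hne
  · rw [e, e1] at h5; exact absurd h5 hqp
  · rw [e, e2] at h5; exact absurd h5.symm hqp
  · exact e

omit [Finite G] in
theorem exists_wy [Finite G] : ∃ y ∈ V, y ≠ 1 ∧ y ≠ z ∧ ∃ w ∈ ww V cf y, w ∉ qq V cf z := by
  obtain ⟨y, hy, hy1, hyz⟩ := h.ln.exists_y
  obtain ⟨w, hw, hwz⟩ := h.exists_not_qq hy hy1 h.z_mem h.z_ne (Ne.symm hyz)
  exact ⟨y, hy, hy1, hyz, w, hw, hwz⟩

end Tvf

section IsB

variable {M H : Type u} [AddCommGroup M] [Group H] [DistribMulAction H M]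

/-- `B` is the form of `M = W_z/⟨z⟩` -/
def IsB (R : MRep V cf z M H) (B : M → M → ZMod 2) : Prop :=
  ∀ y ∈ V, y ≠ 1 → y ≠ z → ∀ w ∈ ww V cf y, w ∉ qq V cf z → Abs.IsForm (R.pi y) (R.phi w) B

/-- the orbit `TT` -/
def TT (R : MRep V cf z M H) : Set M := R.pi '' pts V cf z

end IsB

/-! ### points -/

namespace Tvf

variable (h : Tvf T V z cf) {t : G} (ht : t ∈ pts V cf z)
include h ht

theorem pt_mem : t ∈ ww V cf z := by
  obtain ⟨y, hy, -, -, c, hc, rfl⟩ := ht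
  exact conj_mem_wf hc (h.V_le hy)

theorem pt_ne : t ≠ 1 := by
  obtain ⟨y, hy, hy1, -, c, hc, rfl⟩ := ht
  exact fun e => hy1 (conj_eq_one_iff.mp e)

theorem pt_nz : t ≠ z := by
  obtain ⟨y, hy, hy1, hyz, c, hc, rfl⟩ := ht
  intro e
  apply hyz
  have h1 := h.cf_comm h.z_mem h.z_ne hc
  calc y = c⁻¹ * (c * y * c⁻¹) * c := by group
    _ = c⁻¹ * (z * c) := by rw [e]; group
    _ = c⁻¹ * (c * z) := by rw [h1]
    _ = z := by group

theorem pt_z : z * t ∈ pts V cf z := by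
  obtain ⟨y, hy, hy1, hyz, c, hc, rfl⟩ := ht
  have h1 := h.cf_comm h.z_mem h.z_ne hc
  refine ⟨z * y, mul_mem h.z_mem hy, h.mul_ne_one hy (Ne.symm hyz), fun e => hy1 (by simpa using e), c, hc, ?_⟩
  calc z * (c * y * c⁻¹) = (z * c) * y * c⁻¹ := by group
    _ = (c * z) * y * c⁻¹ := by rw [h1]
    _ = c * (z * y) * c⁻¹ := by group

theorem pt_comm : t * z = z * t := h.ab t (h.pt_mem ht) z h.z_mem_ww

theorem pt_sq : t * t = 1 := h.sqz t (h.pt_mem ht)

/-- `W_t` is a conjugate of some `W_y` -/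
theorem wt_ex : ∃ y ∈ V, y ≠ 1 ∧ y ≠ z ∧ ∃ c ∈ cf z, t = c * y * c⁻¹ ∧ wt V cf z t = cj c (ww V cf y) := by
  obtain ⟨y, hy, hy1, hyz, c, hc, rfl⟩ := ht
  exact ⟨y, hy, hy1, hyz, c, hc, rfl, wt_conj h.toFam hy hy1 hyz hc⟩

theorem wt_le_cf : wt V cf z t ≤ cf z := by
  obtain ⟨y, hy, hy1, hyz, c, hc, -, e⟩ := h.wt_ex ht
  rw [e]
  intro w hw
  have h1 := h.ww_le_cf' hy hy1 h.z_mem h.z_ne (mem_cj.mp hw)
  have e1 : w = c * (c⁻¹ * w * c) * c⁻¹ := by group
  rw [e1]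
  exact mul_mem (mul_mem hc h1) (inv_mem hc)

theorem z_mem_wt : z ∈ wt V cf z t := by
  obtain ⟨y, hy, hy1, hyz, c, hc, -, e⟩ := h.wt_ex ht
  rw [e, mem_cj]
  have h1 := h.cf_comm h.z_mem h.z_ne hc
  have : c⁻¹ * z * c = z := by
    calc c⁻¹ * z * c = c⁻¹ * (z * c) := by group
      _ = c⁻¹ * (c * z) := by rw [h1]
      _ = z := by group
  rw [this]
  exact h.V_le h.z_mem

theorem pt_mem_wt : t ∈ wt V cf z t := by
  obtain ⟨y, hy, hy1, hyz, c, hc, e1, e⟩ := h.wt_ex ht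
  rw [e, mem_cj, e1]
  have : c⁻¹ * (c * y * c⁻¹) * c = y := by group
  rw [this]
  exact h.V_le hy

theorem wt_ab {a b : G} (ha : a ∈ wt V cf z t) (hb : b ∈ wt V cf z t) : a * b = b * a := by
  obtain ⟨y, hy, hy1, hyz, c, hc, e1, e⟩ := h.wt_ex ht
  rw [e, mem_cj] at ha hb
  have := h.comm hy hy1 _ ha _ hb
  calc a * b = c * ((c⁻¹ * a * c) * (c⁻¹ * b * c)) * c⁻¹ := by group
    _ = c * ((c⁻¹ * b * c) * (c⁻¹ * a * c)) * c⁻¹ := by rw [this]
    _ = b * a := by group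

theorem wt_sq {a : G} (ha : a ∈ wt V cf z t) : a * a = 1 := by
  obtain ⟨y, hy, hy1, hyz, c, hc, e1, e⟩ := h.wt_ex ht
  rw [e, mem_cj] at ha
  have := h.sq hy hy1 _ ha
  calc a * a = c * ((c⁻¹ * a * c) * (c⁻¹ * a * c)) * c⁻¹ := by group
    _ = 1 := by rw [this]; group

/-- elements of `cf z` which commute with `t` normalise `W_t` -/
theorem wt_norm {c : G} (hc : c ∈ cf z) (hct : c * t = t * c) : c ∈ normalizer ((wt V cf z t : Subgroup G) : Set G) := by
  rw [mem_normalizer_iff_cj, ← wt_cj h.toFam ht hc]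
  congr 1
  rw [hct]; group

theorem ww_norm_wt {a : G} (ha : a ∈ ww V cf z) : a ∈ normalizer ((wt V cf z t : Subgroup G) : Set G) :=
  h.wt_norm ht (h.ww_le_cf h.z_mem h.z_ne ha) (h.ab a ha t (h.pt_mem ht))

/-- two elements of `W_t - Q_z` differ by an element of `Q_z` -/
theorem wt_one {a b : G} (ha : a ∈ wt V cf z t) (hb : b ∈ wt V cf z t) (ha' : a ∉ qq V cf z)
    (hb' : b ∉ qq V cf z) : a * b ∈ qq V cf z := by
  obtain ⟨y, hy, hy1, hyz, c, hc, e1, e⟩ := h.wt_ex ht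
  rw [e, mem_cj] at ha hb
  have hn := h.cf_norm_qq h.z_mem h.z_ne hc
  have key : ∀ a : G, c⁻¹ * a * c ∈ qq V cf z ↔ a ∈ qq V cf z := by
    intro a
    have := mem_normalizer_iff.mp hn (c⁻¹ * a * c)
    rw [this]
    have e2 : c * (c⁻¹ * a * c) * c⁻¹ = a := by group
    rw [e2]
  have h1 := h.one y hy hy1 z h.z_mem h.z_ne (Ne.symm hyz) _ ha _ hb (fun h2 => ha' ((key a).mp h2))
    (fun h2 => hb' ((key b).mp h2))
  have e3 : c⁻¹ * a * c * (c⁻¹ * b * c) = c⁻¹ * (a * b) * c := by group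
  rw [e3] at h1
  exact (key _).mp h1

variable [Finite G]

/-- some element of `W_t` is not in `Q_z` -/
theorem exists_wt : ∃ b ∈ wt V cf z t, b ∉ qq V cf z := by
  obtain ⟨y, hy, hy1, hyz, c, hc, e1, e⟩ := h.wt_ex ht
  obtain ⟨b, hb, hbz⟩ := h.exists_not_qq hy hy1 h.z_mem h.z_ne (Ne.symm hyz)
  refine ⟨c * b * c⁻¹, ?_, ?_⟩
  · rw [e, mem_cj]
    have : c⁻¹ * (c * b * c⁻¹) * c = b := by group
    rwa [this]
  · intro h2
    exact hbz ((mem_normalizer_iff.mp (h.cf_norm_qq h.z_mem h.z_ne hc) b).mpr h2)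

/-- `W_t ∩ Q_z` centralises `W_z` -/
theorem wt_kk {b : G} (hb : b ∈ wt V cf z t) (hbz : b ∈ qq V cf z) {a : G} (ha : a ∈ ww V cf z) : a * b = b * a := by
  obtain ⟨y, hy, hy1, hyz, c, hc, e1, e⟩ := h.wt_ex ht
  rw [e, mem_cj] at hb
  have h1 : c⁻¹ * b * c ∈ qq V cf z := by
    have := conj_mem_of_normalizer (h.cf_norm_qq h.z_mem h.z_ne) (inv_mem hc) hbz
    rwa [inv_inv] at this
  have h2 : c⁻¹ * a * c ∈ ww V cf z := by
    have := conj_mem_wf (inv_mem hc) ha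
    rwa [inv_inv] at this
  have h3 := h.good hy hy1 h.z_mem h.z_ne (Ne.symm hyz) hb h1 h2
  calc a * b = c * ((c⁻¹ * a * c) * (c⁻¹ * b * c)) * c⁻¹ := by group
    _ = c * ((c⁻¹ * b * c) * (c⁻¹ * a * c)) * c⁻¹ := by rw [h3]
    _ = b * a := by group

/-- `⁅a, b⁆ = z t` for `a ∈ W_z`, `b ∈ W_t` which do not commute -/
theorem wt_cm {a b : G} (ha : a ∈ ww V cf z) (hb : b ∈ wt V cf z t) (hab : a * b ≠ b * a) :
    a * b * a⁻¹ * b⁻¹ = z * t := by
  obtain ⟨y, hy, hy1, hyz, c, hc, e1, e⟩ := h.wt_ex ht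
  rw [e, mem_cj] at hb
  have h2 : c⁻¹ * a * c ∈ ww V cf z := by
    have := conj_mem_wf (inv_mem hc) ha
    rwa [inv_inv] at this
  have hcz := h.cf_comm h.z_mem h.z_ne hc
  have hab' : ¬ ((c⁻¹ * a * c) * (c⁻¹ * b * c) = (c⁻¹ * b * c) * (c⁻¹ * a * c)) := by
    intro h3
    apply hab
    calc a * b = c * ((c⁻¹ * a * c) * (c⁻¹ * b * c)) * c⁻¹ := by group
      _ = c * ((c⁻¹ * b * c) * (c⁻¹ * a * c)) * c⁻¹ := by rw [h3]
      _ = b * a := by group
  have h3 : c⁻¹ * a * c ∉ qq V cf y := fun h3 => hab' (h.good h.z_mem h.z_ne hy hy1 hyz h2 h3 hb)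
  have h4 : c⁻¹ * b * c ∉ qq V cf z := fun h4 =>
    hab' (h.good hy hy1 h.z_mem h.z_ne (Ne.symm hyz) hb h4 h2).symm
  have h5 := h.cm_eq h.z_mem h.z_ne hy hy1 hyz h2 h3 hb h4
  calc a * b * a⁻¹ * b⁻¹ = c * ((c⁻¹ * a * c) * (c⁻¹ * b * c) * (c⁻¹ * a * c)⁻¹ * (c⁻¹ * b * c)⁻¹) * c⁻¹ := by group
    _ = c * (z * y) * c⁻¹ := by rw [h5]
    _ = (c * z) * y * c⁻¹ := by group
    _ = (z * c) * y * c⁻¹ := by rw [hcz]
    _ = z * t := by rw [e1]; group

/-- (1.5) T3: `W_t ∩ W_u` centralises `W_z` for `t ≠ u` -/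
theorem wt_inf {u : G} (hu : u ∈ pts V cf z) (htu : t ≠ u) {b : G} (hb : b ∈ wt V cf z t)
    (hb' : b ∈ wt V cf z u) {a : G} (ha : a ∈ ww V cf z) : a * b = b * a := by
  by_contra hab
  have h1 := h.wt_cm ht ha hb hab
  have h2 := h.wt_cm hu ha hb' hab
  exact htu (mul_left_cancel (h1.symm.trans h2))

end Tvf

/-! ### the module -/

namespace Tvf

variable (h : Tvf T V z cf) [Finite G] {M H : Type u} [AddCommGroup M] [Group H] [DistribMulAction H M]
  (R : MRep V cf z M H)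
include h

/-- all points `y ≠ z` of `V` have the same image, and the elements of all `W_y - Q_z`, too -/
theorem pi_phi_eq {y w y' w' : G} (hy : y ∈ V) (hy1 : y ≠ 1) (hyz : y ≠ z)
    (hw : w ∈ ww V cf y) (hwz : w ∉ qq V cf z) (hy' : y' ∈ V) (hy1' : y' ≠ 1) (hyz' : y' ≠ z)
    (hw' : w' ∈ ww V cf y') (hwz' : w' ∉ qq V cf z) : R.pi y' = R.pi y ∧ R.phi w' = R.phi w := by
  have hz := h.z_mem
  have hz1 := h.z_ne
  rcases h.ln.four hz hy hz1 hy1 (Ne.symm hyz) hy' with e | e | e | e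
  · exact absurd e hy1'
  · exact absurd e hyz'
  · subst e
    exact ⟨rfl, h.phi_eq_of R hy' hy1' hyz' hw' hw hwz' hwz⟩
  · subst e
    refine ⟨by rw [R.pi_mul z h.z_mem_ww y (h.V_le hy), R.pi_z h.toFam, zero_add], ?_⟩
    obtain ⟨k, hk, hk1⟩ := h.exists_mover hz hz1
    have e1 := h.move hz hz1 hy hy1 hyz hk hk1
    have hkV := h.qq_le_normalizer hz hk
    have h2 : k⁻¹ * w' * k ∈ ww V cf y := by
      have := h.conj_ww (inv_mem hkV) hy' hy1' hw'
      have e2 : k⁻¹ * (z * y) * k⁻¹⁻¹ = y := by rw [← e1]; group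
      rw [e2] at this
      rwa [inv_inv] at this
    have hwc' := h.ww_le_cf' hy' hy1' hz hz1 hw'
    have h3 : k⁻¹ * w' * k ∉ qq V cf z := by
      intro h3
      apply hwz'
      have := mul_mem (mul_mem hk h3) (inv_mem hk)
      have e4 : k * (k⁻¹ * w' * k) * k⁻¹ = w' := by group
      rwa [e4] at this
    rw [← h.phi_eq_of R hy hy1 hyz h2 hw h3 hwz, R.phi_mul _ (mul_mem (inv_mem hk.1) hwc') _ hk.1,
      R.phi_mul _ (inv_mem hk.1) _ hwc', R.phi_inv hk.1, h.phi_one_of R hk, inv_one, one_mul, mul_one]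

/-- **the form exists** -/
theorem exists_isB [FaithfulSMul H M] : ∃ B : M → M → ZMod 2, IsB R B := by
  obtain ⟨y, hy, hy1, hyz, w, hw, hwz⟩ := h.exists_wy
  obtain ⟨B, F⟩ := h.exists_isForm R hy hy1 hyz hw hwz
  refine ⟨B, fun y' hy' hy1' hyz' w' hw' hwz' => ?_⟩
  obtain ⟨e1, e2⟩ := h.pi_phi_eq R hy hy1 hyz hw hwz hy' hy1' hyz' hw' hwz'
  rw [e1, e2]
  exact F

theorem TT_eq {y : G} (hy : y ∈ V) (hy1 : y ≠ 1) (hyz : y ≠ z) : TT R = Set.range fun x : H => x • R.pi y := by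
  obtain ⟨w, hw, hwz⟩ := h.exists_not_qq hy hy1 h.z_mem h.z_ne (Ne.symm hyz)
  ext m
  constructor
  · rintro ⟨t, ⟨y', hy', hy1', hyz', c, hc, rfl⟩, rfl⟩
    obtain ⟨w', hw', hwz'⟩ := h.exists_not_qq hy' hy1' h.z_mem h.z_ne (Ne.symm hyz')
    refine ⟨R.phi c, ?_⟩
    change R.phi c • R.pi y = _
    rw [← R.act c hc y' (h.V_le hy'), (h.pi_phi_eq R hy hy1 hyz hw hwz hy' hy1' hyz' hw' hwz').1]
  · rintro ⟨x, rfl⟩
    obtain ⟨c, hc, rfl⟩ := R.phi_surj x
    exact ⟨c * y * c⁻¹, mem_pts_conj hy hy1 hyz hc, (R.act c hc y (h.V_le hy)).symm⟩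

variable {B : M → M → ZMod 2} (hB : IsB R B)

include hB in
/-- the transvection system -/
theorem sys : Sys (TT R) B := by
  obtain ⟨y, hy, hy1, hyz, w, hw, hwz⟩ := h.exists_wy
  rw [h.TT_eq R hy hy1 hyz]
  exact (hB y hy hy1 hyz w hw hwz).sys

include hB in
/-- `H` acts on the transvection system -/
theorem act : Act (TT R) B H := by
  obtain ⟨y, hy, hy1, hyz, w, hw, hwz⟩ := h.exists_wy
  rw [h.TT_eq R hy hy1 hyz]
  exact (hB y hy hy1 hyz w hw hwz).act

/-- `H` is transitive on `TT` -/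
theorem TT_trans {u v : M} (hu : u ∈ TT R) (hv : v ∈ TT R) : ∃ x : H, x • u = v := by
  obtain ⟨y, hy, hy1, hyz, w, hw, hwz⟩ := h.exists_wy
  rw [h.TT_eq R hy hy1 hyz] at hu hv
  obtain ⟨a, rfl⟩ := hu
  obtain ⟨b, rfl⟩ := hv
  refine ⟨b * a⁻¹, ?_⟩
  change (b * a⁻¹) • a • R.pi y = b • R.pi y
  rw [mul_smul, inv_smul_smul]

omit h [Finite G] in
theorem pi_mem_TT {t : G} (ht : t ∈ pts V cf z) : R.pi t ∈ TT R := ⟨t, ht, rfl⟩

include hB in
theorem form_conj {c a b : G} (hc : c ∈ cf z) (ha : a ∈ ww V cf z) (hb : b ∈ ww V cf z) :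
    B (R.pi (c * a * c⁻¹)) (R.pi (c * b * c⁻¹)) = B (R.pi a) (R.pi b) := by
  rw [← R.act c hc a ha, ← R.act c hc b hb]
  exact (h.act R hB).form _ _ _

include hB in
/-- `B a t = 0` iff `a` centralises `W_t` -/
theorem form_pt {t : G} (ht : t ∈ pts V cf z) {a : G} (ha : a ∈ ww V cf z) :
    B (R.pi a) (R.pi t) = 0 ↔ ∀ b ∈ wt V cf z t, a * b = b * a := by
  obtain ⟨y, hy, hy1, hyz, c, hc, e1, e⟩ := h.wt_ex ht
  obtain ⟨w, hw, hwz⟩ := h.exists_not_qq hy hy1 h.z_mem h.z_ne (Ne.symm hyz)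
  have hyW := h.V_le (p := z) hy
  have ha' : c⁻¹ * a * c ∈ ww V cf z := by
    have := conj_mem_wf (inv_mem hc) ha
    rwa [inv_inv] at this
  have h1 : B (R.pi a) (R.pi t) = B (R.pi (c⁻¹ * a * c)) (R.pi y) := by
    rw [← h.form_conj R hB hc ha' hyW, ← e1]
    congr 2
    group
  rw [h1, h.form_qq R hy hy1 hyz (hB y hy hy1 hyz w hw hwz) ha']
  constructor
  · intro h2 b hb
    rw [e, mem_cj] at hb
    have h3 := h.good h.z_mem h.z_ne hy hy1 hyz ha' h2 hb
    calc a * b = c * ((c⁻¹ * a * c) * (c⁻¹ * b * c)) * c⁻¹ := by group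
      _ = c * ((c⁻¹ * b * c) * (c⁻¹ * a * c)) * c⁻¹ := by rw [h3]
      _ = b * a := by group
  · intro h2
    rw [h.mem_qq_iff h.z_mem h.z_ne hy hy1 ha']
    intro b hb
    left
    rw [cm_eq_one]
    have h3 := h2 (c * b * c⁻¹) (by rw [e, mem_cj]; have : c⁻¹ * (c * b * c⁻¹) * c = b := by group
                                    rwa [this])
    calc (c⁻¹ * a * c) * b = c⁻¹ * (a * (c * b * c⁻¹)) * c := by group
      _ = c⁻¹ * ((c * b * c⁻¹) * a) * c := by rw [h3]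
      _ = b * (c⁻¹ * a * c) := by group

include hB in
/-- the element `b ∈ W_t - Q_z` acts as the transvection with centre `t` -/
theorem phi_wt {t b : G} (ht : t ∈ pts V cf z) (hb : b ∈ wt V cf z t) (hbz : b ∉ qq V cf z) (m : M) :
    (B m (R.pi t) = 0 → R.phi b • m = m) ∧ (B m (R.pi t) = 1 → R.phi b • m = m + R.pi t) := by
  obtain ⟨y, hy, hy1, hyz, c, hc, e1, e⟩ := h.wt_ex ht
  have hbc := h.wt_le_cf ht hb
  rw [e, mem_cj] at hb
  have hyW := h.V_le (p := z) hy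
  have hb' : c⁻¹ * b * c ∉ qq V cf z := by
    intro h2
    apply hbz
    have := conj_mem_of_normalizer (h.cf_norm_qq h.z_mem h.z_ne) hc h2
    have e4 : c * (c⁻¹ * b * c) * c⁻¹ = b := by group
    rwa [e4] at this
  have F := hB y hy hy1 hyz _ hb hb'
  have h1 := F.fix (R.phi c) m
  have h2 := F.mv (R.phi c) m
  have h3 : R.phi c • R.pi y = R.pi t := by rw [R.act c hc y hyW, e1]
  have h4 : R.phi c * R.phi (c⁻¹ * b * c) * (R.phi c)⁻¹ = R.phi b := by
    rw [R.phi_mul _ (mul_mem (inv_mem hc) hbc) _ hc, R.phi_mul _ (inv_mem hc) _ hbc, R.phi_inv hc]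
    group
  rw [h3, h4] at h1 h2
  exact ⟨h1, h2⟩

include hB in
/-- `a b ≠ b a` for `b ∈ W_t - Q_z`, `B a t = 1` -/
theorem not_comm {t a b : G} (ht : t ∈ pts V cf z) (ha : a ∈ ww V cf z) (hb : b ∈ wt V cf z t)
    (hbz : b ∉ qq V cf z) (h1 : B (R.pi a) (R.pi t) = 1) : a * b ≠ b * a := by
  intro e
  have h2 := (h.phi_wt R hB ht hb hbz (R.pi a)).2 h1
  have hbc := h.wt_le_cf ht hb
  rw [R.act b hbc a ha, conj_eq_of_comm e.symm] at h2
  have h3 : R.pi t = 0 := by simpa using h2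
  rcases (R.pi_ker t (h.pt_mem ht)).mp h3 with e1 | e1
  · exact h.pt_ne ht e1
  · exact h.pt_nz ht e1

include hB in
/-- `⁅a, b⁆ = z t` for `b ∈ W_t - Q_z`, `B a t = 1` -/
theorem cm_pt {t a b : G} (ht : t ∈ pts V cf z) (ha : a ∈ ww V cf z) (hb : b ∈ wt V cf z t)
    (hbz : b ∉ qq V cf z) (h1 : B (R.pi a) (R.pi t) = 1) : a * b * a⁻¹ * b⁻¹ = z * t :=
  h.wt_cm ht ha hb (h.not_comm R hB ht ha hb hbz h1)

include hB in
/-- `b a b⁻¹ = z t a` for `b ∈ W_t - Q_z`, `B a t = 1` -/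
theorem conj_pt' {t a b : G} (ht : t ∈ pts V cf z) (ha : a ∈ ww V cf z) (hb : b ∈ wt V cf z t)
    (hbz : b ∉ qq V cf z) (h1 : B (R.pi a) (R.pi t) = 1) : b * a * b⁻¹ = z * t * a := by
  have h2 := h.cm_pt R hB ht ha hb hbz h1
  have h3 : (z * t) * (z * t) = 1 := h.sqz _ (mul_mem h.z_mem_ww (h.pt_mem ht))
  calc b * a * b⁻¹ = (a * b * a⁻¹ * b⁻¹)⁻¹ * a := by group
    _ = (z * t)⁻¹ * a := by rw [h2]
    _ = z * t * a := by rw [inv_eq_of_mul_eq_one_left h3]

omit [Finite G] in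
theorem pi_zmul {a : G} (ha : a ∈ ww V cf z) : R.pi (z * a) = R.pi a := by
  rw [R.pi_mul z h.z_mem_ww a ha, R.pi_z h.toFam, zero_add]

include hB in
/-- (1.6): `f_t ∈ Q_z` acts on `W_z` as `a ↦ a z^{(a, t)}` -/
theorem exists_f {t : G} (ht : t ∈ pts V cf z) : ∃ f ∈ qq V cf z,
    (∃ b ∈ wt V cf z t, ∃ b' ∈ wt V cf z (z * t), b ∉ qq V cf z ∧ b' ∉ qq V cf z ∧ f = b * b') ∧
    ∀ a ∈ ww V cf z, (B (R.pi a) (R.pi t) = 0 → f * a * f⁻¹ = a) ∧
      (B (R.pi a) (R.pi t) = 1 → f * a * f⁻¹ = z * a) := by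
  have hz := h.z_mem
  have hz1 := h.z_ne
  have ht' := h.pt_z ht
  obtain ⟨b, hb, hbz⟩ := h.exists_wt ht
  obtain ⟨b', hb', hbz'⟩ := h.exists_wt ht'
  have hbc := h.wt_le_cf ht hb
  have hbc' := h.wt_le_cf ht' hb'
  have key : ∀ a ∈ ww V cf z, (B (R.pi a) (R.pi t) = 0 → (b * b') * a * (b * b')⁻¹ = a) ∧
      (B (R.pi a) (R.pi t) = 1 → (b * b') * a * (b * b')⁻¹ = z * a) := by
    intro a ha
    have e1 : R.pi (z * t) = R.pi t := h.pi_zmul R (h.pt_mem ht)
    constructor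
    · intro h1
      have h2 := (h.form_pt R hB ht ha).mp h1 b hb
      have h3 := (h.form_pt R hB ht' ha).mp (by rw [e1]; exact h1) b' hb'
      calc (b * b') * a * (b * b')⁻¹ = b * (b' * a) * b'⁻¹ * b⁻¹ := by group
        _ = b * (a * b') * b'⁻¹ * b⁻¹ := by rw [h3]
        _ = (b * a) * b⁻¹ := by group
        _ = (a * b) * b⁻¹ := by rw [h2]
        _ = a := by group
    · intro h1
      have h2 := h.conj_pt' R hB ht ha hb hbz h1
      have h3 := h.conj_pt' R hB ht' ha hb' hbz' (by rw [e1]; exact h1)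
      have h4 := h.wt_ab ht hb (h.pt_mem_wt ht)
      have e3 : z * (z * t) * a = t * a := by
        calc z * (z * t) * a = (z * z) * (t * a) := by group
          _ = t * a := by rw [h.ln.sq z hz, one_mul]
      calc (b * b') * a * (b * b')⁻¹ = b * (b' * a * b'⁻¹) * b⁻¹ := by group
        _ = b * (t * a) * b⁻¹ := by rw [h3, e3]
        _ = (b * t) * b⁻¹ * (b * a * b⁻¹) := by group
        _ = (t * b) * b⁻¹ * (z * t * a) := by rw [h4, h2]
        _ = (t * z) * (t * a) := by group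
        _ = (z * t) * (t * a) := by rw [h.pt_comm ht]
        _ = z * (t * t) * a := by group
        _ = z * a := by rw [h.pt_sq ht, mul_one]
  refine ⟨b * b', ⟨mul_mem hbc hbc', h.cf_comm hz hz1 (mul_mem hbc hbc'), fun w hw => ?_⟩,
    ⟨b, hb, b', hb', hbz, hbz', rfl⟩, key⟩
  rcases z2 (B (R.pi w) (R.pi t)) with h1 | h1
  · rw [(key w hw).1 h1, mul_inv_cancel]
    exact one_mem _
  · rw [(key w hw).2 h1, mul_assoc, mul_inv_cancel, mul_one]
    exact mem_zpowers z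

include hB in
/-- (0.1) for the module: an element of `H` which is trivial on `M/Rad` and on `Rad` is trivial -/
theorem eq_one_of_rad [FaithfulSMul H M] {x : H} (h1 : ∀ m n, B (x • m + m) n = 0)
    (h2 : ∀ r, (∀ n, B r n = 0) → x • r = r) : x = 1 := by
  have S := h.sys R hB
  have A := h.act R hB
  have hrad : ∀ (x : H) (r : M), (∀ n, B r n = 0) → ∀ n, B (x • r) n = 0 := by
    intro x r hr n
    have := A.form x r (x⁻¹ • n)
    rw [smul_inv_smul, hr] at this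
    exact this
  let N : Subgroup H :=
    { carrier := {x | (∀ m n, B (x • m + m) n = 0) ∧ ∀ r, (∀ n, B r n = 0) → x • r = r}
      mul_mem' := by
        rintro a b ⟨ha, ha'⟩ ⟨hb, hb'⟩
        refine ⟨fun m n => ?_, fun r hr => by rw [mul_smul, hb' r hr, ha' r hr]⟩
        have e : (a * b) • m + m = (a • (b • m) + b • m) + (b • m + m) := by
          rw [mul_smul]
          calc a • b • m + m = a • b • m + m + (b • m + b • m) := by rw [S.two, add_zero]
            _ = a • b • m + b • m + (b • m + m) := by abel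
        rw [e, S.add_left, ha, hb, add_zero]
      one_mem' := ⟨fun m n => by rw [one_smul, S.two, S.zero_left], fun r _ => one_smul _ _⟩
      inv_mem' := by
        rintro a ⟨ha, ha'⟩
        refine ⟨fun m n => ?_, fun r hr => ?_⟩
        · have e : a⁻¹ • m + m = a⁻¹ • (a • m + m) := by
            rw [smul_add, inv_smul_smul, add_comm]
          rw [e]
          exact hrad _ _ (ha m) n
        · rw [inv_smul_eq_iff, ha' r hr] }
  have hN : ∀ x ∈ N, x * x = 1 := by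
    intro x hx
    refine FaithfulSMul.eq_of_smul_eq_smul (M := H) (α := M) fun m => ?_
    rw [one_smul, mul_smul]
    have e1 := hx.2 _ (hx.1 m)
    rw [smul_add] at e1
    have e2 : x • x • m + (x • m + x • m) = m + (x • m + x • m) := by
      calc x • x • m + (x • m + x • m) = (x • x • m + x • m) + x • m := by abel
        _ = m + (x • m + x • m) := by rw [e1]; abel
    exact add_right_cancel e2
  have hc : ∀ x ∈ N, ∀ g : H, g * x * g⁻¹ ∈ N := by
    rintro x ⟨hx, hx'⟩ g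
    refine ⟨fun m n => ?_, fun r hr => ?_⟩
    · have e : (g * x * g⁻¹) • m + m = g • (x • (g⁻¹ • m) + g⁻¹ • m) := by
        rw [mul_smul, mul_smul, smul_add, smul_inv_smul]
      rw [e]
      exact hrad _ _ (hx _) n
    · rw [mul_smul, mul_smul, hx' _ (hrad _ _ hr), smul_inv_smul]
  have hle : R.pre N ≤ qq V cf z := by
    refine h.o2h (R.pre_le N) (le_normalizer_of_forall fun c hc' n hn => ?_) fun n hn => ⟨1, ?_⟩
    · rw [R.mem_pre] at hn ⊢
      refine ⟨mul_mem (mul_mem hc' hn.1) (inv_mem hc'), ?_⟩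
      rw [R.phi_mul _ (mul_mem hc' hn.1) _ (inv_mem hc'), R.phi_mul c hc' n hn.1, R.phi_inv hc']
      exact hc _ hn.2 _
    · rw [R.mem_pre] at hn
      rw [pow_one, pow_two, ← R.phi_ker _ (mul_mem hn.1 hn.1), R.phi_mul n hn.1 n hn.1]
      exact hN _ hn.2
  obtain ⟨c, hc', rfl⟩ := R.phi_surj x
  exact (R.phi_ker c hc').mpr (hle (R.mem_pre.mpr ⟨hc', h1, h2⟩))

include hB in
/-- (1.3) -/
theorem inj [FaithfulSMul H M] : Inj (TT R) B := by
  have S := h.sys R hB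
  have A := h.act R hB
  intro u hu v hv huv
  obtain ⟨a, ha⟩ := A.tv u hu
  obtain ⟨b, hb⟩ := A.tv v hv
  have huv' : ∀ m, B m u = B m v := fun m => by rw [S.symm, huv, S.symm]
  have key : ∀ m, (B m v = 0 → (a * b) • m = m) ∧ (B m v = 1 → (a * b) • m = m + (u + v)) := by
    intro m
    constructor
    · intro h1
      rw [mul_smul, (hb m).1 h1, (ha m).1 (by rw [huv', h1])]
    · intro h1
      rw [mul_smul, (hb m).2 h1, (ha (m + v)).2 (by rw [huv', S.add_left, h1, S.alt, add_zero])]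
      abel
  have hr : ∀ n, B (u + v) n = 0 := fun n => by rw [S.add_left, huv, z2_add]
  have h1 : a * b = 1 := by
    refine h.eq_one_of_rad R hB (fun m n => ?_) fun r hr' => (key r).1 (hr' v)
    rcases z2 (B m v) with h1 | h1
    · rw [(key m).1 h1, S.two, S.zero_left]
    · rw [(key m).2 h1]
      have e : m + (u + v) + m = u + v := by
        calc m + (u + v) + m = u + v + (m + m) := by abel
          _ = u + v := by rw [S.two, add_zero]
      rw [e, hr]
  obtain ⟨m, hm⟩ := S.nd v hv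
  have h2 := (key m).2 (by rw [S.symm]; exact hm)
  rw [h1, one_smul] at h2
  exact S.eq_of_add (by simpa using h2.symm)

end Tvf

end Cfsg.Agent.Omega.NO3S.TV

end

section


/-!
# NO-3a.4, transvection types (helper311's text #16747): section 3, (3.1)-(3.3)

`h : Tvf T V z cf`, `R : MRep V cf z M H`, `hB : IsB R B`, `hc : Conn (TT R) B`.

* `Tvf.swap` (3.1); `Tvf.swap_norm`;
* `xx V cf z` : `X_z = ⟨W_t : t ~ z⟩`, `pp V cf z` : `P_z = ⟨W_t ∩ K_z⟩`; `Tvf.cf_eq` : `C_z = X_z N_{C_z}(V)`;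
  `Tvf.pp_two`, `Tvf.kk_xx` : `[K_z, X_z] ≤ P_z` (3.2);
* `Tvf.kk_inf_two` (3.3): `K_p ∩ K_q` is a 2-group.
-/

set_option autoImplicit false
set_option linter.unusedSectionVars false

namespace Cfsg.Agent.Omega.NO3S.TV

open Subgroup Cfsg Cfsg.Agent.ZN Cfsg.Agent.MinSimple.Geo Cfsg.Agent.Omega.CaseL Cfsg.Agent.Omega.NO3S.Fit
open Cfsg.Agent.ZN.Block (conj_mem_of_normalizer conj_mem_of_normalizer' le_normalizer_of_forall
  mem_normalizer_of)
open Sys (rf rf_zero rf_one)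

universe u

variable {G : Type u} [Group G]

/-- an element of odd order of `N P`, `P` a 2-group which normalises `N`, is in `N` -/
theorem odd_mem_of_mul [Finite G] {N P : Subgroup G} (hP : IsPGroup 2 P) {k p : G} (hk : k ∈ N) (hp : p ∈ P)
    (hpn : p ∈ normalizer (N : Set G)) (ho : Odd (orderOf (k * p))) : k * p ∈ N := by
  have h1 : ∀ m : ℕ, (k * p) ^ m * (p ^ m)⁻¹ ∈ N := by
    intro m
    induction m with
    | zero => simp
    | succ m ih =>
      have e : (k * p) ^ (m + 1) * (p ^ (m + 1))⁻¹ =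
          ((k * p) ^ m * (p ^ m)⁻¹) * (p ^ m * k * (p ^ m)⁻¹) := by
        rw [pow_succ, pow_succ]; group
      rw [e]
      exact mul_mem ih (conj_mem_of_normalizer le_rfl (pow_mem hpn m) hk)
  obtain ⟨n, hn⟩ := hP ⟨p, hp⟩
  have hn' : p ^ 2 ^ n = 1 := congrArg Subtype.val hn
  have h2 := h1 (2 ^ n)
  rw [hn', inv_one, mul_one] at h2
  obtain ⟨m, hm⟩ := exists_pow_eq_self_of_coprime (x := k * p) (n := 2 ^ n)
    (Nat.Coprime.pow_left n (Nat.coprime_two_left.mpr ho))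
  rw [← hm]
  exact pow_mem h2 m

/-- `X_z` -/
def xx (V : Subgroup G) (cf : G → Subgroup G) (z : G) : Subgroup G := ⨆ t : pts V cf z, wt V cf z t

/-- `P_z` -/
def pp (V : Subgroup G) (cf : G → Subgroup G) (z : G) : Subgroup G := ⨆ t : pts V cf z, wt V cf z t ⊓ kk V cf z

variable {T V : Subgroup G} {z : G} {cf : G → Subgroup G}

theorem wt_le_xx {t : G} (ht : t ∈ pts V cf z) : wt V cf z t ≤ xx V cf z :=
  le_iSup (fun t : pts V cf z => wt V cf z t) ⟨t, ht⟩

theorem wt_inf_le_pp {t : G} (ht : t ∈ pts V cf z) : wt V cf z t ⊓ kk V cf z ≤ pp V cf z :=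
  le_iSup (fun t : pts V cf z => wt V cf z t ⊓ kk V cf z) ⟨t, ht⟩

theorem pp_le_kk : pp V cf z ≤ kk V cf z := iSup_le fun _ => inf_le_right

theorem pp_le_xx : pp V cf z ≤ xx V cf z := iSup_mono fun _ => inf_le_left

namespace Tvf

variable (h : Tvf T V z cf)
include h

theorem xx_le_cf : xx V cf z ≤ cf z := iSup_le fun t => h.wt_le_cf t.2

theorem cf_le_norm_xx : cf z ≤ normalizer ((xx V cf z : Subgroup G) : Set G) := by
  refine le_normalizer_of_forall fun c hc x hx => ?_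
  have key : xx V cf z ≤ (xx V cf z).comap (MulAut.conj c).toMonoidHom := by
    refine iSup_le fun t => ?_
    intro w hw
    change c * w * c⁻¹ ∈ xx V cf z
    refine wt_le_xx (pts_conj t.2 hc) ?_
    rw [wt_cj h.toFam t.2 hc]
    exact conj_mem_cj hw
  exact key hx

theorem cf_le_norm_pp : cf z ≤ normalizer ((pp V cf z : Subgroup G) : Set G) := by
  refine le_normalizer_of_forall fun c hc x hx => ?_
  have key : pp V cf z ≤ (pp V cf z).comap (MulAut.conj c).toMonoidHom := by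
    refine iSup_le fun t => ?_
    intro w hw
    change c * w * c⁻¹ ∈ pp V cf z
    refine wt_inf_le_pp (pts_conj t.2 hc) ⟨?_, conj_mem_of_normalizer h.cf_norm_kk hc hw.2⟩
    rw [wt_cj h.toFam t.2 hc]
    exact conj_mem_cj hw.1
  exact key hx

theorem kk_le_cf : kk V cf z ≤ cf z := h.kk_le_cent.trans (h.cent_le_cf h.z_mem h.z_ne)

/-- `K_z` normalises `W_t` -/
theorem kk_norm_wt {t : G} (ht : t ∈ pts V cf z) : kk V cf z ≤ normalizer ((wt V cf z t : Subgroup G) : Set G) :=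
  fun _ hk => h.wt_norm ht (h.kk_le_cf hk) (mem_centralizer_iff.mp hk t (h.pt_mem ht)).symm

/-- `[K_z, X_z] ≤ P_z` -/
theorem kk_xx {k x : G} (hk : k ∈ kk V cf z) (hx : x ∈ xx V cf z) : k * x * k⁻¹ * x⁻¹ ∈ pp V cf z := by
  let N : Subgroup G :=
    { carrier := {x | x ∈ cf z ∧ ∀ k ∈ kk V cf z, k * x * k⁻¹ * x⁻¹ ∈ pp V cf z}
      mul_mem' := by
        rintro a b ⟨ha, ha'⟩ ⟨hb, hb'⟩
        refine ⟨mul_mem ha hb, fun k hk => ?_⟩
        have e : k * (a * b) * k⁻¹ * (a * b)⁻¹ = (k * a * k⁻¹ * a⁻¹) * (a * (k * b * k⁻¹ * b⁻¹) * a⁻¹) := by group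
        rw [e]
        exact mul_mem (ha' k hk) (conj_mem_of_normalizer h.cf_le_norm_pp ha (hb' k hk))
      one_mem' := ⟨one_mem _, fun k _ => by
        have e : k * 1 * k⁻¹ * 1⁻¹ = 1 := by group
        rw [e]; exact one_mem _⟩
      inv_mem' := by
        rintro a ⟨ha, ha'⟩
        refine ⟨inv_mem ha, fun k hk => ?_⟩
        have e : k * a⁻¹ * k⁻¹ * a⁻¹⁻¹ = a⁻¹ * (k * a * k⁻¹ * a⁻¹)⁻¹ * a⁻¹⁻¹ := by group
        rw [e]
        exact conj_mem_of_normalizer h.cf_le_norm_pp (inv_mem ha) (inv_mem (ha' k hk)) }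
  have key : xx V cf z ≤ N := by
    refine iSup_le fun t => fun w hw => ⟨h.wt_le_cf t.2 hw, fun k hk => ?_⟩
    have hw' : w ∈ wt V cf z t := hw
    refine wt_inf_le_pp t.2 ⟨?_, ?_⟩
    · exact (wt V cf z t).mul_mem (conj_mem_of_normalizer (h.kk_norm_wt t.2) hk hw') ((wt V cf z t).inv_mem hw')
    · have e : k * w * k⁻¹ * w⁻¹ = k * (w * k⁻¹ * w⁻¹) := by group
      rw [e]
      exact (kk V cf z).mul_mem hk (conj_mem_of_normalizer h.cf_norm_kk (h.wt_le_cf t.2 hw) ((kk V cf z).inv_mem hk))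
  exact (key hx).2 k hk

variable [Finite G]

/-- `P_z ≤ O₂(K_z)` -/
theorem pp_le_o2 : pp V cf z ≤ o2 (kk V cf z) := by
  refine iSup_le fun t => le_o2 inf_le_right ?_ ?_
  · rintro ⟨a, ha⟩
    exact ⟨1, Subtype.ext (by rw [pow_one]; exact (pow_two a).trans (h.wt_sq t.2 ha.1))⟩
  · refine le_normalizer_of_forall fun k hk w hw => ⟨conj_mem_of_normalizer (h.kk_norm_wt t.2) hk hw.1, ?_⟩
    exact (kk V cf z).mul_mem ((kk V cf z).mul_mem hk hw.2) ((kk V cf z).inv_mem hk)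

theorem pp_two : IsPGroup 2 (pp V cf z) := (isPGroup_o2 _).to_le h.pp_le_o2

end Tvf

/-! ### with the form -/

namespace Tvf

variable (h : Tvf T V z cf) [Finite G] {M H : Type u} [AddCommGroup M] [Group H] [DistribMulAction H M]
  (R : MRep V cf z M H) {B : M → M → ZMod 2} (hB : IsB R B)
include h hB

/-- `b ∈ W_t - Q_z` acts as `rf B t` -/
theorem phi_rf {t b : G} (ht : t ∈ pts V cf z) (hb : b ∈ wt V cf z t) (hbz : b ∉ qq V cf z) (m : M) :
    R.phi b • m = rf B (R.pi t) m := by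
  have h1 := h.phi_wt R hB ht hb hbz m
  rcases z2 (B m (R.pi t)) with h2 | h2
  · rw [rf_zero h2, h1.1 h2]
  · rw [rf_one h2, h1.2 h2]

/-- each point is moved by `Q_z` -/
theorem exists_move {t : G} (ht : t ∈ pts V cf z) : ∃ q ∈ qq V cf z, q * t * q⁻¹ = z * t := by
  have S := h.sys R hB
  obtain ⟨_, ⟨s, hs, rfl⟩, hs1⟩ := S.exists_nd (pi_mem_TT R ht)
  obtain ⟨f, hf, -, hf2⟩ := h.exists_f R hB hs
  exact ⟨f, hf, (hf2 t (h.pt_mem ht)).2 hs1⟩

/-- a point is moved by an element of `Q_z` which fixes a given other point -/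
theorem exists_move2 [FaithfulSMul H M] {t u : G} (ht : t ∈ pts V cf z) (hu : u ∈ pts V cf z)
    (hne : R.pi t ≠ R.pi u) : ∃ q ∈ qq V cf z, q * t * q⁻¹ = t ∧ q * u * q⁻¹ = z * u := by
  obtain ⟨_, ⟨s, hs, rfl⟩, hs1, hs2⟩ := (h.sys R hB).exists_nonperp (h.inj R hB) (pi_mem_TT R ht)
    (pi_mem_TT R hu) (Ne.symm hne)
  obtain ⟨f, hf, -, hf2⟩ := h.exists_f R hB hs
  refine ⟨f, hf, (hf2 t (h.pt_mem ht)).1 hs1, (hf2 u (h.pt_mem hu)).2 ?_⟩
  rw [(h.sys R hB).symm]; exact hs2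

omit hB in
/-- two elements of `W_z` with the same image are conjugate under `Q_z` if they are points -/
theorem conj_eq_or {c t u : G} (hc : c ∈ cf z) (ht : t ∈ pts V cf z) (hu : u ∈ pts V cf z)
    (e : R.phi c • R.pi t = R.pi u) : c * t * c⁻¹ = u ∨ c * t * c⁻¹ = z * u := by
  rw [R.act c hc t (h.pt_mem ht)] at e
  exact (R.pi_eq h.toFam (conj_mem_wf hc (h.pt_mem ht)) (h.pt_mem hu)).mp e

/-- **(3.1) SWAP** -/
theorem swap [FaithfulSMul H M] (hc : Conn (TT R) B) {t u : G} (ht : t ∈ pts V cf z) (hu : u ∈ pts V cf z)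
    (h0 : B (R.pi t) (R.pi u) = 0) (hne : R.pi t ≠ R.pi u) :
    ∃ c ∈ cf z, c * t * c⁻¹ = u ∧ c * u * c⁻¹ = t := by
  have S := h.sys R hB
  have hzc := h.V_le_cf h.z_mem h.z_ne h.z_mem
  obtain ⟨_, ⟨a, ha, rfl⟩, _, ⟨b, hb, rfl⟩, -, -, -, -, -, -, e1, e2⟩ :=
    S.swap hc (pi_mem_TT R ht) (pi_mem_TT R hu) h0
  obtain ⟨x, hx, hxz⟩ := h.exists_wt ha
  obtain ⟨x', hx', hxz'⟩ := h.exists_wt hb
  have hxc := h.wt_le_cf ha hx
  have hxc' := h.wt_le_cf hb hx'
  have hxx := mul_mem hxc hxc'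
  have e3 : R.phi (x * x') • R.pi t = R.pi u := by
    rw [R.phi_mul x hxc x' hxc', mul_smul, h.phi_rf R hB hb hx' hxz', h.phi_rf R hB ha hx hxz, e1]
  have e4 : R.phi (x * x') • R.pi u = R.pi t := by
    rw [R.phi_mul x hxc x' hxc', mul_smul, h.phi_rf R hB hb hx' hxz', h.phi_rf R hB ha hx hxz, e2]
  have hzz : ∀ w : G, z * (z * w) = w := fun w => by rw [← mul_assoc, h.ln.sq z h.z_mem, one_mul]
  have hcz : ∀ c ∈ cf z, ∀ w : G, c * (z * w) * c⁻¹ = z * (c * w * c⁻¹) := by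
    intro c hc w
    have := h.cf_comm h.z_mem h.z_ne hc
    calc c * (z * w) * c⁻¹ = (c * z) * w * c⁻¹ := by group
      _ = (z * c) * w * c⁻¹ := by rw [this]
      _ = z * (c * w * c⁻¹) := by group
  -- first correction
  obtain ⟨c, hc, ec1, ec2⟩ : ∃ c ∈ cf z, c * t * c⁻¹ = u ∧ (c * u * c⁻¹ = t ∨ c * u * c⁻¹ = z * t) := by
    rcases h.conj_eq_or R hxx ht hu e3 with e5 | e5
    · exact ⟨x * x', hxx, e5, h.conj_eq_or R hxx hu ht e4⟩
    · obtain ⟨q, hq, hq1⟩ := h.exists_move R hB hu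
      refine ⟨q * (x * x'), mul_mem hq.1 hxx, ?_, ?_⟩
      · have : q * (x * x') * t * (q * (x * x'))⁻¹ = q * ((x * x') * t * (x * x')⁻¹) * q⁻¹ := by group
        rw [this, e5, hcz q hq.1, hq1, hzz]
      · have : q * (x * x') * u * (q * (x * x'))⁻¹ = q * ((x * x') * u * (x * x')⁻¹) * q⁻¹ := by group
        rw [this]
        have h6 : q * t * q⁻¹ = t ∨ q * t * q⁻¹ = z * t := h.qq_cases h.z_mem hq (h.pt_mem ht)
        rcases h.conj_eq_or R hxx hu ht e4 with e7 | e7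
        · rw [e7]; exact h6
        · rw [e7, hcz q hq.1]
          rcases h6 with e8 | e8
          · right; rw [e8]
          · left; rw [e8, hzz]
  rcases ec2 with e5 | e5
  · exact ⟨c, hc, ec1, e5⟩
  · obtain ⟨q, hq, hq1, hq2⟩ := h.exists_move2 R hB hu ht hne.symm
    refine ⟨q * c, mul_mem hq.1 hc, ?_, ?_⟩
    · have : q * c * t * (q * c)⁻¹ = q * (c * t * c⁻¹) * q⁻¹ := by group
      rw [this, ec1, hq1]
    · have : q * c * u * (q * c)⁻¹ = q * (c * u * c⁻¹) * q⁻¹ := by group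
      rw [this, e5, hcz q hq.1, hq2, hzz]

/-- `X_z` is transitive on `TT` -/
theorem exists_xx (hc : Conn (TT R) B) {u v : M} (hu : u ∈ TT R) (hv : v ∈ TT R) :
    ∃ x ∈ xx V cf z, R.phi x • u = v := by
  have S := h.sys R hB
  let D : Set M := {w | w ∈ TT R ∧ ∃ x ∈ xx V cf z, R.phi x • u = w}
  have hD : TT R ⊆ D := by
    refine hc D (fun w hw => hw.1) ⟨u, hu, 1, one_mem _, by rw [R.phi_one', one_smul]⟩ ?_
    rintro w ⟨hw, x, hx, hxw⟩ w' hw' hww
    obtain ⟨s, hs, hs1⟩ := S.refl w hw w' hw' hww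
    obtain ⟨b, hb, hbz⟩ := h.exists_wt hs
    have hbx := wt_le_xx hs hb
    refine ⟨hw', b * x, mul_mem hbx hx, ?_⟩
    rw [R.phi_mul b (h.xx_le_cf hbx) x (h.xx_le_cf hx), mul_smul, hxw, h.phi_rf R hB hs hb hbz, hs1,
      rf_one (by rw [S.add_right, S.alt, hww, zero_add]), S.add_cancel]
  exact (hD hv).2

/-- **(3.2)** `C_z = X_z N_{C_z}(V)` -/
theorem cf_eq (hc : Conn (TT R) B) {c : G} (hcz : c ∈ cf z) : ∃ x ∈ xx V cf z, ∃ n ∈ cf z,
    n ∈ normalizer (V : Set G) ∧ c = x * n := by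
  obtain ⟨y, hy, hy1, hyz⟩ := h.ln.exists_y
  have hy0 : R.pi y ∈ TT R := pi_mem_TT R (mem_pts hy hy1 hyz)
  obtain ⟨x, hx, hxv⟩ := h.exists_xx R hB hc hy0 ((h.act R hB).smul_mem (R.phi c) _ hy0)
  have hxc := h.xx_le_cf hx
  refine ⟨x, hx, x⁻¹ * c, mul_mem (inv_mem hxc) hcz, ?_, by group⟩
  rw [← R.smul_v0_iff h.toFam hy hy1 hyz (mul_mem (inv_mem hxc) hcz), R.phi_mul _ (inv_mem hxc) c hcz, mul_smul,
    ← hxv, R.phi_inv hxc, inv_smul_smul]

end Tvf

/-! ### (3.3) -/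

/-- the intersection of all `K_p`, `p ∈ V#` -/
def ka (V : Subgroup G) (cf : G → Subgroup G) : Subgroup G where
  carrier := {u | ∀ p ∈ V, p ≠ 1 → u ∈ kk V cf p}
  mul_mem' := fun ha hb p hp hp1 => (kk V cf p).mul_mem (ha p hp hp1) (hb p hp hp1)
  one_mem' := fun p _ _ => (kk V cf p).one_mem
  inv_mem' := fun ha p hp hp1 => (kk V cf p).inv_mem (ha p hp hp1)

theorem norm_ka (h : Fam T V z cf) : normalizer (V : Set G) ≤ normalizer ((ka V cf : Subgroup G) : Set G) := by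
  refine le_normalizer_of_forall fun g hg u hu p hp hp1 => ?_
  have := h.conj_kk hg (h.conj_pt' hg hp) (Fam.conj_ne' hp1) (hu _ (h.conj_pt' hg hp) (Fam.conj_ne' hp1))
  have e : g * (g⁻¹ * p * g) * g⁻¹ = p := by group
  rwa [e] at this

/-- (NL) for arbitrary subgroups -/
theorem eq_bot_of_norm [Finite G] (h : Fam T V z cf) {E : Subgroup G} (hE : E ≤ cf z)
    (h1 : normalizer (V : Set G) ≤ normalizer (E : Set G)) (h2 : cf z ≤ normalizer (E : Set G)) : E = ⊥ := by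
  have ho2 : o2 E = ⊥ := h.nl (isPGroup_o2 E) (h1.trans (normalizer_le_normalizer_o2 E))
    (h2.trans (normalizer_le_normalizer_o2 E))
  have hc : E ≤ centralizer ((o2 (cf z) : Subgroup G) : Set G) := by
    intro c hc
    rw [mem_centralizer_iff]
    intro r hr
    have h3 : r * c * r⁻¹ * c⁻¹ ∈ E ⊓ o2 (cf z) := by
      refine mem_inf.mpr ⟨mul_mem (conj_mem_of_normalizer h2 (o2_le _ hr) hc) (inv_mem hc), ?_⟩
      have e : r * c * r⁻¹ * c⁻¹ = r * (c * r⁻¹ * c⁻¹) := by group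
      rw [e]
      exact mul_mem hr (conj_mem_of_normalizer (le_normalizer_o2 _) (hE hc) (inv_mem hr))
    have h4 : E ⊓ o2 (cf z) ≤ o2 E := by
      refine le_o2 inf_le_left ((isPGroup_o2 (cf z)).to_le inf_le_right) ?_
      refine le_normalizer_of_forall fun g hg x hx => ?_
      exact mem_inf.mpr ⟨mul_mem (mul_mem hg (mem_inf.mp hx).1) (inv_mem hg),
        conj_mem_of_normalizer (le_normalizer_o2 _) (hE hg) (mem_inf.mp hx).2⟩
    have h5 := h4 h3
    rw [ho2, mem_bot, mul_inv_eq_one] at h5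
    exact mul_inv_eq_iff_eq_mul.mp h5
  have h6 : IsPGroup 2 E := (isPGroup_o2 (cf z)).to_le ((le_inf hE hc).trans h.char2_z)
  rw [eq_bot_iff, ← ho2]
  exact le_o2 le_rfl h6 le_normalizer

namespace Tvf

variable (h : Tvf T V z cf) [Finite G] {M H : Type u} [AddCommGroup M] [Group H] [DistribMulAction H M]
  (R : MRep V cf z M H) {B : M → M → ZMod 2} (hB : IsB R B)
include h hB

theorem odd_kk_aux {y e : G} (hy : y ∈ V) (hy1 : y ≠ 1) (hyz : y ≠ z) (he : e ∈ kk V cf z)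
    (he' : e ∈ kk V cf (z * y)) (ho : Odd (orderOf e)) : e ∈ kk V cf y := by
  have hz := h.z_mem
  have hz1 := h.z_ne
  have hzy : z * y ∈ V := mul_mem hz hy
  have hzy1 : z * y ≠ 1 := h.mul_ne_one hy (Ne.symm hyz)
  have S := h.sys R hB
  have hyp := mem_pts (cf := cf) hy hy1 hyz
  obtain ⟨_, ⟨t, ht, rfl⟩, ht1⟩ := S.exists_nd (pi_mem_TT R hyp)
  obtain ⟨f, hf, ⟨b, hb, b', hb', -, -, hfb⟩, hf2⟩ := h.exists_f R hB ht
  have hfV := h.qq_le_normalizer hz hf
  have e1 : f * (z * y) * f⁻¹ = y := by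
    have h3 := (hf2 y (h.pt_mem hyp)).2 ht1
    have h4 : f * z = z * f := h.qq_p hf
    calc f * (z * y) * f⁻¹ = (f * z) * y * f⁻¹ := by group
      _ = (z * f) * y * f⁻¹ := by rw [h4]
      _ = z * (f * y * f⁻¹) := by group
      _ = y := by rw [h3, ← mul_assoc, h.ln.sq z hz, one_mul]
  have hfx : f ∈ xx V cf z := by
    rw [hfb]; exact mul_mem (wt_le_xx ht hb) (wt_le_xx (h.pt_z ht) hb')
  have h5 : f * e * f⁻¹ ∈ kk V cf y := by
    have := h.conj_kk hfV hzy hzy1 he'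
    rwa [e1] at this
  have h6 : (f * e * f⁻¹)⁻¹ * e ∈ pp V cf z := by
    have := h.kk_xx ((kk V cf z).inv_mem he) hfx
    have e2 : (f * e * f⁻¹)⁻¹ * e = (e⁻¹ * f * e⁻¹⁻¹ * f⁻¹)⁻¹ := by group
    rw [e2]
    exact inv_mem this
  have h7 : (f * e * f⁻¹)⁻¹ * e ∈ normalizer ((kk V cf y : Subgroup G) : Set G) :=
    h.cf_norm_kk (h.cent_le_cf hy hy1 (h.kk_le_cent (pp_le_kk h6)))
  have h8 := odd_mem_of_mul h.pp_two h5 h6 h7 (by rw [mul_inv_cancel_left]; exact ho)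
  rwa [mul_inv_cancel_left] at h8

/-- odd elements of `K_z ∩ K_y` are in all `K_p` -/
theorem odd_ka {y e : G} (hy : y ∈ V) (hy1 : y ≠ 1) (hyz : y ≠ z) (he : e ∈ kk V cf z)
    (he' : e ∈ kk V cf y) (ho : Odd (orderOf e)) : e ∈ ka V cf := by
  have hz := h.z_mem
  have hz1 := h.z_ne
  intro p hp hp1
  rcases h.ln.four hz hy hz1 hy1 (Ne.symm hyz) hp with e1 | e1 | e1 | e1
  · exact absurd e1 hp1
  · rw [e1]; exact he
  · rw [e1]; exact he'
  · rw [e1]
    refine h.odd_kk_aux R hB (mul_mem hz hy) (h.mul_ne_one hy (Ne.symm hyz)) (fun e2 => hy1 (by simpa using e2)) he ?_ ho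
    rw [← mul_assoc, h.ln.sq z hz, one_mul]
    exact he'

/-- odd elements of all `K_p` are trivial -/
theorem oddGen_ka (hc : Conn (TT R) B) : Cfsg.Agent.MinSimple.VModule.oddGen (ka V cf) = ⊥ := by
  have hz := h.z_mem
  have hz1 := h.z_ne
  set E := Cfsg.Agent.MinSimple.VModule.oddGen (ka V cf) with hE
  have hEk : E ≤ ka V cf := Cfsg.Agent.MinSimple.VModule.oddGen_le _
  have h1 : normalizer (V : Set G) ≤ normalizer (E : Set G) :=
    (norm_ka h.toFam).trans (Cfsg.Agent.MinSimple.VModule.normalizer_le_normalizer_oddGen _)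
  have hEz : E ≤ kk V cf z := fun e he => hEk he z hz hz1
  have hkV : kk V cf z ≤ normalizer (V : Set G) := h.kk_le_cent.trans (centralizer_le_normalizer _)
  have hodd : ∀ g c : G, Odd (orderOf c) → Odd (orderOf (g * c * g⁻¹)) := by
    intro g c hc
    have : orderOf (g * c * g⁻¹) = orderOf c := by
      rw [← MulAut.conj_apply]
      exact MulEquiv.orderOf_eq (MulAut.conj g) c
    rwa [this]
  have h2 : xx V cf z ≤ normalizer (E : Set G) := by
    refine le_normalizer_of_forall fun x hx e he => ?_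
    have key : E ≤ E.comap (MulAut.conj x).toMonoidHom := by
      refine (closure_le _).mpr ?_
      rintro e ⟨he, ho⟩
      change x * e * x⁻¹ ∈ E
      have heE : e ∈ E := Cfsg.Agent.MinSimple.VModule.mem_oddGen he ho
      have hez := he z hz hz1
      have h3 := h.kk_xx ((kk V cf z).inv_mem hez) hx
      have e1 : x * e * x⁻¹ = e * (e⁻¹ * x * e⁻¹⁻¹ * x⁻¹) := by group
      have ho' := hodd x e ho
      rw [e1] at ho' ⊢
      exact odd_mem_of_mul h.pp_two heE h3 (h1 (hkV (pp_le_kk h3))) ho'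
    exact key he
  refine eq_bot_of_norm h.toFam (hEz.trans h.kk_le_cf) h1 ?_
  intro c hcz
  obtain ⟨x, hx, n, -, hn, rfl⟩ := h.cf_eq R hB hc hcz
  exact mul_mem (h2 hx) (h1 hn)

/-- **(3.3)** `K_p ∩ K_q` is a 2-group. -/
theorem kk_inf_two (hc : Conn (TT R) B) {p q : G} (hp : p ∈ V) (hp1 : p ≠ 1) (hq : q ∈ V) (hq1 : q ≠ 1)
    (hqp : q ≠ p) : IsPGroup 2 (kk V cf p ⊓ kk V cf q : Subgroup G) := by
  have hz := h.z_mem
  have hz1 := h.z_ne
  obtain ⟨y, hy, hy1, hyz⟩ := h.ln.exists_y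
  obtain ⟨g, hg, e1, e2⟩ := h.trans2 hp hp1 hq hq1 hqp hz hz1 hy hy1 hyz
  -- odd elements of `K_p ∩ K_q` are trivial
  have key : ∀ e ∈ kk V cf p, e ∈ kk V cf q → Odd (orderOf e) → e = 1 := by
    intro e he he' ho
    have h1 := h.conj_kk hg hp hp1 he
    have h2 := h.conj_kk hg hq hq1 he'
    rw [e1] at h1
    rw [e2] at h2
    have ho' : Odd (orderOf (g * e * g⁻¹)) := by
      have : orderOf (g * e * g⁻¹) = orderOf e := by
        rw [← MulAut.conj_apply]
        exact MulEquiv.orderOf_eq (MulAut.conj g) e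
      rwa [this]
    have h3 := Cfsg.Agent.MinSimple.VModule.mem_oddGen (h.odd_ka R hB hy hy1 hyz h1 h2 ho') ho'
    rw [h.oddGen_ka R hB hc, mem_bot] at h3
    exact conj_eq_one_iff.mp h3
  rintro ⟨c, hcp, hcq⟩
  obtain ⟨k, m, hm, hkm⟩ := Nat.exists_eq_two_pow_mul_odd (n := orderOf c) (orderOf_pos _).ne'
  refine ⟨k, Subtype.ext ?_⟩
  change c ^ 2 ^ k = 1
  have h1 : orderOf (c ^ 2 ^ k) = m := by
    rw [orderOf_pow' c (by positivity), hkm, Nat.gcd_eq_right (Dvd.intro _ rfl)]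
    exact Nat.mul_div_cancel_left m (by positivity)
  exact key _ (pow_mem hcp _) (pow_mem hcq _) (by rw [h1]; exact hm)

end Tvf

end Cfsg.Agent.Omega.NO3S.TV

end

end

-- merged: Cfsg.Agent.Mrg.Omega.NO3S.TV.HAct
section

section


/-!
# NO-3S, `q = 2`, `n = 1`, transvection types (helper311's text #16747): the module part of (3.6), sections 4 and 7

`Sys TT B` on `M`; `h` : an isometry preserving `TT`, fixing `v ∈ TT`, and trivial on `v^⊥ / (⟨v⟩ + Rad)`; `t ∈ TT` with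
`(t, v) = 1`, `j = h t + t`.

* `Sys.mem_closure` : `v^⊥` is generated by `TT ∩ v^⊥`; `Sys.rd_of` : `v^⊥⊥ = ⟨v⟩ + Rad`;
* `HAct.act` (3.6) : `h m = m + (m, j) v + ρ(m)`, `ρ(m) ∈ Rad`, for `m ∈ v^⊥`;
* `HAct.four` (section 4) : no planar pair ⟹ `h` is trivial on `v^⊥`, and `h m + m ∈ {0, v}` for all `m`;
* `HAct.seven` (section 7) : planar pairs, `a + b + r ∈ TT` for all distinct perpendicular `a, b ∈ TT` ⟹ as in `four`, or
  `h m = m + (m, j) (v + r)` on `v^⊥`, and `(·, j) ≠ 0` on `v^⊥`.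
-/

set_option autoImplicit false

namespace Cfsg.Agent.Omega.NO3S.TV

variable {M : Type*} [AddCommGroup M]

/-- `m` is in the radical -/
def Rd (B : M → M → ZMod 2) (m : M) : Prop := ∀ a, B a m = 0

namespace Sys

variable {TT : Set M} {B : M → M → ZMod 2}

theorem rd_left (S : Sys TT B) {ρ : M} (hρ : Rd B ρ) (a : M) : B ρ a = 0 := by rw [S.symm]; exact hρ a

theorem rd_add (S : Sys TT B) {a b : M} (ha : Rd B a) (hb : Rd B b) : Rd B (a + b) := fun m => by
  rw [S.add_right, ha m, hb m, add_zero]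

/-- (1.3) for `Rd` -/
theorem eq_of_rd (S : Sys TT B) (I : Inj TT B) {a b : M} (ha : a ∈ TT) (hb : b ∈ TT) (h : Rd B (a + b)) : a = b := by
  refine I a ha b hb fun m => ?_
  have := h m
  rw [S.add_right, S.symm m, S.symm m] at this
  exact z2_eq_of_add this

/-- `v^⊥` is generated by `TT ∩ v^⊥` -/
theorem mem_closure (S : Sys TT B) {v : M} (hv : v ∈ TT) {m : M} (hm : B m v = 0) :
    m ∈ AddSubgroup.closure {t | t ∈ TT ∧ B t v = 0} := by
  obtain ⟨t, ht, hvt⟩ := S.exists_nd hv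
  have htv : B t v = 1 := by rw [S.symm]; exact hvt
  set K := AddSubgroup.closure {t | t ∈ TT ∧ B t v = 0} with hK
  have hvK : v ∈ K := AddSubgroup.subset_closure ⟨hv, S.alt v⟩
  -- `t + t' ∈ K`
  have key : ∀ t' ∈ TT, B t' v = 1 → t' + t ∈ K := by
    intro t' ht' h'
    rcases z2 (B t t') with e | e
    · have h1 : v + t ∈ TT := S.refl v hv t ht hvt
      have h2 : v + t + t' ∈ TT := S.refl _ h1 t' ht' (by rw [S.add_left, e, S.symm, h', add_zero])
      have h3 : v + t + t' ∈ K := AddSubgroup.subset_closure ⟨h2, by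
        rw [S.add_left, S.add_left, S.alt, htv, h']; decide⟩
      have h4 := add_mem hvK h3
      have h5 : v + (v + t + t') = t' + t := by rw [add_assoc, S.add_cancel, add_comm]
      rwa [h5] at h4
    · refine AddSubgroup.subset_closure ⟨?_, by rw [S.add_left, h', htv]; decide⟩
      rw [add_comm]
      exact S.refl t ht t' ht' e
  have all : ∀ m ∈ AddSubgroup.closure TT, (B m v = 0 ∧ m ∈ K) ∨ (B m v = 1 ∧ m + t ∈ K) := by
    intro m hm
    induction hm using AddSubgroup.closure_induction with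
    | mem x hx =>
      rcases z2 (B x v) with e | e
      · exact Or.inl ⟨e, AddSubgroup.subset_closure ⟨hx, e⟩⟩
      · exact Or.inr ⟨e, key x hx e⟩
    | zero => exact Or.inl ⟨S.zero_left v, zero_mem _⟩
    | add a b _ _ ha hb =>
      rcases ha with ⟨a1, a2⟩ | ⟨a1, a2⟩ <;> rcases hb with ⟨b1, b2⟩ | ⟨b1, b2⟩
      · exact Or.inl ⟨by rw [S.add_left, a1, b1, add_zero], add_mem a2 b2⟩
      · refine Or.inr ⟨by rw [S.add_left, a1, b1, zero_add], ?_⟩
        rw [add_assoc]; exact add_mem a2 b2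
      · refine Or.inr ⟨by rw [S.add_left, a1, b1, add_zero], ?_⟩
        have : a + b + t = a + t + b := by abel
        rw [this]; exact add_mem a2 b2
      · refine Or.inl ⟨by rw [S.add_left, a1, b1]; decide, ?_⟩
        have h1 := add_mem a2 b2
        have : a + t + (b + t) = a + b := by
          calc a + t + (b + t) = a + b + (t + t) := by abel
            _ = a + b := by rw [S.two, add_zero]
        rwa [this] at h1
    | neg a _ ha => rw [S.neg_eq]; exact ha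
  rcases all m (by rw [S.span]; exact AddSubgroup.mem_top m) with h | h
  · exact h.2
  · rw [hm] at h
    exact absurd h.1 zero_ne_one

/-- a functional `(·, j)` which vanishes on `v^⊥`: `j ∈ {0, v} + Rad` -/
theorem rd_of (S : Sys TT B) {v t : M} (htv : B t v = 1) {j : M} (hj : ∀ m, B m v = 0 → B m j = 0) :
    Rd B j ∨ Rd B (j + v) := by
  rcases z2 (B t j) with e | e
  · left
    intro m
    rcases z2 (B m v) with e1 | e1
    · exact hj m e1
    · have h1 : B (m + t) v = 0 := by rw [S.add_left, e1, htv]; decide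
      have h2 := hj _ h1
      rw [S.add_left, e, add_zero] at h2
      exact h2
  · right
    intro m
    rcases z2 (B m v) with e1 | e1
    · rw [S.add_right, e1, hj m e1, add_zero]
    · have h1 : B (m + t) v = 0 := by rw [S.add_left, e1, htv]; decide
      have h2 := hj _ h1
      rw [S.add_left, e] at h2
      rw [S.add_right, e1]
      exact h2

/-- the vectors perpendicular to `j` -/
def pp (S : Sys TT B) (j : M) : AddSubgroup M where
  carrier := {m | B m j = 0}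
  add_mem' {a b} ha hb := by
    change B a j = 0 at ha
    change B b j = 0 at hb
    change B (a + b) j = 0
    rw [S.add_left, ha, hb, add_zero]
  zero_mem' := S.zero_left j
  neg_mem' {a} ha := by
    change B a j = 0 at ha
    change B (-a) j = 0
    rw [S.neg_eq]; exact ha

end Sys

/-- the situation of (3.6) for `h` acting on the module at `y`, `v = x̄` -/
structure HAct (TT : Set M) (B : M → M → ZMod 2) (v t : M) (h : M →+ M) : Prop where
  sys : Sys TT B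
  inj : Inj TT B
  v_mem : v ∈ TT
  t_mem : t ∈ TT
  tv : B t v = 1
  iso : ∀ a b, B (h a) (h b) = B a b
  map : ∀ a ∈ TT, h a ∈ TT
  hv : h v = v
  tri : ∀ m, B m v = 0 → ∃ ρ, Rd B ρ ∧ (h m = m + ρ ∨ h m = m + v + ρ)

namespace HAct

variable {TT : Set M} {B : M → M → ZMod 2} {v t : M} {h : M →+ M}

/-- `j ⊥ v` -/
theorem jv (c : HAct TT B v t h) : B (h t + t) v = 0 := by
  have h1 := c.iso t v
  rw [c.hv, c.tv] at h1
  rw [c.sys.add_left, h1, c.tv]
  decide

/-- **(3.6)** -/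
theorem act (c : HAct TT B v t h) {m : M} (hm : B m v = 0) : ∃ ρ, Rd B ρ ∧
    ((B m (h t + t) = 0 ∧ h m = m + ρ) ∨ (B m (h t + t) = 1 ∧ h m = m + v + ρ)) := by
  obtain ⟨ρ, hρ, e⟩ := c.tri m hm
  have h1 := c.iso m t
  have hρ' : ∀ a, B ρ a = 0 := fun a => c.sys.rd_left hρ a
  refine ⟨ρ, hρ, ?_⟩
  rcases e with e | e
  · left
    refine ⟨?_, e⟩
    rw [e, c.sys.add_left, hρ', add_zero] at h1
    rw [c.sys.add_right, h1, z2_add]
  · right
    refine ⟨?_, e⟩
    rw [e, c.sys.add_left, c.sys.add_left, hρ', add_zero] at h1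
    have h2 : B v (h t) = 1 := by
      have := c.iso v t
      rw [c.hv, c.sys.symm v t, c.tv] at this
      exact this
    rw [h2] at h1
    rw [c.sys.add_right, ← h1]
    generalize B m (h t) = a
    revert a; decide

/-- `h` is trivial on `v^⊥` if it is trivial on `TT ∩ v^⊥` -/
theorem eq_of (c : HAct TT B v t h) (hT : ∀ a ∈ TT, B a v = 0 → h a = a) {m : M} (hm : B m v = 0) :
    h m = m := by
  have h1 : AddSubgroup.closure {t | t ∈ TT ∧ B t v = 0} ≤ h.eqLocus (AddMonoidHom.id M) :=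
    (AddSubgroup.closure_le _).mpr fun a ha => hT a ha.1 ha.2
  exact h1 (c.sys.mem_closure c.v_mem hm)

/-- if `h` is trivial on `v^⊥` then `h m + m ∈ {0, v}` for all `m` -/
theorem id_case (c : HAct TT B v t h) (hT : ∀ m, B m v = 0 → h m = m)
    (hj : ∀ m, B m v = 0 → B m (h t + t) = 0) (m : M) : h m + m = 0 ∨ h m + m = v := by
  have S := c.sys
  have key : h t + t = 0 ∨ h t + t = v := by
    rcases S.rd_of c.tv hj with e | e
    · left
      have h1 : h t = t := S.eq_of_rd c.inj (c.map t c.t_mem) c.t_mem e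
      rw [h1, S.two]
    · right
      have h1 : t + v ∈ TT := S.refl t c.t_mem v c.v_mem c.tv
      have h2 : h t = t + v := S.eq_of_rd c.inj (c.map t c.t_mem) h1 (by rw [← add_assoc]; exact e)
      rw [h2, add_comm t, S.add_cancel']
  rcases z2 (B m v) with e1 | e1
  · left; rw [hT m e1, S.two]
  · have h1 : B (m + t) v = 0 := by rw [S.add_left, e1, c.tv]; decide
    have h2 := hT _ h1
    rw [map_add] at h2
    have h3 : h m + m = h t + t := by
      calc h m + m = (h m + h t) + (h t + m) := by rw [add_assoc, S.add_cancel]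
        _ = (m + t) + (h t + m) := by rw [h2]
        _ = (h t + t) + (m + m) := by abel
        _ = h t + t := by rw [S.two, add_zero]
    rw [h3]; exact key

/-- **Section 4**: no planar pair. -/
theorem four (c : HAct TT B v t h) (np : ∀ a ∈ TT, ∀ b ∈ TT, ¬ Sys.Planar TT B a b) :
    (∀ m, B m v = 0 → h m = m) ∧ ∀ m, h m + m = 0 ∨ h m + m = v := by
  have S := c.sys
  have key : ∀ a ∈ TT, B a v = 0 → B a (h t + t) = 0 ∧ h a = a := by
    intro a ha hav
    obtain ⟨ρ, hρ, ⟨e1, e2⟩ | ⟨e1, e2⟩⟩ := c.act hav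
    · refine ⟨e1, S.eq_of_rd c.inj (c.map a ha) ha ?_⟩
      rw [e2, add_comm, S.add_cancel]; exact hρ
    · exfalso
      refine np a ha v c.v_mem ⟨hav, ?_, h a, c.map a ha, fun m => ?_⟩
      · intro e
        rw [e, S.symm, c.jv] at e1
        exact absurd e1 zero_ne_one
      · rw [e2, S.add_left, S.add_left, S.rd_left hρ, add_zero]
  have h1 : ∀ m, B m v = 0 → h m = m := fun m hm => c.eq_of (fun a ha hav => (key a ha hav).2) hm
  refine ⟨h1, c.id_case h1 fun m hm => ?_⟩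
  have h2 : AddSubgroup.closure {t | t ∈ TT ∧ B t v = 0} ≤ S.pp (h t + t) :=
    (AddSubgroup.closure_le _).mpr fun a ha => (key a ha.1 ha.2).1
  exact h2 (S.mem_closure c.v_mem hm)

/-- the vectors on which `h m = m + (m, j) u` -/
def gg (S : Sys TT B) (h : M →+ M) (j u : M) : AddSubgroup M where
  carrier := {m | (B m j = 0 ∧ h m = m) ∨ (B m j = 1 ∧ h m = m + u)}
  add_mem' {a b} ha hb := by
    change (B a j = 0 ∧ h a = a) ∨ (B a j = 1 ∧ h a = a + u) at ha
    change (B b j = 0 ∧ h b = b) ∨ (B b j = 1 ∧ h b = b + u) at hb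
    change (B (a + b) j = 0 ∧ h (a + b) = a + b) ∨ (B (a + b) j = 1 ∧ h (a + b) = a + b + u)
    rw [S.add_left, map_add]
    rcases ha with ⟨a1, a2⟩ | ⟨a1, a2⟩ <;> rcases hb with ⟨b1, b2⟩ | ⟨b1, b2⟩
    · left; rw [a1, b1, a2, b2]; exact ⟨by decide, rfl⟩
    · right; rw [a1, b1, a2, b2]; exact ⟨by decide, by abel⟩
    · right; rw [a1, b1, a2, b2]; exact ⟨by decide, by abel⟩
    · left; rw [a1, b1, a2, b2]
      refine ⟨by decide, ?_⟩
      calc a + u + (b + u) = a + b + (u + u) := by abel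
        _ = a + b := by rw [S.two, add_zero]
  zero_mem' := Or.inl ⟨S.zero_left j, map_zero h⟩
  neg_mem' {a} ha := by
    change (B a j = 0 ∧ h a = a) ∨ (B a j = 1 ∧ h a = a + u) at ha
    change (B (-a) j = 0 ∧ h (-a) = -a) ∨ (B (-a) j = 1 ∧ h (-a) = -a + u)
    rw [S.neg_eq]; exact ha

/-- **Section 7**: planar pairs with constant `r ∈ Rad`. -/
theorem seven (c : HAct TT B v t h) {r : M} (hr : Rd B r)
    (pl : ∀ a ∈ TT, ∀ b ∈ TT, a ≠ b → B a b = 0 → a + b + r ∈ TT) :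
    ((∀ m, B m v = 0 → h m = m) ∧ ∀ m, h m + m = 0 ∨ h m + m = v) ∨
      ((∃ m, B m v = 0 ∧ B m (h t + t) = 1) ∧ ∀ m, B m v = 0 →
        (B m (h t + t) = 0 ∧ h m = m) ∨ (B m (h t + t) = 1 ∧ h m = m + (v + r))) := by
  have S := c.sys
  have key : ∀ m, B m v = 0 → (B m (h t + t) = 0 ∧ h m = m) ∨ (B m (h t + t) = 1 ∧ h m = m + (v + r)) := by
    have h2 : AddSubgroup.closure {t | t ∈ TT ∧ B t v = 0} ≤ gg S h (h t + t) (v + r) := by
      refine (AddSubgroup.closure_le _).mpr ?_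
      rintro a ⟨ha, hav⟩
      obtain ⟨ρ, hρ, ⟨e1, e2⟩ | ⟨e1, e2⟩⟩ := c.act hav
      · refine Or.inl ⟨e1, S.eq_of_rd c.inj (c.map a ha) ha ?_⟩
        rw [e2, add_comm, S.add_cancel]; exact hρ
      · refine Or.inr ⟨e1, ?_⟩
        have hne : a ≠ v := by
          intro e
          rw [e, S.symm, c.jv] at e1
          exact absurd e1 zero_ne_one
        rw [← add_assoc]
        refine S.eq_of_rd c.inj (c.map a ha) (pl a ha v c.v_mem hne hav) ?_
        have e3 : h a + (a + v + r) = ρ + r := by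
          rw [e2]
          calc a + v + ρ + (a + v + r) = (a + a) + (v + v) + (ρ + r) := by abel
            _ = ρ + r := by rw [S.two, S.two, add_zero, zero_add]
        rw [e3]
        exact S.rd_add hρ hr
    exact fun m hm => h2 (S.mem_closure c.v_mem hm)
  by_cases hex : ∃ m, B m v = 0 ∧ B m (h t + t) = 1
  · exact Or.inr ⟨hex, key⟩
  · left
    have h0 : ∀ m, B m v = 0 → B m (h t + t) = 0 := fun m hm =>
      z2_ne' fun e => hex ⟨m, hm, e⟩
    have h1 : ∀ m, B m v = 0 → h m = m := fun m hm => by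
      rcases key m hm with e | e
      · exact e.2
      · rw [h0 m hm] at e
        exact absurd e.1 zero_ne_one
    exact ⟨h1, c.id_case h1 h0⟩

end HAct

end Cfsg.Agent.Omega.NO3S.TV

end

section


/-!
# NO-3S, `q = 2`, `n = 1`, transvection types (helper311's text #16747): section 4

Base point `z` (= `y` of the text) with its module `M = W_z/⟨z⟩`, another point `x ∈ V`.

* `Loc T V z cf R TT B` : the family with `TT`, `B` at `z`;
* `Far V z cf x c` : `p = c z c⁻¹`, `c ∈ cf x`, is a point of `D_x - V`; `W_p = cj c W_z`;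
* `Tri R B x g` : `g` is trivial on `N_z = x̄^⊥/(⟨x̄⟩ + Rad)`;
* `Loc.exists_planar` : section 4.
-/

set_option autoImplicit false
set_option linter.unusedSectionVars false

namespace Cfsg.Agent.Omega.NO3S.TV

open Subgroup Cfsg Cfsg.Agent.ZN Cfsg.Agent.MinSimple.Geo Cfsg.Agent.Omega.CaseL Cfsg.Agent.Omega.NO3S.Fit
open Cfsg.Agent.ZN.Block (conj_mem_of_normalizer conj_mem_of_normalizer' le_normalizer_of_forall
  mem_normalizer_of)

universe u

variable {G : Type u} [Group G]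

/-- `p = c z c⁻¹`, `c ∈ cf x`, is a point collinear with `x`, in `D_x - V` -/
structure Far (V : Subgroup G) (z : G) (cf : G → Subgroup G) (x c : G) : Prop where
  mem : c ∈ cf x
  cent : c * z * c⁻¹ ∈ kk V cf z
  nmem : c * z * c⁻¹ ∉ V

/-- `g` acts trivially on `N_z = x̄^⊥ / (⟨x̄⟩ + Rad)` -/
def Tri {V : Subgroup G} {z : G} {cf : G → Subgroup G} {M H : Type u} [AddCommGroup M] [Group H]
    [DistribMulAction H M] (R : MRep V cf z M H) (B : M → M → ZMod 2) (x g : G) : Prop :=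
  ∀ m, B m (R.pi x) = 0 → ∃ ρ, Rd B ρ ∧ (R.phi g • m = m + ρ ∨ R.phi g • m = m + R.pi x + ρ)

/-- the family with the form at the base point `z` -/
structure Loc (T V : Subgroup G) (z : G) (cf : G → Subgroup G) {M H : Type u} [AddCommGroup M] [Group H]
    [DistribMulAction H M] (R : MRep V cf z M H) (TT : Set M) (B : M → M → ZMod 2) : Prop where
  fam : Fam T V z cf
  jj : jj V cf = V
  sys : Sys TT B
  inj : Inj TT B
  map : ∀ h : H, ∀ v ∈ TT, h • v ∈ TT
  form : ∀ (h : H) (a b : M), B (h • a) (h • b) = B a b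
  mem : ∀ x ∈ V, x ≠ 1 → x ≠ z → R.pi x ∈ TT
  perp : ∀ x ∈ V, x ≠ 1 → x ≠ z → ∀ w ∈ ww V cf z, B (R.pi w) (R.pi x) = 0 ↔ w ∈ kk V cf x

namespace Loc

variable {T V : Subgroup G} {z : G} {cf : G → Subgroup G} {M H : Type u} [AddCommGroup M] [Group H]
  [DistribMulAction H M] {R : MRep V cf z M H} {TT : Set M} {B : M → M → ZMod 2} {x c d : G}

section geo

variable (L : Loc T V z cf R TT B) (hx : x ∈ V) (hx1 : x ≠ 1) (hxz : x ≠ z)
include L hx hx1 hxz

/-- an element of `cf x` which fixes `z` is in `C_G(V)` -/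
theorem cent_of (hc : c ∈ cf x) (h : c * z * c⁻¹ = z) : c ∈ centralizer (V : Set G) :=
  L.fam.mem_centralizer_of hx hx1 L.fam.ln.z_mem L.fam.ln.z_ne (Ne.symm hxz) (L.fam.cf_comm hx hx1 hc)
    (comm_of_conj_eq h)

/-- `W_p` depends only on `p` -/
theorem cj_eq (hc : c ∈ cf x) (hd : d ∈ cf x) (h : d * z * d⁻¹ = c * z * c⁻¹) :
    cj d (ww V cf z) = cj c (ww V cf z) := by
  have h1 : c⁻¹ * d ∈ centralizer (V : Set G) := by
    refine L.cent_of hx hx1 hxz (mul_mem (inv_mem hc) hd) ?_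
    calc c⁻¹ * d * z * (c⁻¹ * d)⁻¹ = c⁻¹ * (d * z * d⁻¹) * c := by group
      _ = c⁻¹ * (c * z * c⁻¹) * c := by rw [h]
      _ = z := by group
  have h2 : cj (c⁻¹ * d) (ww V cf z) = ww V cf z :=
    cj_eq_of_mem_normalizer (L.fam.cent_norm L.fam.ln.z_mem L.fam.ln.z_ne h1)
  have h3 : cj d (ww V cf z) = cj c (cj (c⁻¹ * d) (ww V cf z)) := by rw [cj_cj, mul_inv_cancel_left]
  rw [h3, h2]

/-- `x ∈ W_p` -/
theorem x_mem (hc : c ∈ cf x) : x ∈ cj c (ww V cf z) := by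
  rw [mem_cj]
  have : c⁻¹ * x * c = x := by
    have := L.fam.cf_comm hx hx1 hc
    rw [mul_assoc, ← this]; group
  rw [this]
  exact L.fam.V_le hx

/-- `p ∈ W_p` -/
theorem p_mem : c * z * c⁻¹ ∈ cj c (ww V cf z) := conj_mem_cj L.fam.z_mem_ww

/-- `W_z` centralises `x` and `p`: it is in the conjugate of `C_G(V)` -/
theorem cent_w (hF : Far V z cf x c) {w : G} (hw : w ∈ ww V cf z) : c⁻¹ * w * c ∈ centralizer (V : Set G) := by
  have hz := L.fam.ln.z_mem
  have hz1 := L.fam.ln.z_ne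
  have hcx := L.fam.cf_comm hx hx1 hF.mem
  have hwx : x * w = w * x := L.fam.V_comm hx (L.fam.ww_le_cent hz hz1 hw)
  have hwp := mem_centralizer_iff.mp hF.cent w hw
  refine L.fam.mem_centralizer_of hx hx1 hz hz1 (Ne.symm hxz) ?_ ?_
  · calc c⁻¹ * w * c * x = c⁻¹ * w * (c * x) := by group
      _ = c⁻¹ * w * (x * c) := by rw [hcx]
      _ = c⁻¹ * (w * x) * c := by group
      _ = c⁻¹ * (x * w) * c := by rw [hwx]
      _ = c⁻¹ * x * c * (c⁻¹ * w * c) := by group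
      _ = c⁻¹ * (x * c) * (c⁻¹ * w * c) := by group
      _ = c⁻¹ * (c * x) * (c⁻¹ * w * c) := by rw [hcx]
      _ = x * (c⁻¹ * w * c) := by group
  · calc c⁻¹ * w * c * z = c⁻¹ * (w * (c * z * c⁻¹)) * c := by group
      _ = c⁻¹ * (c * z * c⁻¹ * w) * c := by rw [hwp]
      _ = z * (c⁻¹ * w * c) := by group

/-- `W_z` normalises `W_p` -/
theorem norm_w (hF : Far V z cf x c) {w a : G} (hw : w ∈ ww V cf z) (ha : a ∈ cj c (ww V cf z)) :
    w * a * w⁻¹ ∈ cj c (ww V cf z) := by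
  have h1 := L.cent_w hx hx1 hxz hF hw
  rw [mem_cj] at ha ⊢
  have h2 := conj_mem_of_normalizer (L.fam.cent_norm L.fam.ln.z_mem L.fam.ln.z_ne) h1 ha
  have e : c⁻¹ * w * c * (c⁻¹ * a * c) * (c⁻¹ * w * c)⁻¹ = c⁻¹ * (w * a * w⁻¹) * c := by group
  rwa [e] at h2

/-- `V ∩ W_p = ⟨x⟩` -/
theorem inf_V (hF : Far V z cf x c) {v : G} (hv : v ∈ V) (hvp : v ∈ cj c (ww V cf z)) : v = 1 ∨ v = x := by
  have hz := L.fam.ln.z_mem
  have hz1 := L.fam.ln.z_ne
  have hcx := L.fam.cf_comm hx hx1 hF.mem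
  have hvx : v ∈ ww V cf x := L.fam.V_le hv
  rw [mem_cj] at hvp
  have h1 : c⁻¹ * v * c ∈ ww V cf x := conj_mem_of_normalizer' L.fam.cf_norm hF.mem hvx
  have h2 : c⁻¹ * v * c ∈ V := by
    have := L.fam.mem_jj hx hx1 hz hz1 (Ne.symm hxz) h1 hvp
    rwa [L.jj] at this
  -- `v = c u c⁻¹`, `u ∈ V`
  have hcxx : c * x * c⁻¹ = x := conj_eq_of_comm hcx
  have e : v = c * (c⁻¹ * v * c) * c⁻¹ := by group
  have hpV := hF.nmem
  rcases L.fam.ln.four hx hz hx1 hz1 hxz h2 with e1 | e1 | e1 | e1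
  · left; rw [e, e1]; group
  · right; rw [e, e1, hcxx]
  · exfalso
    rw [e1] at e
    exact hpV (by rw [← e]; exact hv)
  · exfalso
    rw [e1] at e
    have e2 : c * (x * z) * c⁻¹ = (c * x * c⁻¹) * (c * z * c⁻¹) := by group
    rw [e2, hcxx] at e
    apply hpV
    have : c * z * c⁻¹ = x * v := by
      rw [e, ← mul_assoc, L.fam.ln.sq x hx, one_mul]
    rw [this]
    exact mul_mem hx hv

/-- commutators of `W_z` and `D_p(x)` are in `W_z ∩ W_p` -/
theorem comm_J (hF : Far V z cf x c) {n w : G} (hn : n ∈ cj c (ww V cf z))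
    (hnV : n ∈ centralizer (V : Set G)) (hw : w ∈ ww V cf z) :
    n * w * n⁻¹ * w⁻¹ ∈ ww V cf z ∧ n * w * n⁻¹ * w⁻¹ ∈ cj c (ww V cf z) := by
  have hz := L.fam.ln.z_mem
  have hz1 := L.fam.ln.z_ne
  constructor
  · exact mul_mem (conj_mem_of_normalizer (L.fam.cent_norm hz hz1) hnV hw) (inv_mem hw)
  · have e : n * w * n⁻¹ * w⁻¹ = n * (w * n⁻¹ * w⁻¹) := by group
    rw [e]
    exact mul_mem hn (L.norm_w hx hx1 hxz hF hw (inv_mem hn))

omit hx hx1 hxz in
/-- the action of `n ∈ C_G(V)` -/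
theorem phi_pi {n w : G} (hn : n ∈ centralizer (V : Set G)) (hw : w ∈ ww V cf z) :
    R.phi n • R.pi w + R.pi w = R.pi (n * w * n⁻¹ * w⁻¹) := by
  have h1 := R.comm_eq L.fam (L.fam.cent_le_cf L.fam.ln.z_mem L.fam.ln.z_ne hn) hw
  rw [← h1, L.sys.sub_eq]

/-- the module situation (3.6) for `n` -/
theorem hact {n : G} (hn : n ∈ centralizer (V : Set G)) (ht : Tri R B x n) :
    ∃ t, HAct TT B (R.pi x) t (DistribSMul.toAddMonoidHom M (R.phi n)) := by
  have hv := L.mem x hx hx1 hxz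
  obtain ⟨t, ht1, ht2⟩ := L.sys.exists_nd hv
  refine ⟨t, ?_⟩
  exact
    { sys := L.sys
      inj := L.inj
      v_mem := hv
      t_mem := ht1
      tv := by rw [L.sys.symm]; exact ht2
      iso := fun a b => L.form _ a b
      map := fun a ha => L.map _ a ha
      hv := by
        change R.phi n • R.pi x = R.pi x
        rw [R.act n (L.fam.cent_le_cf L.fam.ln.z_mem L.fam.ln.z_ne hn) x (L.fam.V_le hx),
          conj_eq_of_comm (L.fam.V_comm hx hn).symm]
      tri := ht }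

omit hx1 hxz in
theorem mem_V_of_pi {e : G} (he : e ∈ ww V cf z) (h : R.pi e = 0 ∨ R.pi e = R.pi x) : e ∈ V := by
  have hz := L.fam.ln.z_mem
  rcases h with h | h
  · rcases (R.pi_ker e he).mp h with h | h
    · rw [h]; exact one_mem _
    · rw [h]; exact hz
  · rcases (R.pi_eq L.fam he (L.fam.V_le hx)).mp h with h | h
    · rw [h]; exact hx
    · rw [h]; exact mul_mem hz hx

theorem eq_of_pi (hF : Far V z cf x c) {e : G} (he : e ∈ ww V cf z) (hep : e ∈ cj c (ww V cf z))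
    (h : R.pi e = 0 ∨ R.pi e = R.pi x) : e = 1 ∨ e = x :=
  L.inf_V hx hx1 hxz hF (L.mem_V_of_pi hx he h) hep

/-- **Section 4, first half**: `[W_z, D_p(x)] ≤ ⟨x⟩` -/
theorem four_one (np : ∀ a ∈ TT, ∀ b ∈ TT, ¬ Sys.Planar TT B a b) (hF : Far V z cf x c) {n w : G}
    (hn : n ∈ cj c (ww V cf z)) (hnk : n ∈ kk V cf x) (ht : Tri R B x n) (hw : w ∈ ww V cf z) :
    n * w * n⁻¹ * w⁻¹ = 1 ∨ n * w * n⁻¹ * w⁻¹ = x := by
  have hnV := L.fam.kk_le_cent hnk
  obtain ⟨t, ha⟩ := L.hact hx hx1 hxz hnV ht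
  have h1 := (ha.four np).2 (R.pi w)
  have h2 := L.comm_J hx hx1 hxz hF hn hnV hw
  refine L.eq_of_pi hx hx1 hxz hF h2.1 h2.2 ?_
  rw [← L.phi_pi hnV hw]
  exact h1

end geo

/-- `d` interchanges `z` and `p = c z c⁻¹` -/
structure Sw (z : G) (cf : G → Subgroup G) (x c d : G) : Prop where
  mem : d ∈ cf x
  one : d * z * d⁻¹ = c * z * c⁻¹
  two : d * (c * z * c⁻¹) * d⁻¹ = z

section swap

variable (L : Loc T V z cf R TT B) (hx : x ∈ V) (hx1 : x ≠ 1) (hxz : x ≠ z) (hF : Far V z cf x c)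
  (hS : Sw z cf x c d)
include L hx hx1 hxz hF hS

theorem sw_one : cj d (ww V cf z) = cj c (ww V cf z) := L.cj_eq hx hx1 hxz hF.mem hS.mem hS.one

theorem sw_two : cj d (cj c (ww V cf z)) = ww V cf z := by
  have h1 : d * c ∈ centralizer (V : Set G) := by
    refine L.cent_of hx hx1 hxz (mul_mem hS.mem hF.mem) ?_
    have := hS.two
    calc d * c * z * (d * c)⁻¹ = d * (c * z * c⁻¹) * d⁻¹ := by group
      _ = z := this
  rw [cj_cj]
  exact cj_eq_of_mem_normalizer (L.fam.cent_norm L.fam.ln.z_mem L.fam.ln.z_ne h1)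

theorem conj_one {w : G} (hw : w ∈ ww V cf z) : d * w * d⁻¹ ∈ cj c (ww V cf z) := by
  rw [← L.sw_one hx hx1 hxz hF hS]; exact conj_mem_cj hw

theorem conj_two {w : G} (hw : w ∈ cj c (ww V cf z)) : d * w * d⁻¹ ∈ ww V cf z := by
  have := conj_mem_cj (g := d) hw
  rwa [L.sw_two hx hx1 hxz hF hS] at this

theorem conj_kk {w : G} (hw : w ∈ kk V cf x) : d * w * d⁻¹ ∈ kk V cf x :=
  conj_mem_of_normalizer L.fam.cf_norm_kk hS.mem hw

theorem conj_x : d * x * d⁻¹ = x := conj_eq_of_comm (L.fam.cf_comm hx hx1 hS.mem)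

/-- `W_p ≤ C_G(V)` -/
theorem wp_cent {w : G} (hw : w ∈ cj c (ww V cf z)) : w ∈ centralizer (V : Set G) := by
  have hz := L.fam.ln.z_mem
  have hz1 := L.fam.ln.z_ne
  have h1 := L.conj_two hx hx1 hxz hF hS hw
  have h2 := mem_centralizer_iff.mp hF.cent _ h1
  have h3 : x * (d * w * d⁻¹) = (d * w * d⁻¹) * x := L.fam.V_comm hx (L.fam.ww_le_cent hz hz1 h1)
  have hdx := L.fam.cf_comm hx hx1 hS.mem
  refine L.fam.mem_centralizer_of hx hx1 hz hz1 (Ne.symm hxz) ?_ ?_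
  · calc w * x = d⁻¹ * ((d * w * d⁻¹) * (d * x)) := by group
      _ = d⁻¹ * ((d * w * d⁻¹) * (x * d)) := by rw [hdx]
      _ = d⁻¹ * ((d * w * d⁻¹) * x * d) := by group
      _ = d⁻¹ * (x * (d * w * d⁻¹) * d) := by rw [h3]
      _ = d⁻¹ * (x * d) * w := by group
      _ = d⁻¹ * (d * x) * w := by rw [hdx]
      _ = x * w := by group
  · have e := hS.one
    calc w * z = d⁻¹ * ((d * w * d⁻¹) * (d * z * d⁻¹)) * d := by group
      _ = d⁻¹ * ((d * w * d⁻¹) * (c * z * c⁻¹)) * d := by rw [e]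
      _ = d⁻¹ * ((c * z * c⁻¹) * (d * w * d⁻¹)) * d := by rw [← h2]
      _ = d⁻¹ * ((d * z * d⁻¹) * (d * w * d⁻¹)) * d := by rw [e]
      _ = z * w := by group

/-- **Section 4, second half**: `[W_p, D_z] ≤ ⟨x⟩` -/
theorem four_two (np : ∀ a ∈ TT, ∀ b ∈ TT, ¬ Sys.Planar TT B a b)
    (ht : ∀ n ∈ cj c (ww V cf z), n ∈ kk V cf x → Tri R B x n) {w m : G} (hw : w ∈ cj c (ww V cf z))
    (hm : m ∈ ww V cf z) (hmk : m ∈ kk V cf x) : w * m * w⁻¹ * m⁻¹ = 1 ∨ w * m * w⁻¹ * m⁻¹ = x := by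
  have h1 := L.conj_one hx hx1 hxz hF hS hm
  have h2 := L.conj_kk hx hx1 hxz hF hS hmk
  have h3 := L.conj_two hx hx1 hxz hF hS hw
  have hdx := L.conj_x hx hx1 hxz hF hS
  have h4 := L.four_one hx hx1 hxz np hF h1 h2 (ht _ h1 h2) h3
  have e : w * m * w⁻¹ * m⁻¹ = d⁻¹ * (d * m * d⁻¹ * (d * w * d⁻¹) * (d * m * d⁻¹)⁻¹ * (d * w * d⁻¹)⁻¹)⁻¹ * d := by
    group
  rcases h4 with h4 | h4
  · left; rw [e, h4]; group
  · right
    rw [e, h4, L.fam.ln.inv_eq hx]
    calc d⁻¹ * x * d = d⁻¹ * (d * x * d⁻¹) * d := by rw [hdx]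
      _ = x := by group

/-- `W_p` is trivial on `N_z` -/
theorem tri_four (np : ∀ a ∈ TT, ∀ b ∈ TT, ¬ Sys.Planar TT B a b)
    (ht : ∀ n ∈ cj c (ww V cf z), n ∈ kk V cf x → Tri R B x n) {w : G} (hw : w ∈ cj c (ww V cf z)) :
    Tri R B x w := by
  intro m hm
  obtain ⟨a, ha, rfl⟩ := R.pi_surj m
  have hak := (L.perp x hx hx1 hxz a ha).mp hm
  have hwV := L.wp_cent hx hx1 hxz hF hS hw
  refine ⟨0, fun b => L.sys.zero_right b, ?_⟩
  have h1 := L.phi_pi hwV ha
  rw [add_zero, add_zero]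
  have h3 : R.phi w • R.pi a = R.pi a + R.pi (w * a * w⁻¹ * a⁻¹) := by
    rw [← h1, add_comm, L.sys.add_cancel']
  rcases L.four_two hx hx1 hxz hF hS np ht hw ha hak with h2 | h2
  · left; rw [h3, h2, R.pi_one L.fam, add_zero]
  · right; rw [h3, h2]

end swap

/-- **Section 4.** There is a planar pair. -/
theorem exists_planar (L : Loc T V z cf R TT B) (hx : x ∈ V) (hx1 : x ≠ 1) (hxz : x ≠ z)
    (swap : ∀ c, Far V z cf x c → ∃ d, Sw z cf x c d)
    (tri : ∀ c, Far V z cf x c → ∀ n ∈ cj c (ww V cf z), n ∈ kk V cf x → Tri R B x n)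
    (ntri : ∃ c, Far V z cf x c ∧ ∃ w ∈ cj c (ww V cf z), ¬ Tri R B x w) :
    ∃ a ∈ TT, ∃ b ∈ TT, Sys.Planar TT B a b := by
  by_contra hcon
  push Not at hcon
  obtain ⟨c, hF, w, hw, hwt⟩ := ntri
  obtain ⟨d, hS⟩ := swap c hF
  exact hwt (L.tri_four hx hx1 hxz hF hS hcon (tri c hF) hw)

end Loc

end Cfsg.Agent.Omega.NO3S.TV

end

section


/-!
# NO-3S, `q = 2`, `n = 1`, transvection types (helper311's text #16747): the module part of (3.4), (3.5)

`Sys TT B` on the finite module `M` of `H`; `HS` : `H` preserves `TT` and `B` and contains the transvections with centres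
in `TT`.

* `Sys.triv` : **(3.4)** a 2-subgroup `O` of `Stab(v)` normalized by `Stab(v)` is trivial on `v^⊥ / (⟨v⟩ + Rad)`;
* `Sys.odd_eq_one` : **(3.5)** an element of odd order of `Stab(v)` which is trivial on `v^⊥ / (⟨v⟩ + Rad)` is `1`.
-/

set_option autoImplicit false

namespace Cfsg.Agent.Omega.NO3S.TV

variable {M : Type*} [AddCommGroup M]

section fixed

variable {P : Type*} [Group P] [DistribMulAction P M]

/-- a 2-group fixes a nonzero vector of `L/K` -/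
theorem exists_fixed_mod [Finite M] (hP : IsPGroup 2 P) (two : ∀ m : M, m + m = 0) {K L : AddSubgroup M}
    (hK : ∀ (g : P), ∀ m ∈ K, g • m ∈ K) (hL : ∀ (g : P), ∀ m ∈ L, g • m ∈ L) (hne : ∃ m ∈ L, m ∉ K) :
    ∃ m ∈ L, m ∉ K ∧ ∀ g : P, g • m + m ∈ K := by
  classical
  have hneg : ∀ m : M, -m = m := fun m => neg_eq_of_add_eq_zero_left (two m)
  -- `P` acts on the cosets
  let X : Type _ := {m : M // m ∈ L}
  let s : Setoid X := ⟨fun a b => (a : M) + b ∈ K, ⟨fun a => by rw [two]; exact zero_mem _,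
    fun {a b} h => by rw [add_comm]; exact h, fun {a b c} h1 h2 => by
      have : (a : M) + c = (a + b) + (b + c) := by
        calc (a : M) + c = a + (b + b) + c := by rw [two, add_zero]
          _ = (a + b) + (b + c) := by abel
      rw [this]; exact add_mem h1 h2⟩⟩
  let Q := Quotient s
  let iA : MulAction P Q :=
    { smul := fun g => Quotient.map (fun a : X => (⟨g • (a : M), hL g a a.2⟩ : X)) (fun a b hab => by
        change g • (a : M) + g • (b : M) ∈ K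
        rw [← smul_add]; exact hK g _ hab)
      one_smul := fun q => by
        induction q using Quotient.inductionOn with
        | h a =>
          refine Quotient.sound ?_
          change (1 : P) • (a : M) + a ∈ K
          rw [one_smul, two]; exact zero_mem _
      mul_smul := fun g g' q => by
        induction q using Quotient.inductionOn with
        | h a =>
          refine Quotient.sound ?_
          change (g * g') • (a : M) + g • (g' • (a : M)) ∈ K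
          rw [mul_smul, two]; exact zero_mem _ }
  have hfQ : Finite Q := inferInstance
  let e0 : Q := Quotient.mk s ⟨0, zero_mem _⟩
  have h0 : e0 ∈ MulAction.fixedPoints P Q := by
    intro g
    refine Quotient.sound ?_
    change g • (0 : M) + 0 ∈ K
    rw [smul_zero, add_zero]; exact zero_mem _
  -- the number of cosets is even
  have hcard : 2 ∣ Nat.card Q := by
    have e1 : Nonempty (Q ≃ L ⧸ K.addSubgroupOf L) := by
      refine ⟨Quotient.congr (Equiv.refl _) fun a b => ?_⟩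
      change (a : M) + b ∈ K ↔ QuotientAddGroup.leftRel _ a b
      rw [QuotientAddGroup.leftRel_apply, AddSubgroup.mem_addSubgroupOf]
      change _ ↔ -(a : M) + b ∈ K
      rw [hneg]
    obtain ⟨e1⟩ := e1
    rw [Nat.card_congr e1]
    obtain ⟨m, hm, hmK⟩ := hne
    have h2 : addOrderOf (QuotientAddGroup.mk (⟨m, hm⟩ : L) : L ⧸ K.addSubgroupOf L) = 2 := by
      refine addOrderOf_eq_prime ?_ ?_
      · change QuotientAddGroup.mk ((2 : ℕ) • (⟨m, hm⟩ : L)) = 0
        have : (2 : ℕ) • (⟨m, hm⟩ : L) = 0 := by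
          rw [two_nsmul]
          exact Subtype.ext (two m)
        rw [this]; rfl
      · intro e
        rw [QuotientAddGroup.eq_zero_iff, AddSubgroup.mem_addSubgroupOf] at e
        exact hmK e
    rw [← h2]
    exact addOrderOf_dvd_natCard _
  obtain ⟨q, hq, hq0⟩ := hP.exists_fixed_point_of_prime_dvd_card_of_fixed_point Q hcard h0
  induction q using Quotient.inductionOn with
  | h a =>
    refine ⟨a, a.2, fun h => hq0 (Quotient.sound ?_), fun g => ?_⟩
    · change (0 : M) + a ∈ K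
      rwa [zero_add]
    · exact Quotient.exact (hq g)

end fixed

namespace Sys

variable {TT : Set M} {B : M → M → ZMod 2}

/-- `⟨v⟩ + Rad` -/
def kv (S : Sys TT B) (v : M) : AddSubgroup M where
  carrier := {m | Rd B m ∨ Rd B (m + v)}
  add_mem' {a b} ha hb := by
    change Rd B a ∨ Rd B (a + v) at ha
    change Rd B b ∨ Rd B (b + v) at hb
    change Rd B (a + b) ∨ Rd B (a + b + v)
    rcases ha with ha | ha <;> rcases hb with hb | hb
    · exact Or.inl (S.rd_add ha hb)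
    · right; rw [add_assoc]; exact S.rd_add ha hb
    · right
      have : a + b + v = a + v + b := by abel
      rw [this]; exact S.rd_add ha hb
    · left
      have := S.rd_add ha hb
      have e : a + v + (b + v) = a + b := by
        calc a + v + (b + v) = a + b + (v + v) := by abel
          _ = a + b := by rw [S.two, add_zero]
      rwa [e] at this
  zero_mem' := Or.inl fun a => S.zero_right a
  neg_mem' {a} ha := by
    change Rd B a ∨ Rd B (a + v) at ha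
    change Rd B (-a) ∨ Rd B (-a + v)
    rwa [S.neg_eq]

theorem mem_kv (S : Sys TT B) {v m : M} : m ∈ S.kv v ↔ Rd B m ∨ Rd B (m + v) := Iff.rfl

theorem mem_pp (S : Sys TT B) {v m : M} : m ∈ S.pp v ↔ B m v = 0 := Iff.rfl

/-- `⟨v⟩ + Rad` is perpendicular to `v^⊥` -/
theorem kv_perp (S : Sys TT B) {v m n : M} (hm : m ∈ S.kv v) (hn : B n v = 0) : B n m = 0 := by
  rcases hm with h | h
  · exact h n
  · have := h n
    rwa [S.add_right, hn, add_zero] at this

theorem kv_le_pp (S : Sys TT B) (v : M) : S.kv v ≤ S.pp v := fun m hm => by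
  rw [S.mem_pp, S.symm]
  exact S.kv_perp hm (S.alt v)

/-- the form of the statement in `HAct.tri` -/
theorem tri_of (S : Sys TT B) {v m m' : M} (h : m' + m ∈ S.kv v) :
    ∃ ρ, Rd B ρ ∧ (m' = m + ρ ∨ m' = m + v + ρ) := by
  rcases h with h | h
  · exact ⟨m' + m, h, Or.inl (by rw [add_comm m', S.add_cancel])⟩
  · refine ⟨m' + m + v, h, Or.inr ?_⟩
    calc m' = m' + (m + m) + (v + v) := by rw [S.two, S.two, add_zero, add_zero]
      _ = m + v + (m' + m + v) := by abel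

theorem of_tri (S : Sys TT B) {v m m' : M} (h : ∃ ρ, Rd B ρ ∧ (m' = m + ρ ∨ m' = m + v + ρ)) :
    m' + m ∈ S.kv v := by
  obtain ⟨ρ, hρ, e | e⟩ := h
  · left
    rw [e]
    have : m + ρ + m = ρ := by rw [add_comm, S.add_cancel]
    rwa [this]
  · right
    rw [e]
    have : m + v + ρ + m + v = ρ := by
      calc m + v + ρ + m + v = (m + m) + (v + v) + ρ := by abel
        _ = ρ := by rw [S.two, S.two, add_zero, zero_add]
    rwa [this]

section act

variable {H : Type*} [Group H] [DistribMulAction H M]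

theorem _root_.Cfsg.Agent.Omega.NO3S.TV.Act.rd (A : Act TT B H) (h : H) {m : M} (hm : Rd B m) : Rd B (h • m) := by
  intro a
  have := A.form h (h⁻¹ • a) m
  rw [smul_inv_smul] at this
  rw [this]
  exact hm _

theorem smul_kv (S : Sys TT B) (A : Act TT B H) {v : M} {h : H} (hv : h • v = v) {m : M} (hm : m ∈ S.kv v) :
    h • m ∈ S.kv v := by
  rcases hm with e | e
  · exact Or.inl (A.rd h e)
  · right
    have := A.rd h e
    rwa [smul_add, hv] at this

theorem smul_pp (S : Sys TT B) (A : Act TT B H) {v : M} {h : H} (hv : h • v = v) {m : M} (hm : m ∈ S.pp v) :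
    h • m ∈ S.pp v := by
  rw [S.mem_pp] at hm ⊢
  have := A.form h m v
  rwa [hv, hm] at this

/-- **(3.4)** -/
theorem triv [Finite M] (S : Sys TT B) (A : Act TT B H) {v : M} (hv : v ∈ TT) {O : Subgroup H} (hO : IsPGroup 2 O)
    (hOv : ∀ g ∈ O, g • v = v) (hn : ∀ h : H, h • v = v → ∀ g ∈ O, h * g * h⁻¹ ∈ O) {g : H} (hg : g ∈ O) {m : M}
    (hm : B m v = 0) : ∃ ρ, Rd B ρ ∧ (g • m = m + ρ ∨ g • m = m + v + ρ) := by
  -- `C_0`
  let C0 : AddSubgroup M :=
    { carrier := {m | B m v = 0 ∧ ∀ g ∈ O, g • m + m ∈ S.kv v}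
      add_mem' := by
        rintro a b ⟨ha, ha1⟩ ⟨hb, hb1⟩
        refine ⟨by rw [S.add_left, ha, hb, add_zero], fun g hg => ?_⟩
        have : g • (a + b) + (a + b) = (g • a + a) + (g • b + b) := by rw [smul_add]; abel
        rw [this]; exact add_mem (ha1 g hg) (hb1 g hg)
      zero_mem' := ⟨S.zero_left v, fun g _ => by rw [smul_zero, add_zero]; exact zero_mem _⟩
      neg_mem' := by
        rintro a ⟨ha, ha1⟩
        rw [S.neg_eq]
        exact ⟨ha, ha1⟩ }
  have hC0 : ∀ m, m ∈ C0 ↔ B m v = 0 ∧ ∀ g ∈ O, g • m + m ∈ S.kv v := fun _ => Iff.rfl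
  have hKC : S.kv v ≤ C0 := fun m hm => ⟨S.kv_le_pp v hm, fun g hg => add_mem (S.smul_kv A (hOv g hg) hm) hm⟩
  have hCinv : ∀ h : H, h • v = v → ∀ m ∈ C0, h • m ∈ C0 := by
    rintro h hhv m ⟨hm, hm1⟩
    refine ⟨S.smul_pp A hhv hm, fun g hg => ?_⟩
    have h1 := hn h⁻¹ (by rw [inv_smul_eq_iff, hhv]) g hg
    have h2 := S.smul_kv A hhv (hm1 _ h1)
    have e : h • ((h⁻¹ * g * h⁻¹⁻¹) • m + m) = g • h • m + h • m := by
      rw [smul_add, ← mul_smul, ← mul_smul]
      congr 2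
      group
    rwa [e] at h2
  have hC2 : ∀ n ∈ C0, ∀ μ ∈ TT, B μ v = 0 → μ ∉ C0 → B n μ = 0 := by
    intro n hn μ hμ hμv hμC
    refine z2_ne' fun e => hμC ?_
    obtain ⟨a, ha⟩ := A.tv μ hμ
    have h1 : a • v = v := (ha v).1 (by rw [S.symm]; exact hμv)
    have h2 := hCinv a h1 n hn
    rw [(ha n).2 e] at h2
    have := add_mem hn h2
    rwa [S.add_cancel] at this
  -- all `μ ∈ TT ∩ v^⊥` are in `C_0`
  have key : ∀ μ ∈ TT, B μ v = 0 → μ ∈ C0 := by
    by_contra hcon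
    push Not at hcon
    obtain ⟨μ0, hμ0, hμ0v, hμ0C⟩ := hcon
    set E : Set M := {μ | μ ∈ TT ∧ B μ v = 0 ∧ μ ∉ C0} with hE
    set L := AddSubgroup.closure E ⊔ S.kv v with hL
    have hEL : ∀ μ ∈ E, μ ∈ L := fun μ hμ => (le_sup_left : AddSubgroup.closure E ≤ L) (AddSubgroup.subset_closure hμ)
    have hLP : L ≤ S.pp v := sup_le ((AddSubgroup.closure_le _).mpr fun μ hμ => hμ.2.1) (S.kv_le_pp v)
    have hE2 : ∀ g ∈ O, ∀ μ ∈ E, g • μ ∈ E := by
      rintro g hg μ ⟨h1, h2, h3⟩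
      refine ⟨A.smul_mem g μ h1, S.smul_pp A (hOv g hg) h2, fun h4 => h3 ?_⟩
      have := hCinv g⁻¹ (by rw [inv_smul_eq_iff, hOv g hg]) _ h4
      rwa [inv_smul_smul] at this
    have hLO : ∀ (g : O), ∀ m ∈ L, g • m ∈ L := by
      rintro ⟨g, hg⟩ m hm
      change g • m ∈ L
      have h1 : L ≤ L.comap (DistribSMul.toAddMonoidHom M g) := by
        refine sup_le ((AddSubgroup.closure_le _).mpr fun μ hμ => ?_) fun m hm => ?_
        · exact hEL _ (hE2 g hg μ hμ)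
        · exact (le_sup_right : S.kv v ≤ L) (S.smul_kv A (hOv g hg) hm)
      exact h1 hm
    obtain ⟨m, hmL, hmK, hfix⟩ := exists_fixed_mod hO S.two (K := S.kv v) (L := L)
      (fun g m hm => S.smul_kv A (hOv g g.2) hm) hLO ⟨μ0, hEL μ0 ⟨hμ0, hμ0v, hμ0C⟩, fun h => hμ0C (hKC h)⟩
    have hmC : m ∈ C0 := ⟨hLP hmL, fun g hg => hfix ⟨g, hg⟩⟩
    -- `C_0 ⊥ L`
    have hCL : ∀ n ∈ C0, ∀ l ∈ L, B n l = 0 := by
      intro n hn l hl
      have h1 : L ≤ S.pp n := by
        refine sup_le ((AddSubgroup.closure_le _).mpr fun μ hμ => ?_) fun m hm => ?_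
        · change B μ n = 0
          rw [S.symm]
          exact hC2 n hn μ hμ.1 hμ.2.1 hμ.2.2
        · rw [S.mem_pp, S.symm]
          exact S.kv_perp hm hn.1
      have := h1 hl
      rw [S.mem_pp, S.symm] at this
      exact this
    have h1 : ∀ n, B n v = 0 → B n m = 0 := by
      intro n hn
      have h2 : AddSubgroup.closure {t | t ∈ TT ∧ B t v = 0} ≤ S.pp m := by
        refine (AddSubgroup.closure_le _).mpr fun μ hμ => ?_
        change B μ m = 0
        by_cases hμC : μ ∈ C0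
        · exact hCL μ hμC m hmL
        · rw [S.symm]
          exact hC2 m hmC μ hμ.1 hμ.2 hμC
      exact h2 (S.mem_closure hv hn)
    obtain ⟨t, -, ht1⟩ := S.exists_nd hv
    exact hmK (S.rd_of (by rw [S.symm]; exact ht1) h1)
  have hP : m ∈ C0 := by
    have h2 : AddSubgroup.closure {t | t ∈ TT ∧ B t v = 0} ≤ C0 :=
      (AddSubgroup.closure_le _).mpr fun μ hμ => key μ hμ.1 hμ.2
    exact h2 (S.mem_closure hv hm)
  exact S.tri_of (hP.2 g hg)

/-- **(3.5)** -/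
theorem odd_eq_one [FaithfulSMul H M] (S : Sys TT B) (I : Inj TT B) (A : Act TT B H) {v : M} (hv : v ∈ TT) {h : H}
    (hodd : Odd (orderOf h)) (hhv : h • v = v)
    (tri : ∀ m, B m v = 0 → ∃ ρ, Rd B ρ ∧ (h • m = m + ρ ∨ h • m = m + v + ρ)) : h = 1 := by
  -- `h² = 1` on `TT ∩ v^⊥`
  have h1 : ∀ μ ∈ TT, B μ v = 0 → h • h • μ = μ := by
    intro μ hμ hμv
    obtain ⟨ρ, hρ, e | e⟩ := tri μ hμv
    · have e1 : h • μ = μ := by
        refine S.eq_of_rd I (A.smul_mem h μ hμ) hμ ?_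
        rw [e, add_comm, S.add_cancel]; exact hρ
      rw [e1, e1]
    · refine S.eq_of_rd I (A.smul_mem h _ (A.smul_mem h μ hμ)) hμ ?_
      rw [e, smul_add, smul_add, hhv, e]
      have : μ + v + ρ + v + h • ρ + μ = ρ + h • ρ := by
        calc μ + v + ρ + v + h • ρ + μ = (μ + μ) + (v + v) + (ρ + h • ρ) := by abel
          _ = ρ + h • ρ := by rw [S.two, S.two, add_zero, zero_add]
      rw [this]
      exact S.rd_add hρ (A.rd h hρ)
  have h2 : ∀ m, B m v = 0 → h • h • m = m := by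
    intro m hm
    have h3 : AddSubgroup.closure {t | t ∈ TT ∧ B t v = 0} ≤
        ((DistribSMul.toAddMonoidHom M h).comp (DistribSMul.toAddMonoidHom M h)).eqLocus
          (AddMonoidHom.id M) :=
      (AddSubgroup.closure_le _).mpr fun a ha => h1 a ha.1 ha.2
    exact h3 (S.mem_closure hv hm)
  have h4 : h ^ 4 = 1 := by
    refine FaithfulSMul.eq_of_smul_eq_smul (α := M) fun m => ?_
    rw [one_smul]
    have e0 : h ^ 4 = h * (h * (h * h)) := by simp only [pow_succ, pow_zero, one_mul, mul_assoc]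
    rw [e0, mul_smul, mul_smul, mul_smul]
    set δ := h • m + m with hδ
    have hδv : B δ v = 0 := by
      have := A.form h m v
      rw [hhv] at this
      rw [hδ, S.add_left, this, z2_add]
    have e1 : h • m = m + δ := by rw [hδ, add_comm (h • m), S.add_cancel]
    have hδ2 : B (h • δ) v = 0 := S.smul_pp A hhv hδv
    have e2 : h • h • m = m + (δ + h • δ) := by rw [e1, smul_add, e1, add_assoc]
    rw [e2, smul_add, smul_add, e2, h2 _ (by rw [S.add_left, hδv, hδ2, add_zero]), S.add_cancel']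
  have h5 : orderOf h ∣ 4 := orderOf_dvd_of_pow_eq_one h4
  have h6 : Nat.Coprime (orderOf h) 4 := by
    have : Nat.Coprime (orderOf h) (2 ^ 2) := (Nat.coprime_two_right.mpr hodd).pow_right 2
    exact this
  have h7 : orderOf h = 1 := Nat.eq_one_of_dvd_coprimes h6 dvd_rfl h5
  exact orderOf_eq_one_iff.mp h7

end act

end Sys

end Cfsg.Agent.Omega.NO3S.TV

end

section


/-!
# NO-3S, `q = 2`, `n = 1`, transvection types (helper311's text #16747): (3.4) - (3.7)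

Base point `z` (= `y` of the text) with its module `M = W_z/⟨z⟩`, another point `x ∈ V`.

* `Loc.tri_of_two` : **(3.4)** a normal 2-subgroup of `C_G(V)` is trivial on `N_z`;
* `Loc.kk_of_odd` : **(3.5)** an element of odd order of `C_G(V)` which is trivial on `N_z` lies in `K_z`;
* `Loc.tri_far` : **(3.6)** `D_p(x)` is trivial on `N_z`;
* `Loc.exists_not_tri` : **(3.7)** some `W_p`, `p ∈ D_x - V`, is not trivial on `N_z`;
* `Loc.tri_iff` : if `K_z` is a 2-group, then `O_2(C_G(V))` is the kernel of `C_G(V)` on `N_z`.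
-/

set_option autoImplicit false
set_option linter.unusedSectionVars false

namespace Cfsg.Agent.Omega.NO3S.TV

open Subgroup Cfsg Cfsg.Agent.ZN Cfsg.Agent.MinSimple.Geo Cfsg.Agent.Omega.CaseL Cfsg.Agent.Omega.NO3S.Fit
open Cfsg.Agent.ZN.Block (conj_mem_of_normalizer conj_mem_of_normalizer' le_normalizer_of_forall
  mem_normalizer_of)

universe u

variable {G : Type u} [Group G]

/-- a finite group in which the elements of odd order are trivial is a 2-group -/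
theorem exists_pow_two_of_odd [Finite G] {L : Subgroup G} (h : ∀ l ∈ L, Odd (orderOf l) → l = 1) {l : G}
    (hl : l ∈ L) : ∃ k : ℕ, l ^ 2 ^ k = 1 := by
  obtain ⟨k, m, hm, e⟩ := Nat.exists_eq_two_pow_mul_odd (n := orderOf l) (orderOf_pos l).ne'
  refine ⟨k, h _ (pow_mem hl _) ?_⟩
  rw [orderOf_pow' l (pow_ne_zero _ two_ne_zero), e, Nat.gcd_eq_right (Dvd.intro _ rfl),
    Nat.mul_div_cancel_left _ (by positivity)]
  exact hm

namespace Loc

variable {T V : Subgroup G} {z : G} {cf : G → Subgroup G} {M H : Type u} [AddCommGroup M] [Group H]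
  [DistribMulAction H M] {R : MRep V cf z M H} {TT : Set M} {B : M → M → ZMod 2} {x c d : G}

section geo

variable [Finite G] (L : Loc T V z cf R TT B) (A : Act TT B H) (hx : x ∈ V) (hx1 : x ≠ 1) (hxz : x ≠ z)
include L A hx hx1 hxz

/-- **(3.4)** -/
theorem tri_of_two [Finite M] {O : Subgroup G} (hO : IsPGroup 2 O) (hOC : O ≤ centralizer (V : Set G))
    (hn : centralizer (V : Set G) ≤ normalizer (O : Set G)) {g : G} (hg : g ∈ O) : Tri R B x g := by
  have hz := L.fam.ln.z_mem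
  have hz1 := L.fam.ln.z_ne
  have hCc := L.fam.cent_le_cf hz hz1
  have hOc : O ≤ cf z := hOC.trans hCc
  have h1 : IsPGroup 2 (R.img O) := by
    have : IsPGroup 2 (O.subgroupOf (cf z)) := hO.comap_of_injective _ (cf z).subtype_injective
    exact this.map _
  intro m hm
  refine L.sys.triv A (L.mem x hx hx1 hxz) h1 ?_ ?_ ((R.mem_img hOc).mpr ⟨g, hg, rfl⟩) hm
  · intro k hk
    obtain ⟨o, ho, rfl⟩ := (R.mem_img hOc).mp hk
    exact R.cent_v0 L.fam hx (hOC ho)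
  · intro k hk o' ho'
    obtain ⟨o, ho, rfl⟩ := (R.mem_img hOc).mp ho'
    obtain ⟨e, he, rfl⟩ := R.stab L.fam hx hx1 hxz hk
    refine (R.mem_img hOc).mpr ⟨e * o * e⁻¹, conj_mem_of_normalizer hn he ho, ?_⟩
    rw [R.phi_mul _ (mul_mem (hCc he) (hOc ho)) _ (inv_mem (hCc he)), R.phi_mul _ (hCc he) _ (hOc ho),
      R.phi_inv (hCc he)]

/-- **(3.5)** -/
theorem kk_of_odd [FaithfulSMul H M] {g : G} (hg : g ∈ centralizer (V : Set G)) (hodd : Odd (orderOf g))
    (ht : Tri R B x g) : g ∈ kk V cf z := by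
  have hz := L.fam.ln.z_mem
  have hz1 := L.fam.ln.z_ne
  have hgc := L.fam.cent_le_cf hz hz1 hg
  have h1 : Odd (orderOf (R.phi g)) := by
    have h2 : orderOf (R.hom ⟨g, hgc⟩) ∣ orderOf (⟨g, hgc⟩ : cf z) := orderOf_map_dvd _ _
    rw [orderOf_mk] at h2
    exact Odd.of_dvd_nat hodd h2
  have h2 : R.phi g = 1 := L.sys.odd_eq_one L.inj A (L.mem x hx hx1 hxz) h1 (R.cent_v0 L.fam hx hg) ht
  have h3 := (R.phi_ker g hgc).mp h2
  rw [mem_centralizer_iff]
  intro w hw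
  have hgz := L.fam.cf_comm hz hz1 hgc
  have h4 : g ^ 2 * w * (g ^ 2)⁻¹ = w := by
    have e0 : g ^ 2 * w * (g ^ 2)⁻¹ = g * (g * w * g⁻¹) * g⁻¹ := by rw [pow_two]; group
    rw [e0]
    rcases L.fam.qq_cases hz h3 hw with e | e
    · rw [e, e]
    · rw [e]
      calc g * (z * w) * g⁻¹ = (g * z) * w * g⁻¹ := by group
        _ = z * (g * w * g⁻¹) := by rw [hgz]; group
        _ = z * z * w := by rw [e, mul_assoc]
        _ = w := by rw [L.fam.ln.zz, one_mul]
  have h5 : g ∈ zpowers (g ^ 2) := by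
    have h6 : Nat.Coprime (orderOf g) 2 := Nat.coprime_two_right.mpr hodd
    obtain ⟨k, hk⟩ := exists_pow_eq_self_of_coprime (G := G) h6.symm
    exact mem_zpowers_iff.mpr ⟨k, by rw [zpow_natCast]; exact hk⟩
  have h6 : zpowers (g ^ 2) ≤ centralizer ({w} : Set G) := by
    rw [zpowers_le, mem_centralizer_singleton_iff]
    exact comm_of_conj_eq h4
  exact (mem_centralizer_singleton_iff.mp (h6 h5)).symm

omit [Finite G] A in
/-- `K_x` normalises `W_p` -/
theorem kk_norm (hc : c ∈ cf x) : kk V cf x ≤ normalizer ((cj c (ww V cf z) : Subgroup G) : Set G) := by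
  have hz := L.fam.ln.z_mem
  have hz1 := L.fam.ln.z_ne
  refine le_normalizer_of_forall fun k hk w hw => ?_
  rw [mem_cj] at hw ⊢
  have h1 : c⁻¹ * k * c ∈ kk V cf x := conj_mem_of_normalizer' L.fam.cf_norm_kk hc hk
  have h2 := conj_mem_of_normalizer (L.fam.cent_norm hz hz1) (L.fam.kk_le_cent h1) hw
  have e : c⁻¹ * k * c * (c⁻¹ * w * c) * (c⁻¹ * k * c)⁻¹ = c⁻¹ * (k * w * k⁻¹) * c := by group
  rwa [e] at h2

/-- **(3.6)** : `D_p(x) ≤ O_2(K_x) ≤ O_2(C_G(V))` is trivial on `N_z` -/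
theorem tri_far [Finite M] (hc : c ∈ cf x) {n : G} (hn : n ∈ cj c (ww V cf z)) (hnk : n ∈ kk V cf x) :
    Tri R B x n := by
  have hz := L.fam.ln.z_mem
  have hz1 := L.fam.ln.z_ne
  have h1 : cj c (ww V cf z) ⊓ kk V cf x ≤ o2 (kk V cf x) := by
    refine le_o2 inf_le_right ?_ ?_
    · exact IsPGroup.to_le (((L.fam.two_ww hz hz1).map _ : IsPGroup 2 (cj c (ww V cf z)))) inf_le_left
    · refine le_normalizer_of_forall fun k hk w hw => ⟨?_, ?_⟩
      · exact conj_mem_of_normalizer (L.kk_norm hx hx1 hxz hc) hk hw.1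
      · exact (kk V cf x).mul_mem ((kk V cf x).mul_mem hk hw.2) ((kk V cf x).inv_mem hk)
  refine L.tri_of_two A hx hx1 hxz (O := o2 (kk V cf x)) (isPGroup_o2 _) ((o2_le _).trans L.fam.kk_le_cent) ?_
    (h1 ⟨hn, hnk⟩)
  exact (L.fam.cent_le_cf hx hx1).trans (L.fam.cf_norm_kk.trans (normalizer_le_normalizer_o2 _))

/-- the elements of `C_G(V)` which are trivial on `N_z` -/
def trs : Subgroup G where
  carrier := {g | g ∈ centralizer (V : Set G) ∧ Tri R B x g}
  mul_mem' := by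
    rintro a b ⟨ha, ha1⟩ ⟨hb, hb1⟩
    refine ⟨mul_mem ha hb, fun m hm => ?_⟩
    have hz := L.fam.ln.z_mem
    have hz1 := L.fam.ln.z_ne
    have h1 := L.sys.of_tri (hb1 m hm)
    have h2 := L.sys.of_tri (ha1 m hm)
    have hav := R.cent_v0 L.fam hx ha
    refine L.sys.tri_of ?_
    rw [R.phi_mul a (L.fam.cent_le_cf hz hz1 ha) b (L.fam.cent_le_cf hz hz1 hb), mul_smul]
    have h3 := L.sys.smul_kv A hav h1
    rw [smul_add] at h3
    have h4 := add_mem h3 h2
    have e : R.phi a • R.phi b • m + R.phi a • m + (R.phi a • m + m) = R.phi a • R.phi b • m + m := by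
      rw [add_assoc, L.sys.add_cancel]
    rwa [e] at h4
  one_mem' := ⟨one_mem _, fun m _ => L.sys.tri_of (by rw [R.phi_one', one_smul, L.sys.two]; exact zero_mem _)⟩
  inv_mem' := by
    rintro a ⟨ha, ha1⟩
    refine ⟨inv_mem ha, fun m hm => ?_⟩
    have hz := L.fam.ln.z_mem
    have hz1 := L.fam.ln.z_ne
    have hac := L.fam.cent_le_cf hz hz1 ha
    have hav := R.cent_v0 L.fam hx ha
    have hav' : (R.phi a)⁻¹ • R.pi x = R.pi x := by rw [inv_smul_eq_iff, hav]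
    refine L.sys.tri_of ?_
    rw [R.phi_inv hac]
    have h3 := L.sys.smul_kv A hav' (L.sys.of_tri (ha1 m hm))
    rw [smul_add, inv_smul_smul, add_comm] at h3
    exact h3

theorem mem_trs {g : G} : g ∈ L.trs A hx ↔ g ∈ centralizer (V : Set G) ∧ Tri R B x g := Iff.rfl

theorem trs_norm : centralizer (V : Set G) ≤ normalizer ((L.trs A hx : Subgroup G) : Set G) := by
  have hz := L.fam.ln.z_mem
  have hz1 := L.fam.ln.z_ne
  refine le_normalizer_of_forall fun k hk g hg => ⟨mul_mem (mul_mem hk hg.1) (inv_mem hk), fun m hm => ?_⟩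
  have hkc := L.fam.cent_le_cf hz hz1 hk
  have hgc := L.fam.cent_le_cf hz hz1 hg.1
  have hkv := R.cent_v0 L.fam hx hk
  have hkv' : (R.phi k)⁻¹ • R.pi x = R.pi x := by rw [inv_smul_eq_iff, hkv]
  refine L.sys.tri_of ?_
  rw [R.phi_mul _ (mul_mem hkc hgc) _ (inv_mem hkc), R.phi_mul _ hkc _ hgc, R.phi_inv hkc, mul_smul, mul_smul]
  have h1 : B ((R.phi k)⁻¹ • m) (R.pi x) = 0 := L.sys.smul_pp A hkv' hm
  have h2 := L.sys.smul_kv A hkv (L.sys.of_tri (hg.2 _ h1))
  rwa [smul_add, smul_inv_smul] at h2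

/-- if `K_z` is a 2-group, then `O_2(C_G(V))` is the kernel of `C_G(V)` on `N_z` -/
theorem tri_iff [Finite M] [FaithfulSMul H M] (hK : IsPGroup 2 (kk V cf z)) {g : G}
    (hg : g ∈ centralizer (V : Set G)) : Tri R B x g ↔ g ∈ o2 (centralizer (V : Set G)) := by
  constructor
  · intro ht
    have h1 : L.trs A hx ≤ o2 (centralizer (V : Set G)) := by
      refine le_o2 (fun g hg => hg.1) ?_ (L.trs_norm A hx hx1 hxz)
      rintro ⟨l, hl⟩
      obtain ⟨k, hk⟩ := exists_pow_two_of_odd (L := L.trs A hx) (fun l hl hodd => by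
        have h2 := L.kk_of_odd A hx hx1 hxz hl.1 hodd hl.2
        obtain ⟨n, hn⟩ := hK ⟨l, h2⟩
        have h3 : l ^ 2 ^ n = 1 := congrArg Subtype.val hn
        have h4 : orderOf l ∣ 2 ^ n := orderOf_dvd_of_pow_eq_one h3
        have h5 : Nat.Coprime (orderOf l) (2 ^ n) := (Nat.coprime_two_right.mpr hodd).pow_right n
        exact orderOf_eq_one_iff.mp (Nat.eq_one_of_dvd_coprimes h5 dvd_rfl h4)) hl
      exact ⟨k, Subtype.ext hk⟩
    exact h1 ⟨hg, ht⟩
  · intro h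
    exact L.tri_of_two A hx hx1 hxz (isPGroup_o2 _) (o2_le _) (le_normalizer_o2 _) h

end geo

/-! ### (3.7) -/

section nontriv

variable {T' : Subgroup G} {M' H' : Type u} [AddCommGroup M'] [Group H'] [DistribMulAction H' M']
  {R' : MRep V cf x M' H'} {TT' : Set M'} {B' : M' → M' → ZMod 2}

/-- `W_p ≤ C_G(V)` for `p ∈ D_x - V`, from the form at `x` -/
theorem cj_le_cent (L' : Loc T' V x cf R' TT' B') (hz : z ∈ V) (hz1 : z ≠ 1) (hxz : x ≠ z) (hc : c ∈ cf x)
    (hp : c * z * c⁻¹ ∈ kk V cf z) : cj c (ww V cf z) ≤ centralizer (V : Set G) := by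
  have hx := L'.fam.ln.z_mem
  have hx1 := L'.fam.ln.z_ne
  have hzW : z ∈ ww V cf x := L'.fam.V_le hz
  have hpW : c * z * c⁻¹ ∈ ww V cf x := conj_mem_wf hc hzW
  have h1 : B' (R'.pi (c * z * c⁻¹)) (R'.pi z) = 0 := (L'.perp z hz hz1 (Ne.symm hxz) _ hpW).mpr hp
  have hc' : c⁻¹ ∈ cf x := inv_mem hc
  have h2 : B' (R'.pi (c⁻¹ * z * c⁻¹⁻¹)) (R'.pi z) = 0 := by
    rw [← R'.act c⁻¹ hc' z hzW, ← L'.form (R'.phi c), R'.phi_inv hc, smul_inv_smul, R'.act c hc z hzW,
      L'.sys.symm]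
    exact h1
  have h3 : c⁻¹ * z * c⁻¹⁻¹ ∈ kk V cf z :=
    (L'.perp z hz hz1 (Ne.symm hxz) _ (conj_mem_wf hc' hzW)).mp h2
  intro w hw
  rw [mem_cj] at hw
  have h4 := mem_centralizer_iff.mp h3 _ hw
  have h5 : w * z = z * w := by
    calc w * z = c * ((c⁻¹ * w * c) * (c⁻¹ * z * c⁻¹⁻¹)) * c⁻¹ := by group
      _ = c * ((c⁻¹ * z * c⁻¹⁻¹) * (c⁻¹ * w * c)) * c⁻¹ := by rw [h4]
      _ = z * w := by group
  have h6 : w * x = x * w := by
    have h7 : x * (c⁻¹ * w * c) = (c⁻¹ * w * c) * x := L'.fam.V_comm hx (L'.fam.ww_le_cent hz hz1 hw)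
    have hcx := L'.fam.cf_comm hx hx1 hc
    have hcx' := L'.fam.cf_comm hx hx1 hc'
    calc w * x = c * (c⁻¹ * w * c) * (c⁻¹ * x) := by group
      _ = c * ((c⁻¹ * w * c) * x) * c⁻¹ := by rw [hcx']; group
      _ = c * (x * (c⁻¹ * w * c)) * c⁻¹ := by rw [h7]
      _ = (c * x) * (c⁻¹ * w) := by group
      _ = x * w := by rw [hcx]; group
  exact L'.fam.mem_centralizer_of hx hx1 hz hz1 (Ne.symm hxz) h6 h5

/-- the product of two transvections with nonperpendicular centres is not a 2-element -/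
theorem _root_.Cfsg.Agent.Omega.NO3S.TV.Sys.not_two (S' : Sys TT' B') {a b : H'} {μ u : M'} (hμu : B' μ u = 1)
    (ha : ∀ m, (B' m μ = 0 → a • m = m) ∧ (B' m μ = 1 → a • m = m + μ))
    (hb : ∀ m, (B' m u = 0 → b • m = m) ∧ (B' m u = 1 → b • m = m + u)) (k : ℕ) : (a * b) ^ 2 ^ k ≠ 1 := by
  intro e
  have huμ : B' u μ = 1 := by rw [S'.symm]; exact hμu
  have e1 : (a * b) • μ = u := by
    rw [mul_smul, (hb μ).2 hμu, (ha _).2 (by rw [S'.add_left, S'.alt, huμ, zero_add])]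
    rw [add_comm μ u, S'.add_cancel']
  have e2 : (a * b) • u = u + μ := by
    rw [mul_smul, (hb u).1 (S'.alt u), (ha u).2 huμ]
  have e3 : (a * b) • (u + μ) = μ := by
    rw [smul_add, e1, e2, add_comm (u + μ) u, S'.add_cancel]
  have h3 : (a * b) ^ 3 ∈ MulAction.stabilizer H' μ := by
    rw [MulAction.mem_stabilizer_iff, pow_succ, pow_two, mul_smul, mul_smul, e1, e2, e3]
  have h2 : (a * b) ^ 2 ^ k ∈ MulAction.stabilizer H' μ := by rw [e]; exact one_mem _
  have h1 : a * b ∈ MulAction.stabilizer H' μ := by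
    have hco : Int.gcd (3 : ℤ) ((2 ^ k : ℕ) : ℤ) = 1 := by
      have : Nat.Coprime 3 (2 ^ k) := (by norm_num : Nat.Coprime 3 2).pow_right k
      exact this
    have hb := Int.gcd_eq_gcd_ab (3 : ℤ) ((2 ^ k : ℕ) : ℤ)
    rw [hco] at hb
    have e4 : a * b = ((a * b) ^ 3) ^ (Int.gcdA (3 : ℤ) ((2 ^ k : ℕ) : ℤ)) *
        ((a * b) ^ 2 ^ k) ^ (Int.gcdB (3 : ℤ) ((2 ^ k : ℕ) : ℤ)) := by
      rw [← zpow_natCast (a * b) 3, ← zpow_natCast (a * b) (2 ^ k), ← zpow_mul, ← zpow_mul, ← zpow_add]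
      have : ((3 : ℕ) : ℤ) * Int.gcdA 3 ((2 ^ k : ℕ) : ℤ) + ((2 ^ k : ℕ) : ℤ) * Int.gcdB 3 ((2 ^ k : ℕ) : ℤ) = 1 := by
        rw [show ((3 : ℕ) : ℤ) = 3 from rfl, ← hb]; rfl
      rw [this, zpow_one]
    rw [e4]
    exact mul_mem (zpow_mem h3 _) (zpow_mem h2 _)
  rw [MulAction.mem_stabilizer_iff, e1] at h1
  rw [h1, S'.alt] at huμ
  exact zero_ne_one huμ

/-- **(3.7)**, no group acts trivially on `N_z` -/
theorem exists_not_tri [Finite G] [FaithfulSMul H M] (L : Loc T V z cf R TT B) (A : Act TT B H)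
    (L' : Loc T' V x cf R' TT' B') (hxz : x ≠ z)
    (hpts : ∀ t ∈ TT', ∃ c ∈ cf x, t = R'.pi (c * z * c⁻¹))
    (hw0 : ∃ w ∈ ww V cf z, ∀ m : M', (B' m (R'.pi z) = 0 → R'.phi w • m = m) ∧
      (B' m (R'.pi z) = 1 → R'.phi w • m = m + R'.pi z))
    (hμ : ∃ μ ∈ TT', B' μ (R'.pi z) = 0 ∧ μ ≠ R'.pi z)
    (hKK : IsPGroup 2 (kk V cf z ⊓ kk V cf (x * z) : Subgroup G)) :
    ∃ c, Far V z cf x c ∧ ∃ w ∈ cj c (ww V cf z), ¬ Tri R B x w := by
  by_contra hcon
  push Not at hcon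
  have hx := L'.fam.ln.z_mem
  have hx1 := L'.fam.ln.z_ne
  have hz := L.fam.ln.z_mem
  have hz1 := L.fam.ln.z_ne
  have hzW : z ∈ ww V cf x := L'.fam.V_le hz
  -- `L_x`
  set E : Set G := {w | ∃ c, Far V z cf x c ∧ w ∈ cj c (ww V cf z)} with hE
  set X := closure E with hX
  have hXt : X ≤ L.trs A hx := by
    refine (closure_le _).mpr ?_
    rintro w ⟨c, hF, hw⟩
    exact ⟨L'.cj_le_cent hz hz1 hxz hF.mem hF.cent hw, hcon c hF w hw⟩
  -- `Q_x` normalises `L_x`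
  have hq : ∀ q ∈ qq V cf x, ∀ l ∈ X, q * l * q⁻¹ ∈ X := by
    intro q hq l hl
    have hqc : q ∈ cf x := L.fam.qq_le_cf hq
    have h1 : X ≤ X.comap (MulAut.conj q).toMonoidHom := by
      refine (closure_le _).mpr ?_
      rintro w ⟨c, hF, hw⟩
      change q * w * q⁻¹ ∈ X
      refine subset_closure ⟨q * c, ?_, ?_⟩
      · have e : q * c * z * (q * c)⁻¹ = q * (c * z * c⁻¹) * q⁻¹ := by group
        have hpW : c * z * c⁻¹ ∈ ww V cf x := conj_mem_wf hF.mem hzW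
        refine ⟨mul_mem hqc hF.mem, ?_, ?_⟩
        · rw [e]
          rcases L.fam.qq_cases hx hq hpW with e1 | e1
          · rw [e1]; exact hF.cent
          · rw [e1]; exact mul_mem (L.fam.V_le_kk hz hz1 hx) hF.cent
        · rw [e]
          rcases L.fam.qq_cases hx hq hpW with e1 | e1
          · rw [e1]; exact hF.nmem
          · rw [e1]; exact fun h => hF.nmem ((mul_mem_cancel_left hx).mp h)
      · rw [← cj_cj]; exact conj_mem_cj hw
    exact h1 hl
  -- the elements of odd order of `L_x` are trivial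
  obtain ⟨q, hqx, hqV⟩ := L.fam.exists_mover hx hx1
  have hqz := L.fam.move hx hx1 hz hz1 (Ne.symm hxz) hqx hqV
  have hqz' : q⁻¹ * z * q = x * z := by
    have hqx' := L.fam.qq_p hqx
    have e0 : q * (x * z) * q⁻¹ = z := by
      calc q * (x * z) * q⁻¹ = (q * x) * z * q⁻¹ := by group
        _ = x * (q * z * q⁻¹) := by rw [hqx']; group
        _ = x * x * z := by rw [hqz, mul_assoc]
        _ = z := by rw [L'.fam.ln.zz, one_mul]
    calc q⁻¹ * z * q = q⁻¹ * (q * (x * z) * q⁻¹) * q := by rw [e0]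
      _ = x * z := by group
  have hodd : ∀ l ∈ X, Odd (orderOf l) → l = 1 := by
    intro l hl ho
    have h1 : l ∈ kk V cf z := L.kk_of_odd A hx hx1 hxz (hXt hl).1 ho (hXt hl).2
    have h2 := hq q hqx l hl
    have h3 : orderOf (q * l * q⁻¹) = orderOf l := by
      rw [← MulAut.conj_apply]; exact orderOf_injective (MulAut.conj q).toMonoidHom (MulAut.conj q).injective l
    have h4 : q * l * q⁻¹ ∈ kk V cf z := L.kk_of_odd A hx hx1 hxz (hXt h2).1 (by rw [h3]; exact ho) (hXt h2).2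
    have h5 : l ∈ kk V cf (x * z) := by
      have := L.fam.conj_kk (inv_mem (L.fam.qq_le_normalizer hx hqx)) hz hz1 h4
      rw [inv_inv, hqz'] at this
      have e : q⁻¹ * (q * l * q⁻¹) * q = l := by group
      rwa [e] at this
    obtain ⟨n, hn⟩ := hKK ⟨l, ⟨h1, h5⟩⟩
    have h6 : l ^ 2 ^ n = 1 := congrArg Subtype.val hn
    have h7 : orderOf l ∣ 2 ^ n := orderOf_dvd_of_pow_eq_one h6
    have h8 : Nat.Coprime (orderOf l) (2 ^ n) := (Nat.coprime_two_right.mpr ho).pow_right n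
    exact orderOf_eq_one_iff.mp (Nat.eq_one_of_dvd_coprimes h8 dvd_rfl h7)
  -- two transvections
  obtain ⟨μ, hμ, hμ0, hμne⟩ := hμ
  have hzT := L'.mem z hz hz1 (Ne.symm hxz)
  obtain ⟨u, hu, hu0, huμ⟩ := L'.sys.exists_nonperp L'.inj hzT hμ hμne
  have hune : u ≠ R'.pi z := by
    rintro rfl
    rw [L'.sys.symm, hμ0] at huμ
    exact zero_ne_one huμ
  obtain ⟨w0, hw0, hw0a⟩ := hw0
  have key : ∀ t ∈ TT', B' t (R'.pi z) = 0 → t ≠ R'.pi z → ∃ w ∈ X, w ∈ cf x ∧
      ∀ m : M', (B' m t = 0 → R'.phi w • m = m) ∧ (B' m t = 1 → R'.phi w • m = m + t) := by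
    intro t ht ht0 htne
    obtain ⟨c, hc, rfl⟩ := hpts t ht
    have hpW : c * z * c⁻¹ ∈ ww V cf x := conj_mem_wf hc hzW
    have hcent : c * z * c⁻¹ ∈ kk V cf z := (L'.perp z hz hz1 (Ne.symm hxz) _ hpW).mp ht0
    have hF : Far V z cf x c := by
      refine ⟨hc, hcent, fun hV => ?_⟩
      have hne0 : R'.pi (c * z * c⁻¹) ≠ 0 := L'.sys.ne_zero ht
      rcases L'.fam.ln.four hx hz hx1 hz1 hxz hV with e | e | e | e
      · exact hne0 (by rw [e, R'.pi_one L'.fam])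
      · exact hne0 (by rw [e, R'.pi_z L'.fam])
      · exact htne (by rw [e])
      · exact htne (by rw [e, R'.pi_mul x L'.fam.z_mem_ww z hzW, R'.pi_z L'.fam, zero_add])
    have hw0c : w0 ∈ cf x := L'.fam.ww_le_cf' hz hz1 hx hx1 hw0
    refine ⟨c * w0 * c⁻¹, subset_closure ⟨c, hF, conj_mem_cj hw0⟩, mul_mem (mul_mem hc hw0c) (inv_mem hc), ?_⟩
    have hact : ∀ m : M', R'.phi (c * w0 * c⁻¹) • m = R'.phi c • R'.phi w0 • (R'.phi c)⁻¹ • m := by
      intro m
      rw [R'.phi_mul _ (mul_mem hc hw0c) _ (inv_mem hc), R'.phi_mul _ hc _ hw0c, R'.phi_inv hc, mul_smul, mul_smul]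
    have hB : ∀ m : M', B' ((R'.phi c)⁻¹ • m) (R'.pi z) = B' m (R'.pi (c * z * c⁻¹)) := by
      intro m
      rw [← L'.form (R'.phi c), smul_inv_smul, R'.act c hc z hzW]
    intro m
    refine ⟨fun h => ?_, fun h => ?_⟩
    · rw [hact, (hw0a _).1 (by rw [hB]; exact h), smul_inv_smul]
    · rw [hact, (hw0a _).2 (by rw [hB]; exact h), smul_add, smul_inv_smul, R'.act c hc z hzW]
  obtain ⟨a, haX, hac, ha⟩ := key μ hμ hμ0 hμne
  obtain ⟨b, hbX, hbc, hb⟩ := key u hu (by rw [L'.sys.symm]; exact hu0) hune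
  obtain ⟨k, hk⟩ := exists_pow_two_of_odd hodd (mul_mem haX hbX)
  refine L'.sys.not_two (by rw [L'.sys.symm]; exact huμ) ha hb k ?_
  have h1 : R'.phi ((a * b) ^ 2 ^ k) = R'.phi (a * b) ^ 2 ^ k := map_pow R'.hom ⟨a * b, mul_mem hac hbc⟩ _
  rw [← R'.phi_mul a hac b hbc, ← h1, hk, R'.phi_one']

end nontriv

end Loc

end Cfsg.Agent.Omega.NO3S.TV

end

section


/-!
# NO-3S, `q = 2`, `n = 1`, transvection types (helper311's text #16747), section 6: the module part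

`Sys.irr` : a group `Y` which fixes `v ∈ TT`, is normalized by the stabilizer of `v` and acts nontrivially on
`N = v^⊥ / (⟨v⟩ + Rad)` has no proper invariant subspace on `N` (helper320's proof #17019).
-/

set_option autoImplicit false
set_option linter.unusedSectionVars false

namespace Cfsg.Agent.Omega.NO3S.TV.Sys

variable {M : Type*} [AddCommGroup M] {TT : Set M} {B : M → M → ZMod 2}
variable {H : Type*} [Group H] [DistribMulAction H M]

theorem smul_rf (A : Act TT B H) (h : H) (u m : M) : h • rf B u m = rf B (h • u) (h • m) := by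
  rcases z2 (B m u) with e | e
  · rw [rf_zero e, rf_zero (by rw [A.form]; exact e)]
  · rw [rf_one e, rf_one (by rw [A.form]; exact e), smul_add]

theorem exists_rf (A : Act TT B H) {u : M} (hu : u ∈ TT) : ∃ a : H, ∀ m : M, a • m = rf B u m := by
  obtain ⟨a, ha⟩ := A.tv u hu
  refine ⟨a, fun m => ?_⟩
  rcases z2 (B m u) with e | e
  · rw [rf_zero e, (ha m).1 e]
  · rw [rf_one e, (ha m).2 e]

theorem not_kv (S : Sys TT B) (I : Inj TT B) {v t : M} (hv : v ∈ TT) (ht : t ∈ TT) (hne : t ≠ v) :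
    t ∉ S.kv v := by
  rintro (h | h)
  · obtain ⟨m, hm⟩ := S.nd t ht
    rw [S.symm, h m] at hm
    exact zero_ne_one hm
  · exact hne (S.eq_of_rd I ht hv h)

/-- `⟨a, v⟩^⊥⊥ = ⟨a, v⟩ + Rad` -/
theorem exists_sep (S : Sys TT B) {v a b : M} (hv : v ∈ TT) (ha : a ∉ S.kv v)
    (hb : b ∉ S.kv v) (hab : b + a ∉ S.kv v) : ∃ e, B e v = 0 ∧ B e a = 0 ∧ B e b = 1 := by
  by_contra hcon
  push Not at hcon
  have hc : ∀ e, B e v = 0 → B e a = 0 → B e b = 0 := fun e h1 h2 => z2_ne' (hcon e h1 h2)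
  obtain ⟨t, -, ht⟩ := S.exists_nd hv
  have htv : B t v = 1 := by rw [S.symm]; exact ht
  obtain ⟨s, hs, hsa⟩ : ∃ s, B s v = 0 ∧ B s a = 1 := by
    by_contra h
    push Not at h
    exact ha (S.rd_of htv fun m hm => z2_ne' (h m hm))
  rcases z2 (B s b) with hsb | hsb
  · refine hb (S.rd_of htv fun m hm => ?_)
    rcases z2 (B m a) with e | e
    · exact hc m hm e
    · have := hc (m + s) (by rw [S.add_left, hm, hs, add_zero]) (by rw [S.add_left, e, hsa]; decide)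
      rwa [S.add_left, hsb, add_zero] at this
  · refine hab (S.rd_of htv fun m hm => ?_)
    rcases z2 (B m a) with e | e
    · rw [S.add_right, e, hc m hm e, add_zero]
    · have := hc (m + s) (by rw [S.add_left, hm, hs, add_zero]) (by rw [S.add_left, e, hsa]; decide)
      rw [S.add_left, hsb] at this
      rw [S.add_right, e]
      exact this

/-- `g ∈ Y` acts as `a_u a_u'` -/
def EE (B : M → M → ZMod 2) (Y : Subgroup H) (u u' : M) : Prop := ∃ g ∈ Y, ∀ m : M, g • m = rf B u (rf B u' m)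

section EE

variable {Y : Subgroup H}

theorem ee_symm (S : Sys TT B) {u u' : M} (h : EE B Y u u') : EE B Y u' u := by
  obtain ⟨g, hg, e⟩ := h
  refine ⟨g⁻¹, inv_mem hg, fun m => ?_⟩
  rw [inv_smul_eq_iff, e, S.rf_rf, S.rf_rf]

theorem ee_trans (S : Sys TT B) {u u' u'' : M} (h : EE B Y u u') (h' : EE B Y u' u'') : EE B Y u u'' := by
  obtain ⟨g, hg, e⟩ := h
  obtain ⟨g', hg', e'⟩ := h'
  refine ⟨g * g', mul_mem hg hg', fun m => ?_⟩
  rw [mul_smul, e', e, S.rf_rf]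

theorem ee_conj (A : Act TT B H) {v : M} (hn : ∀ h : H, h • v = v → ∀ g ∈ Y, h * g * h⁻¹ ∈ Y) {h : H}
    (hh : h • v = v) {u u' : M} (hE : EE B Y u u') : EE B Y (h • u) (h • u') := by
  obtain ⟨g, hg, e⟩ := hE
  refine ⟨h * g * h⁻¹, hn h hh g hg, fun m => ?_⟩
  rw [mul_smul, mul_smul, e, smul_rf A, smul_rf A, smul_inv_smul]

/-- (ii) -/
theorem ee_adj (S : Sys TT B) (A : Act TT B H) {v : M}
    (hn : ∀ h : H, h • v = v → ∀ g ∈ Y, h * g * h⁻¹ ∈ Y) {a b c : M} (ha : a ∈ TT) (hav : B a v = 0)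
    (hb : b ∈ TT) (hbv : B b v = 0) (hab : B a b = 1) (hE : EE B Y a b) (hc : c ∈ TT) (hcv : B c v = 0)
    (hac : B a c = 1) : EE B Y a c := by
  have hva : B v a = 0 := by rw [S.symm]; exact hav
  -- a transvection with centre in `v^⊥` fixes `v`
  have tv : ∀ e ∈ TT, B e v = 0 → ∀ p q : M, EE B Y p q → EE B Y (rf B e p) (rf B e q) := by
    intro e he hev p q hpq
    obtain ⟨x, hx⟩ := exists_rf A he
    have := ee_conj A hn (h := x) (by rw [hx, rf_zero (by rw [S.symm]; exact hev)]) hpq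
    rwa [hx, hx] at this
  have key : ∀ c ∈ TT, B c v = 0 → B a c = 1 → B b c = 1 → EE B Y a c := by
    intro c hc hcv hac hbc
    have he : b + c ∈ TT := S.refl b hb c hc hbc
    have h1 := tv _ he (by rw [S.add_left, hbv, hcv, add_zero]) a b hE
    rwa [rf_zero (by rw [S.add_right, hab, hac]; decide), rf_one (by rw [S.add_right, S.alt, hbc, zero_add]),
      S.add_cancel] at h1
  rcases z2 (B b c) with hbc | hbc
  · have hca : B c a = 1 := by rw [S.symm]; exact hac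
    have hc' : c + a ∈ TT := S.refl c hc a ha hca
    have hba : B b a = 1 := by rw [S.symm]; exact hab
    have h1 := key _ hc' (by rw [S.add_left, hcv, hav, add_zero]) (by rw [S.add_right, hac, S.alt, add_zero])
      (by rw [S.add_right, hbc, hba, zero_add])
    have h2 := tv a ha hav _ _ h1
    rwa [rf_zero (S.alt a), rf_one (by rw [S.add_left, hca, S.alt, add_zero]), S.add_cancel'] at h2
  · exact key c hc hcv hac hbc

end EE

/-- **section 6: `Y` is irreducible on `v^⊥ / (⟨v⟩ + Rad)`** -/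
theorem irr (S : Sys TT B) (I : Inj TT B) (C : Conn TT B) (A : Act TT B H)
    (hp : ∃ u ∈ TT, ∃ v ∈ TT, Planar TT B u v) {v : M} (hv : v ∈ TT) {Y : Subgroup H}
    (hYv : ∀ g ∈ Y, g • v = v) (hn : ∀ h : H, h • v = v → ∀ g ∈ Y, h * g * h⁻¹ ∈ Y)
    (hne : ∃ g ∈ Y, ∃ m, B m v = 0 ∧ g • m + m ∉ S.kv v) {U : AddSubgroup M} (hU : S.kv v ≤ U)
    (hU' : U ≤ S.pp v) (hUY : ∀ g ∈ Y, ∀ m ∈ U, g • m ∈ U) (hUne : ∃ m ∈ U, m ∉ S.kv v) : S.pp v ≤ U := by
  -- `(0)` a vector of `TT` moved by `Y`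
  obtain ⟨g, hg, m, hm, hgm⟩ := hne
  obtain ⟨u, hu, huv, hgu⟩ : ∃ u ∈ TT, B u v = 0 ∧ g • u + u ∉ S.kv v := by
    by_contra hcon
    push Not at hcon
    let N : AddSubgroup M :=
      { carrier := {m | g • m + m ∈ S.kv v}
        add_mem' := by
          intro a b ha hb
          change g • (a + b) + (a + b) ∈ S.kv v
          have : g • (a + b) + (a + b) = (g • a + a) + (g • b + b) := by rw [smul_add]; abel
          rw [this]; exact add_mem ha hb
        zero_mem' := by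
          change g • (0 : M) + 0 ∈ S.kv v
          rw [smul_zero, add_zero]; exact zero_mem _
        neg_mem' := by
          intro a ha
          change g • (-a) + (-a) ∈ S.kv v
          rw [S.neg_eq]; exact ha }
    have h2 : AddSubgroup.closure {t | t ∈ TT ∧ B t v = 0} ≤ N :=
      (AddSubgroup.closure_le _).mpr fun t ht => hcon t ht.1 ht.2
    exact hgm (h2 (S.mem_closure hv hm))
  have hgv := hYv g hg
  have hne_v : ∀ t, t ∈ TT → B t v = 0 → t ≠ v → t ∉ S.kv v := fun t ht _ h => S.not_kv I hv ht h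
  have huv' : u ≠ v := by
    rintro rfl
    rw [hgv, S.two] at hgu
    exact hgu (zero_mem _)
  -- `E(g u, u)`
  have hE0 : EE B Y (g • u) u := by
    obtain ⟨a, ha⟩ := exists_rf A hu
    have hav : a • v = v := by rw [ha, rf_zero (by rw [S.symm]; exact huv)]
    refine ⟨g * (a * g⁻¹ * a⁻¹), mul_mem hg (hn a hav g⁻¹ (inv_mem hg)), fun m => ?_⟩
    have ha' : ∀ m : M, a⁻¹ • m = rf B u m := by
      intro m
      rw [inv_smul_eq_iff, ha, S.rf_rf]
    rw [mul_smul, mul_smul, mul_smul, ha', ha, smul_rf A, smul_inv_smul]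
  have hgu1 : g • u ∈ TT := A.smul_mem g u hu
  have hgu2 : B (g • u) v = 0 := by
    have := A.form g u v
    rwa [hgv, huv] at this
  have hgu3 : g • u ≠ v := by
    intro e
    apply huv'
    have : u = g⁻¹ • v := by rw [← e, inv_smul_smul]
    rw [this, inv_smul_eq_iff, hgv]
  -- `(i)` a nonperpendicular pair
  obtain ⟨a, ha, hav, b, hb, hbv, hab, hE⟩ : ∃ a ∈ TT, B a v = 0 ∧ ∃ b ∈ TT, B b v = 0 ∧ B a b = 1 ∧ EE B Y a b := by
    rcases z2 (B (g • u) u) with h0 | h0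
    · obtain ⟨e', he1, he2, he3⟩ := S.exists_sep (a := g • u) (b := u) hv (hne_v _ hgu1 hgu2 hgu3)
        (hne_v _ hu huv huv') (by rw [add_comm]; exact hgu)
      rcases S.all_of_planar I C hp e' with h | ⟨e, he, hee⟩
      · rw [h] at he3
        exact absurd he3 zero_ne_one
      · rw [← hee] at he1 he2 he3
        obtain ⟨x, hx⟩ := exists_rf A he
        have h1 := ee_conj A hn (h := x) (by rw [hx, rf_zero (by rw [S.symm]; exact he1)]) hE0
        rw [hx, hx, rf_zero (by rw [S.symm]; exact he2), rf_one (by rw [S.symm]; exact he3)] at h1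
        have h2 : B u e = 1 := by rw [S.symm]; exact he3
        refine ⟨u, hu, huv, u + e, S.refl u hu e he h2, by rw [S.add_left, huv, he1, add_zero],
          by rw [S.add_right, S.alt, h2, zero_add], ?_⟩
        exact ee_trans S (ee_symm S hE0) h1
    · exact ⟨g • u, hgu1, hgu2, u, hu, huv, h0, hE0⟩
  have hne_of : ∀ s ∈ TT, B s v = 0 → ∀ t, B t v = 0 → B s t = 1 → s ≠ v := by
    rintro s hs hsv t htv hst rfl
    rw [S.symm] at hst
    rw [htv] at hst
    exact zero_ne_one hst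
  have hcommon : ∀ s ∈ TT, s ≠ v → ∀ t ∈ TT, t ≠ v → ∃ w ∈ TT, B w v = 0 ∧ B s w = 1 ∧ B w t = 1 := by
    intro s hs hsv t ht htv
    obtain ⟨w, hw, h1, h2, h3⟩ := S.common_perp I C hp hv hs ht hsv htv
    exact ⟨w, hw, by rw [S.symm]; exact h1, by rw [S.symm]; exact h2, h3⟩
  -- `(iii)`
  let P : M → Prop := fun s => ∀ d ∈ TT, B d v = 0 → B s d = 1 → EE B Y s d
  have hPa : P a := fun d hd hdv had => ee_adj S A hn ha hav hb hbv hab hE hd hdv had
  have hPs : ∀ s ∈ TT, B s v = 0 → P s → ∀ w ∈ TT, B w v = 0 → B s w = 1 → P w := by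
    intro s hs hsv hP w hw hwv hsw d hd hdv hwd
    exact ee_adj S A hn hw hwv hs hsv (by rw [S.symm]; exact hsw) (ee_symm S (hP w hw hwv hsw)) hd hdv hwd
  have hPall : ∀ s ∈ TT, B s v = 0 → s ≠ v → P s := by
    intro s hs hsv hne
    obtain ⟨w, hw, hwv, h1, h2⟩ := hcommon a ha (hne_of a ha hav b hbv hab) s hs hne
    exact hPs w hw hwv (hPs a ha hav hPa w hw hwv h1) s hs hsv h2
  -- `(iv)`
  have hstep : ∀ s ∈ TT, B s v = 0 → s ∈ U → ∀ w ∈ TT, B w v = 0 → B s w = 1 → w ∈ U := by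
    intro s hs hsv hsU w hw hwv hsw
    obtain ⟨x, hx, hxe⟩ := hPall s hs hsv (hne_of s hs hsv w hwv hsw) w hw hwv hsw
    have h1 := hUY x hx s hsU
    have hws : B w s = 1 := by rw [S.symm]; exact hsw
    rw [hxe, rf_one hsw, rf_one (by rw [S.add_left, S.alt, hws, zero_add]), add_comm s, S.add_cancel'] at h1
    exact h1
  obtain ⟨m0, hm0, hm0k⟩ := hUne
  have hm0v : B m0 v = 0 := hU' hm0
  obtain ⟨t0, ht0, ht0e⟩ : ∃ t ∈ TT, ∀ y, B t y = B m0 y := by
    rcases S.all_of_planar I C hp m0 with h | h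
    · exact absurd (Or.inl fun y => by rw [S.symm]; exact h y) hm0k
    · exact h
  have hrd : t0 + m0 ∈ S.kv v := Or.inl fun y => by
    rw [S.symm, S.add_left, ht0e, z2_add]
  have ht0v : B t0 v = 0 := by rw [ht0e]; exact hm0v
  have ht0U : t0 ∈ U := by
    have := add_mem (hU hrd) hm0
    rwa [S.add_cancel'] at this
  have ht0n : t0 ≠ v := by
    rintro rfl
    apply hm0k
    have h1 : t0 ∈ S.kv t0 := Or.inr (by rw [S.two]; exact fun y => S.zero_right y)
    have := add_mem h1 hrd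
    rwa [S.add_cancel] at this
  have hall : ∀ t ∈ TT, B t v = 0 → t ∈ U := by
    intro t ht htv
    by_cases hne : t = v
    · rw [hne]
      exact hU (Or.inr (by rw [S.two]; exact fun y => S.zero_right y))
    · obtain ⟨w, hw, hwv, h1, h2⟩ := hcommon t0 ht0 ht0n t ht hne
      exact hstep w hw hwv (hstep t0 ht0 ht0v ht0U w hw hwv h1) t ht htv h2
  intro m hm
  have h2 : AddSubgroup.closure {t | t ∈ TT ∧ B t v = 0} ≤ U :=
    (AddSubgroup.closure_le _).mpr fun t ht => hall t ht.1 ht.2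
  exact h2 (S.mem_closure hv hm)

end Cfsg.Agent.Omega.NO3S.TV.Sys

end

section


/-!
# NO-3S, `q = 2`, `n = 1`, transvection types (helper311's text #16747), section 6: `K_x` is a 2-group

Base point `z` (= `y` of the text) with its module `M = W_z/⟨z⟩`, another point `x ∈ V`.

* `Loc.tri_kk` : `K_x` is trivial on `N_z`;
* `Loc.kk_two`, `Loc.kk_two'` : `K_x` is a 2-group, for all points `x` of `V`;
* `Loc.gg` : an element of `C_G(V)` which is trivial on `N_z` is trivial on `N_x` (radical 0).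
-/

set_option autoImplicit false
set_option linter.unusedSectionVars false

namespace Cfsg.Agent.Omega.NO3S.TV

open Subgroup Cfsg Cfsg.Agent.ZN Cfsg.Agent.MinSimple.Geo Cfsg.Agent.Omega.CaseL Cfsg.Agent.Omega.NO3S.Fit
open Cfsg.Agent.ZN.Block (conj_mem_of_normalizer conj_mem_of_normalizer' le_normalizer_of_forall
  mem_normalizer_of)

universe u

variable {G : Type u} [Group G]

namespace Loc

variable {T V : Subgroup G} {z : G} {cf : G → Subgroup G} {M H : Type u} [AddCommGroup M] [Group H]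
  [DistribMulAction H M] {R : MRep V cf z M H} {TT : Set M} {B : M → M → ZMod 2} {x c w k : G}

/-- the image of `W_z ∩ W_p` on `N_z` -/
def ju (L : Loc T V z cf R TT B) (x c : G) : AddSubgroup M where
  carrier := {m | B m (R.pi x) = 0 ∧ ∃ j, j ∈ ww V cf z ∧ j ∈ cj c (ww V cf z) ∧ m + R.pi j ∈ L.sys.kv (R.pi x)}
  add_mem' := by
    rintro a b ⟨ha, i, hi, hi', hia⟩ ⟨hb, j, hj, hj', hjb⟩
    refine ⟨by rw [L.sys.add_left, ha, hb, add_zero], i * j, mul_mem hi hj, mul_mem hi' hj', ?_⟩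
    rw [R.pi_mul i hi j hj]
    have : a + b + (R.pi i + R.pi j) = (a + R.pi i) + (b + R.pi j) := by abel
    rw [this]; exact add_mem hia hjb
  zero_mem' := ⟨L.sys.zero_left _, 1, one_mem _, one_mem _, by
    rw [R.pi_one L.fam, add_zero]; exact zero_mem _⟩
  neg_mem' := by
    rintro a ⟨ha, h⟩
    rw [L.sys.neg_eq]
    exact ⟨ha, h⟩

theorem mem_ju (L : Loc T V z cf R TT B) {m : M} : m ∈ L.ju x c ↔ B m (R.pi x) = 0 ∧
    ∃ j, j ∈ ww V cf z ∧ j ∈ cj c (ww V cf z) ∧ m + R.pi j ∈ L.sys.kv (R.pi x) := Iff.rfl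

section six

variable [Finite G] (L : Loc T V z cf R TT B) (A : Act TT B H) (C : Conn TT B)
  (hp : ∃ a ∈ TT, ∃ b ∈ TT, Sys.Planar TT B a b) (hx : x ∈ V) (hx1 : x ≠ 1) (hxz : x ≠ z)
  (hF : Far V z cf x c) (hcent : cj c (ww V cf z) ≤ centralizer (V : Set G)) (hw : w ∈ cj c (ww V cf z))
  (hnt : ¬ Tri R B x w)
include L A C hp hx hx1 hxz hF hcent hw hnt

/-- **section 6**: `K_x` is trivial on `N_z` -/
theorem tri_kk (hk : k ∈ kk V cf x) : Tri R B x k := by
  have S := L.sys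
  have hz := L.fam.ln.z_mem
  have hz1 := L.fam.ln.z_ne
  have hv := L.mem x hx hx1 hxz
  have hKC : kk V cf x ≤ centralizer (V : Set G) := L.fam.kk_le_cent
  have hCc : centralizer (V : Set G) ≤ cf z := L.fam.cent_le_cf hz hz1
  have hKc : kk V cf x ≤ cf z := hKC.trans hCc
  by_contra hnk
  have hnk' : ∃ m, B m (R.pi x) = 0 ∧ R.phi k • m + m ∉ L.sys.kv (R.pi x) := by
    by_contra hcon
    push Not at hcon
    exact hnk fun m hm => L.sys.tri_of (hcon m hm)
  have himg : ∀ g, g ∈ R.img (kk V cf x) ↔ ∃ k ∈ kk V cf x, R.phi k = g := fun g => R.mem_img hKc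
  have hYv : ∀ g ∈ R.img (kk V cf x), g • R.pi x = R.pi x := by
    intro g hg
    obtain ⟨k', hk', rfl⟩ := (himg g).mp hg
    exact R.cent_v0 L.fam hx (hKC hk')
  have hn : ∀ h : H, h • R.pi x = R.pi x → ∀ g ∈ R.img (kk V cf x), h * g * h⁻¹ ∈ R.img (kk V cf x) := by
    intro h hh g hg
    obtain ⟨k', hk', rfl⟩ := (himg g).mp hg
    obtain ⟨d, hd, rfl⟩ := R.stab L.fam hx hx1 hxz hh
    refine (himg _).mpr ⟨d * k' * d⁻¹, ?_, ?_⟩
    · exact conj_mem_of_normalizer L.fam.cf_norm_kk (L.fam.cent_le_cf hx hx1 hd) hk'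
    · rw [R.phi_mul _ (mul_mem (hCc hd) (hKc hk')) _ (inv_mem (hCc hd)), R.phi_mul _ (hCc hd) _ (hKc hk'),
        R.phi_inv (hCc hd)]
  have hUY : ∀ g ∈ R.img (kk V cf x), ∀ m ∈ L.ju x c, g • m ∈ L.ju x c := by
    intro g hg m hm
    obtain ⟨k', hk', rfl⟩ := (himg g).mp hg
    obtain ⟨hm0, j, hj, hj', hmj⟩ := L.mem_ju.mp hm
    have hv0 := R.cent_v0 L.fam hx (hKC hk')
    refine L.mem_ju.mpr ⟨L.sys.smul_pp A hv0 hm0, k' * j * k'⁻¹, ?_, ?_, ?_⟩
    · exact conj_mem_of_normalizer (L.fam.cent_norm hz hz1) (hKC hk') hj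
    · exact conj_mem_of_normalizer (L.kk_norm hx hx1 hxz hF.mem) hk' hj'
    · rw [← R.act k' (hKc hk') j hj, ← smul_add]
      exact L.sys.smul_kv A hv0 hmj
  have hwV := hcent hw
  have hwc := hCc hwV
  have hwv0 := R.cent_v0 L.fam hx hwV
  apply hnt
  by_cases hUne : ∃ m ∈ L.ju x c, m ∉ L.sys.kv (R.pi x)
  · -- the image of `J` is `N_z`
    have hall := L.sys.irr L.inj C A hp hv hYv hn ⟨R.phi k, (himg _).mpr ⟨k, hk, rfl⟩, hnk'⟩
      (U := L.ju x c)
      (fun m hm => L.mem_ju.mpr ⟨L.sys.kv_le_pp _ hm, 1, one_mem _, one_mem _, by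
        rw [R.pi_one L.fam, add_zero]; exact hm⟩)
      (fun m hm => (L.mem_ju.mp hm).1) hUY hUne
    intro m hm
    obtain ⟨-, j, hj, hj', hmj⟩ := L.mem_ju.mp (hall hm)
    refine L.sys.tri_of ?_
    have e1 : R.phi w • R.pi j = R.pi j := by
      rw [R.act w hwc j hj]
      congr 1
      rw [mem_cj] at hw hj'
      have h1 := L.fam.comm hz hz1 _ hw _ hj'
      calc w * j * w⁻¹ = c * ((c⁻¹ * w * c) * (c⁻¹ * j * c)) * (c⁻¹ * w⁻¹) := by group
        _ = c * ((c⁻¹ * j * c) * (c⁻¹ * w * c)) * (c⁻¹ * w⁻¹) := by rw [h1]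
        _ = j := by group
    have h2 := add_mem (L.sys.smul_kv A hwv0 hmj) hmj
    rw [smul_add, e1] at h2
    have e2 : R.phi w • m + R.pi j + (m + R.pi j) = R.phi w • m + m := by
      calc R.phi w • m + R.pi j + (m + R.pi j) = R.phi w • m + m + (R.pi j + R.pi j) := by abel
        _ = R.phi w • m + m := by rw [L.sys.two, add_zero]
    rwa [e2] at h2
  · -- the image of `J` is trivial
    push Not at hUne
    intro m hm
    obtain ⟨a, ha, rfl⟩ := R.pi_surj m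
    refine L.sys.tri_of ?_
    have h1 := L.comm_J hx hx1 hxz hF hw hwV ha
    have h2 := L.phi_pi hwV ha
    refine hUne _ (L.mem_ju.mpr ⟨?_, w * a * w⁻¹ * a⁻¹, h1.1, h1.2, ?_⟩)
    · rw [L.sys.add_left, L.sys.smul_pp A hwv0 hm, hm, add_zero]
    · rw [h2, L.sys.two]; exact zero_mem _

/-- **section 6**: `K_x` is a 2-group -/
theorem kk_two [FaithfulSMul H M] (hKK : IsPGroup 2 (kk V cf z ⊓ kk V cf x : Subgroup G)) :
    IsPGroup 2 (kk V cf x) := by
  rintro ⟨l, hl⟩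
  obtain ⟨k, hk⟩ := exists_pow_two_of_odd (L := kk V cf x) (fun l hl ho => by
    have h1 : l ∈ kk V cf z := L.kk_of_odd A hx hx1 hxz (L.fam.kk_le_cent hl) ho
      (L.tri_kk A C hp hx hx1 hxz hF hcent hw hnt hl)
    obtain ⟨n, hn⟩ := hKK ⟨l, ⟨h1, hl⟩⟩
    have h6 : l ^ 2 ^ n = 1 := congrArg Subtype.val hn
    have h7 : orderOf l ∣ 2 ^ n := orderOf_dvd_of_pow_eq_one h6
    have h8 : Nat.Coprime (orderOf l) (2 ^ n) := (Nat.coprime_two_right.mpr ho).pow_right n
    exact orderOf_eq_one_iff.mp (Nat.eq_one_of_dvd_coprimes h8 dvd_rfl h7)) hl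
  exact ⟨k, Subtype.ext hk⟩

/-- **section 6**: all `K_p` are 2-groups -/
theorem kk_two' [FaithfulSMul H M] (hKK : IsPGroup 2 (kk V cf z ⊓ kk V cf x : Subgroup G)) :
    ∀ p ∈ V, p ≠ 1 → IsPGroup 2 (kk V cf p) := by
  have h0 := L.kk_two A C hp hx hx1 hxz hF hcent hw hnt hKK
  intro p hpV hp1
  obtain ⟨g, hg, hgz⟩ := L.fam.ln.trans p hpV hp1
  obtain ⟨g', hg', hgz'⟩ := L.fam.ln.trans x hx hx1
  -- `g' g⁻¹` maps `p` to `x`
  rintro ⟨l, hl⟩
  have hgg : g' * g⁻¹ ∈ normalizer (V : Set G) := mul_mem hg' (inv_mem hg)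
  have h1 := L.fam.conj_kk hgg hpV hp1 hl
  have e : g' * g⁻¹ * p * (g' * g⁻¹)⁻¹ = x := by
    rw [← hgz, ← hgz']; group
  rw [e] at h1
  obtain ⟨n, hn⟩ := h0 ⟨_, h1⟩
  have h2 : (g' * g⁻¹ * l * (g' * g⁻¹)⁻¹) ^ 2 ^ n = 1 := congrArg Subtype.val hn
  rw [conj_pow] at h2
  exact ⟨n, Subtype.ext (conj_eq_one_iff.mp h2)⟩

end six

/-! ### the action of `C_G(V)` on `N_z` and on `N_x`, radical 0 -/

section gg

omit [DistribMulAction H M] in
/-- radical 0: `Tri` in terms of commutators -/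
theorem tri_iff_comm [DistribMulAction H M] {R : MRep V cf z M H} (L : Loc T V z cf R TT B) (hx : x ∈ V)
    (hx1 : x ≠ 1) (hxz : x ≠ z) (hr : ∀ m, (∀ a, B m a = 0) → m = 0) {g : G}
    (hg : g ∈ centralizer (V : Set G)) : Tri R B x g ↔
      ∀ d ∈ ww V cf z, (∀ b ∈ ww V cf x, d * b = b * d) → g * d * g⁻¹ * d⁻¹ ∈ V := by
  have hz := L.fam.ln.z_mem
  have hz1 := L.fam.ln.z_ne
  have hr' : ∀ ρ, Rd B ρ → ρ = 0 := fun ρ hρ => hr ρ fun a => L.sys.rd_left hρ a
  have hkk : ∀ d ∈ ww V cf z, (B (R.pi d) (R.pi x) = 0 ↔ ∀ b ∈ ww V cf x, d * b = b * d) := by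
    intro d hd
    rw [L.perp x hx hx1 hxz d hd, mem_centralizer_iff]
    exact ⟨fun h b hb => (h b hb).symm, fun h b hb => (h b hb).symm⟩
  constructor
  · intro ht d hd hdx
    have h1 := (hkk d hd).mpr hdx
    have h2 := L.phi_pi hg hd
    have h3 : g * d * g⁻¹ * d⁻¹ ∈ ww V cf z :=
      mul_mem (conj_mem_of_normalizer (L.fam.cent_norm hz hz1) hg hd) (inv_mem hd)
    refine L.mem_V_of_pi hx h3 ?_
    rw [← h2]
    obtain ⟨ρ, hρ, e | e⟩ := ht _ h1
    · left; rw [e, hr' ρ hρ, add_zero, L.sys.two]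
    · right; rw [e, hr' ρ hρ, add_zero, add_comm, L.sys.add_cancel]
  · intro h m hm
    obtain ⟨d, hd, rfl⟩ := R.pi_surj m
    have h1 := h d hd ((hkk d hd).mp hm)
    have h2 := L.phi_pi hg hd
    refine ⟨0, fun a => L.sys.zero_right a, ?_⟩
    rw [add_zero, add_zero]
    have h3 : R.phi g • R.pi d = R.pi d + R.pi (g * d * g⁻¹ * d⁻¹) := by
      rw [← h2, add_comm, L.sys.add_cancel']
    rw [h3]
    rcases L.fam.ln.four hz hx hz1 hx1 (Ne.symm hxz) h1 with e | e | e | e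
    · left; rw [e, R.pi_one L.fam, add_zero]
    · left; rw [e, R.pi_z L.fam, add_zero]
    · right; rw [e]
    · right; rw [e, R.pi_mul z L.fam.z_mem_ww x (L.fam.V_le hx), R.pi_z L.fam, zero_add]

variable {T' : Subgroup G} {M' H' : Type u} [AddCommGroup M'] [Group H'] [DistribMulAction H' M']
  {R' : MRep V cf x M' H'} {TT' : Set M'} {B' : M' → M' → ZMod 2}

/-- **section 6**: an element of `C_G(V)` trivial on `N_z` is trivial on `N_x` (radical 0) -/
theorem gg [Finite G] [Finite M] [Finite M'] [FaithfulSMul H M] [FaithfulSMul H' M'] (L : Loc T V z cf R TT B)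
    (A : Act TT B H) (L' : Loc T' V x cf R' TT' B') (A' : Act TT' B' H')
    (hr : ∀ m, (∀ a, B m a = 0) → m = 0) (hr' : ∀ m, (∀ a, B' m a = 0) → m = 0) (hxz : x ≠ z)
    (hK : ∀ p ∈ V, p ≠ 1 → IsPGroup 2 (kk V cf p)) {c : G} (hc : c ∈ centralizer (V : Set G))
    (h : ∀ d ∈ ww V cf z, (∀ b ∈ ww V cf x, d * b = b * d) → c * d * c⁻¹ * d⁻¹ ∈ V) :
    ∀ d ∈ ww V cf x, (∀ b ∈ ww V cf z, d * b = b * d) → c * d * c⁻¹ * d⁻¹ ∈ V := by
  have hz := L.fam.ln.z_mem
  have hz1 := L.fam.ln.z_ne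
  have hx := L'.fam.ln.z_mem
  have hx1 := L'.fam.ln.z_ne
  have h1 := (L.tri_iff_comm hx hx1 hxz hr hc).mpr h
  have h2 := (L.tri_iff A hx hx1 hxz (hK z hz hz1) hc).mp h1
  have h3 := (L'.tri_iff A' hz hz1 (Ne.symm hxz) (hK x hx hx1) hc).mpr h2
  exact (L'.tri_iff_comm hz hz1 (Ne.symm hxz) hr' hc).mp h3

end gg

end Loc

end Cfsg.Agent.Omega.NO3S.TV

end

section


/-!
# NO-3S, `q = 2`, `n = 1`, transvection types (helper311's text #16747): section 7

* `Loc.seven_one` : `r ≠ 0`: `W_z ∩ W_p` contains an element `ρ` over `r`, fixed by the swap of `z` and `p`;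
* `Loc.seven_two` : `p = ρ' ^ q · ρ` with `ρ, ρ'` over `r` (`z ^ q = x z`);
* `Loc.seven_three` : all `p ∈ D_x - V` are in one coset of `V`;
* `Loc.r_eq_zero` : section 7: `r = 0`.
-/

set_option autoImplicit false
set_option linter.unusedSectionVars false

namespace Cfsg.Agent.Omega.NO3S.TV

open Subgroup Cfsg Cfsg.Agent.ZN Cfsg.Agent.MinSimple.Geo Cfsg.Agent.Omega.CaseL Cfsg.Agent.Omega.NO3S.Fit
open Cfsg.Agent.ZN.Block (conj_mem_of_normalizer conj_mem_of_normalizer' le_normalizer_of_forall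
  mem_normalizer_of)

universe u

variable {G : Type u} [Group G]

namespace Loc

variable {T V : Subgroup G} {z : G} {cf : G → Subgroup G} {M H : Type u} [AddCommGroup M] [Group H]
  [DistribMulAction H M] {R : MRep V cf z M H} {TT : Set M} {B : M → M → ZMod 2} {x c d : G} {r : M}

section one

variable (L : Loc T V z cf R TT B) (hx : x ∈ V) (hx1 : x ≠ 1) (hxz : x ≠ z) (hF : Far V z cf x c)
include L hx hx1 hxz hF

/-- `z ∉ W_p` -/
theorem z_nmem : z ∉ cj c (ww V cf z) := by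
  intro h
  rcases L.inf_V hx hx1 hxz hF L.fam.ln.z_mem h with e | e
  · exact L.fam.ln.z_ne e
  · exact hxz e.symm

/-- an element of `W_z ∩ W_p` is determined by its image in `M` -/
theorem eq_of_pi_eq {a b : G} (ha : a ∈ ww V cf z) (hb : b ∈ ww V cf z) (hap : a ∈ cj c (ww V cf z))
    (hbp : b ∈ cj c (ww V cf z)) (h : R.pi a = R.pi b) : a = b := by
  rcases (R.pi_eq L.fam ha hb).mp h with e | e
  · exact e
  · exfalso
    apply L.z_nmem hx hx1 hxz hF
    have h1 : a * b⁻¹ = z := by rw [e]; group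
    have h2 := mul_mem hap (inv_mem hbp)
    rwa [h1] at h2

end one

section seven

variable (L : Loc T V z cf R TT B) (hx : x ∈ V) (hx1 : x ≠ 1) (hxz : x ≠ z)
include L hx hx1 hxz

/-- `v + r ≠ 0` -/
theorem vr_ne (hr : Rd B r) : R.pi x + r ≠ 0 := by
  intro h
  have h1 : R.pi x = r := L.sys.eq_of_add h
  obtain ⟨m, hm⟩ := L.sys.nd _ (L.mem x hx hx1 hxz)
  rw [h1, L.sys.rd_left hr] at hm
  exact zero_ne_one hm

theorem seven_one (hr : Rd B r) (pl : ∀ u ∈ TT, ∀ v ∈ TT, u ≠ v → B u v = 0 → u + v + r ∈ TT)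
    (hF : Far V z cf x c) (hS : Sw z cf x c d)
    (ht : ∀ n ∈ cj c (ww V cf z), n ∈ kk V cf x → Tri R B x n)
    (hw : ∃ w ∈ cj c (ww V cf z), ¬ Tri R B x w) :
    ∃ ρ ∈ ww V cf z, ρ ∈ cj c (ww V cf z) ∧ R.pi ρ = r ∧ d * ρ * d⁻¹ = ρ := by
  have hz := L.fam.ln.z_mem
  have hz1 := L.fam.ln.z_ne
  have hxx := L.fam.ln.sq x hx
  obtain ⟨w', hw', hnt⟩ := hw
  have hw'V := L.wp_cent hx hx1 hxz hF hS hw'
  unfold Tri at hnt
  push Not at hnt
  obtain ⟨m, hm, hnt⟩ := hnt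
  obtain ⟨a, ha, rfl⟩ := R.pi_surj m
  have hak := (L.perp x hx hx1 hxz a ha).mp hm
  have hxW : x ∈ ww V cf z := L.fam.V_le hx
  have hxp := L.x_mem hx hx1 hxz hF.mem
  -- `n ∈ D_p(x)`, `w ∈ W_z`
  have hn := L.conj_one hx hx1 hxz hF hS ha
  have hnk := L.conj_kk hx hx1 hxz hF hS hak
  have hwz := L.conj_two hx hx1 hxz hF hS hw'
  have hdx := L.conj_x hx hx1 hxz hF hS
  have hdx' : d⁻¹ * x * d = x := by
    calc d⁻¹ * x * d = d⁻¹ * (d * x * d⁻¹) * d := by rw [hdx]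
      _ = x := by group
  set n := d * a * d⁻¹ with hnd
  set w := d * w' * d⁻¹ with hwd
  have hnV := L.fam.kk_le_cent hnk
  obtain ⟨t, hact⟩ := L.hact hx hx1 hxz hnV (ht n hn hnk)
  obtain ⟨-, hB⟩ | ⟨⟨m0, hm0, hm1⟩, hB⟩ := hact.seven hr pl
  · -- `W_p` would be trivial on `a`
    exfalso
    have h1 : R.phi n • R.pi w + R.pi w = 0 ∨ R.phi n • R.pi w + R.pi w = R.pi x := hB (R.pi w)
    rw [L.phi_pi hnV hwz] at h1
    have h2 := L.comm_J hx hx1 hxz hF hn hnV hwz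
    have h3 := L.eq_of_pi hx hx1 hxz hF h2.1 h2.2 h1
    have e : w' * a * w'⁻¹ * a⁻¹ = d⁻¹ * (n * w * n⁻¹ * w⁻¹)⁻¹ * d := by rw [hnd, hwd]; group
    have h4 : w' * a * w'⁻¹ * a⁻¹ = 1 ∨ w' * a * w'⁻¹ * a⁻¹ = x := by
      rcases h3 with h3 | h3
      · left; rw [e, h3]; group
      · right; rw [e, h3, L.fam.ln.inv_eq hx, hdx']
    have h5 := L.phi_pi hw'V ha
    have h6 := hnt 0 (fun b => L.sys.zero_right b)
    rw [add_zero, add_zero] at h6
    have h7 : R.phi w' • R.pi a = R.pi a + R.pi (w' * a * w'⁻¹ * a⁻¹) := by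
      rw [← h5, add_comm, L.sys.add_cancel']
    rcases h4 with h4 | h4
    · rw [h4, R.pi_one L.fam, add_zero] at h7
      exact h6.1 h7
    · rw [h4] at h7
      exact h6.2 h7
  · -- `u` with `[n, u]` over `v + r`
    obtain ⟨u, hu, rfl⟩ := R.pi_surj m0
    have huk := (L.perp x hx hx1 hxz u hu).mp hm0
    have h1 : R.phi n • R.pi u = R.pi u + (R.pi x + r) := by
      rcases hB _ hm0 with h | h
      · rw [hm1] at h; exact absurd h.1 one_ne_zero
      · exact h.2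
    have h2 := L.comm_J hx hx1 hxz hF hn hnV hu
    have h3 : R.pi (n * u * n⁻¹ * u⁻¹) = R.pi x + r := by
      rw [← L.phi_pi hnV hu, h1, add_comm, L.sys.add_cancel]
    set e0 := n * u * n⁻¹ * u⁻¹ with he0
    -- all commutators of `D_p(x)` and `D_z` are `1` or `e0`
    have key : ∀ n' ∈ cj c (ww V cf z), n' ∈ kk V cf x → ∀ u' ∈ ww V cf z, u' ∈ kk V cf x →
        n' * u' * n'⁻¹ * u'⁻¹ = 1 ∨ n' * u' * n'⁻¹ * u'⁻¹ = e0 := by
      intro n' hn' hnk' u' hu' huk'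
      have hnV' := L.fam.kk_le_cent hnk'
      have hm' := (L.perp x hx hx1 hxz u' hu').mpr huk'
      have h4 := L.comm_J hx hx1 hxz hF hn' hnV' hu'
      have hone : R.phi n' • R.pi u' = R.pi u' → n' * u' * n'⁻¹ * u'⁻¹ = 1 := by
        intro h
        have h5 : R.pi (n' * u' * n'⁻¹ * u'⁻¹) = R.pi 1 := by
          rw [← L.phi_pi hnV' hu', h, L.sys.two, R.pi_one L.fam]
        exact L.eq_of_pi_eq hx hx1 hxz hF h4.1 (one_mem _) h4.2 (one_mem _) h5
      obtain ⟨t', hact'⟩ := L.hact hx hx1 hxz hnV' (ht n' hn' hnk')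
      obtain ⟨hA', -⟩ | ⟨-, hB'⟩ := hact'.seven hr pl
      · exact Or.inl (hone (hA' _ hm'))
      · rcases hB' _ hm' with h | h
        · exact Or.inl (hone h.2)
        · right
          refine L.eq_of_pi_eq hx hx1 hxz hF h4.1 h2.1 h4.2 h2.2 ?_
          have h5 : R.phi n' • R.pi u' = R.pi u' + (R.pi x + r) := h.2
          rw [h3, ← L.phi_pi hnV' hu', h5, add_comm, L.sys.add_cancel]
    have he0sq : e0⁻¹ = e0 := L.fam.inv_ww hz hz1 h2.1
    have he01 : e0 ≠ 1 := by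
      intro h
      rw [h, R.pi_one L.fam] at h3
      exact L.vr_ne hx hx1 hxz hr h3.symm
    -- `d` fixes `e0`
    have hde : d * e0 * d⁻¹ = e0 := by
      have h4 := L.conj_one hx hx1 hxz hF hS hu
      have h5 := L.conj_kk hx hx1 hxz hF hS huk
      have h6 := L.conj_two hx hx1 hxz hF hS hn
      have h7 := L.conj_kk hx hx1 hxz hF hS hnk
      have e : d * e0 * d⁻¹ = (d * u * d⁻¹ * (d * n * d⁻¹) * (d * u * d⁻¹)⁻¹ * (d * n * d⁻¹)⁻¹)⁻¹ := by
        rw [he0]; group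
      rcases key _ h4 h5 _ h6 h7 with h | h
      · exfalso
        rw [h, inv_one] at e
        exact he01 (conj_eq_one_iff.mp e)
      · rw [e, h, he0sq]
    refine ⟨x * e0, mul_mem hxW h2.1, mul_mem hxp h2.2, ?_, ?_⟩
    · rw [R.pi_mul x hxW e0 h2.1, h3, L.sys.add_cancel]
    · calc d * (x * e0) * d⁻¹ = (d * x * d⁻¹) * (d * e0 * d⁻¹) := by group
        _ = x * e0 := by rw [hdx, hde]

/-- the radical is `{0, r}`: `C_G(V)` fixes `r` -/
theorem smul_r (hrad : ∀ m, (∀ y, B m y = 0) → m = 0 ∨ m = r) (hr : Rd B r) (hr0 : r ≠ 0) (k : H) :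
    k • r = r := by
  rcases hrad (k • r) (fun y => by
    have h1 := L.form k r (k⁻¹ • y)
    rw [smul_inv_smul] at h1
    rw [h1]
    exact L.sys.rd_left hr _) with h | h
  · exfalso
    apply hr0
    rw [← inv_smul_smul k r, h, smul_zero]
  · exact h

theorem seven_two (hrad : ∀ m, (∀ y, B m y = 0) → m = 0 ∨ m = r) (hr : Rd B r) (hr0 : r ≠ 0)
    (pl : ∀ u ∈ TT, ∀ v ∈ TT, u ≠ v → B u v = 0 → u + v + r ∈ TT)
    (swap : ∀ c, Far V z cf x c → ∃ d, Sw z cf x c d)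
    (tri : ∀ c, Far V z cf x c → ∀ n ∈ cj c (ww V cf z), n ∈ kk V cf x → Tri R B x n)
    (ntri : ∀ c, Far V z cf x c → ∃ w ∈ cj c (ww V cf z), ¬ Tri R B x w)
    {q : G} (hq : q ∈ qq V cf x) (hqV : q ∉ centralizer (V : Set G)) (hF : Far V z cf x c) :
    ∃ ρ ∈ ww V cf z, ∃ ρ' ∈ ww V cf z, R.pi ρ = r ∧ R.pi ρ' = r ∧ c * z * c⁻¹ = q * ρ' * q⁻¹ * ρ := by
  have hz := L.fam.ln.z_mem
  have hz1 := L.fam.ln.z_ne
  have hqc : q ∈ cf x := L.fam.qq_le_cf hq
  have hqz : q * z * q⁻¹ = x * z := L.fam.move hx hx1 hz hz1 (Ne.symm hxz) hq hqV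
  have hxz1 : x * z ≠ 1 := L.fam.mul_ne_one hz hxz
  have hxzV : x * z ∈ V := mul_mem hx hz
  have hpx : c * z * c⁻¹ ∈ ww V cf x :=
    conj_mem_of_normalizer L.fam.cf_norm hF.mem (L.fam.V_le hz)
  -- `c' = q⁻¹ c`
  have hc' : q⁻¹ * c ∈ cf x := mul_mem (inv_mem hqc) hF.mem
  have hp' : q⁻¹ * c * z * (q⁻¹ * c)⁻¹ = c * z * c⁻¹ ∨ q⁻¹ * c * z * (q⁻¹ * c)⁻¹ = x * (c * z * c⁻¹) := by
    have h1 := L.fam.qq_cases hx (inv_mem hq) hpx
    have e : q⁻¹ * c * z * (q⁻¹ * c)⁻¹ = q⁻¹ * (c * z * c⁻¹) * q⁻¹⁻¹ := by group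
    rw [e]; exact h1
  have hF' : Far V z cf x (q⁻¹ * c) := by
    refine ⟨hc', ?_, ?_⟩
    · rcases hp' with e | e
      · rw [e]; exact hF.cent
      · rw [e]; exact mul_mem (L.fam.V_le_kk hz hz1 hx) hF.cent
    · intro hcon
      apply hF.nmem
      rcases hp' with e | e
      · rw [← e]; exact hcon
      · rw [e] at hcon
        have := mul_mem hx hcon
        rwa [← mul_assoc, L.fam.ln.sq x hx, one_mul] at this
  obtain ⟨d, hS⟩ := swap c hF
  obtain ⟨d', hS'⟩ := swap _ hF'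
  obtain ⟨ρ, hρ, hρp, hρr, hρd⟩ := L.seven_one hx hx1 hxz hr pl hF hS (tri c hF) (ntri c hF)
  obtain ⟨ρ', hρ', hρp', hρr', hρd'⟩ := L.seven_one hx hx1 hxz hr pl hF' hS' (tri _ hF') (ntri _ hF')
  refine ⟨ρ, hρ, ρ', hρ', hρr, hρr', ?_⟩
  -- `ρ_s = q ρ' q⁻¹`
  have hsW : q * ρ' * q⁻¹ ∈ ww V cf (x * z) := by
    have := L.fam.conj_ww (L.fam.qq_le_normalizer hx hq) hz hz1 hρ'
    rwa [hqz] at this
  -- `k = d⁻¹ q d' ∈ C_G(V)`
  have hk : d⁻¹ * (q * d') ∈ centralizer (V : Set G) := by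
    refine L.cent_of hx hx1 hxz (mul_mem (inv_mem hS.mem) (mul_mem hqc hS'.mem)) ?_
    have e1 := hS'.one
    have e2 := hS.one
    calc d⁻¹ * (q * d') * z * (d⁻¹ * (q * d'))⁻¹ = d⁻¹ * (q * (d' * z * d'⁻¹) * q⁻¹) * d := by group
      _ = d⁻¹ * (c * z * c⁻¹) * d := by rw [e1]; group
      _ = d⁻¹ * (d * z * d⁻¹) * d := by rw [e2]
      _ = z := by group
  set k := d⁻¹ * (q * d') with hkd
  have hkρ : k * ρ' * k⁻¹ ∈ ww V cf z := conj_mem_of_normalizer (L.fam.cent_norm hz hz1) hk hρ'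
  have hkr : R.pi (k * ρ' * k⁻¹) = R.pi ρ := by
    rw [← R.act k (L.fam.cent_le_cf hz hz1 hk) ρ' hρ', hρr', hρr]
    exact L.smul_r hx hx1 hxz hrad hr hr0 _
  have hsd : q * ρ' * q⁻¹ = d * (k * ρ' * k⁻¹) * d⁻¹ := by
    calc q * ρ' * q⁻¹ = q * (d' * ρ' * d'⁻¹) * q⁻¹ := by rw [hρd']
      _ = d * (k * ρ' * k⁻¹) * d⁻¹ := by rw [hkd]; group
  rcases (R.pi_eq L.fam hkρ hρ).mp hkr with e | e
  · -- `ρ_s = ρ`: impossible
    exfalso
    rw [hsd, e, hρd] at hsW
    have h1 : ρ ∈ V := by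
      have := L.fam.mem_jj hz hz1 hxzV hxz1 (fun e' => hx1 (by simpa using e')) hρ hsW
      rwa [L.jj] at this
    rcases L.inf_V hx hx1 hxz hF h1 hρp with h2 | h2
    · rw [h2, R.pi_one L.fam] at hρr
      exact hr0 hρr.symm
    · rw [h2] at hρr
      exact L.vr_ne hx hx1 hxz hr (by rw [hρr, L.sys.two])
  · rw [hsd, e]
    have h1 : ρ * ρ = 1 := L.fam.sq hz hz1 ρ hρ
    have h2 : d * (z * ρ) * d⁻¹ = (d * z * d⁻¹) * (d * ρ * d⁻¹) := by group
    rw [h2, hρd, hS.one, mul_assoc (c * z * c⁻¹), h1, mul_one]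

/-- all the points of `D_x - V` are in one coset of `V` -/
theorem seven_three {q c1 c2 : G} (hq : q ∈ qq V cf x)
    (h1 : ∃ ρ ∈ ww V cf z, ∃ ρ' ∈ ww V cf z, R.pi ρ = r ∧ R.pi ρ' = r ∧ c1 * z * c1⁻¹ = q * ρ' * q⁻¹ * ρ)
    (h2 : ∃ ρ ∈ ww V cf z, ∃ ρ' ∈ ww V cf z, R.pi ρ = r ∧ R.pi ρ' = r ∧ c2 * z * c2⁻¹ = q * ρ' * q⁻¹ * ρ) :
    c1 * z * c1⁻¹ * (c2 * z * c2⁻¹)⁻¹ ∈ V := by
  have hz := L.fam.ln.z_mem
  have hz1 := L.fam.ln.z_ne
  obtain ⟨a, ha, a', ha', har, har', ea⟩ := h1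
  obtain ⟨b, hb, b', hb', hbr, hbr', eb⟩ := h2
  have hab : a * b⁻¹ ∈ V := by
    rcases (R.pi_eq L.fam ha hb).mp (har.trans hbr.symm) with e | e
    · rw [e, mul_inv_cancel]; exact one_mem _
    · rw [e, mul_inv_cancel_right]; exact hz
  have hab' : a' * b'⁻¹ ∈ V := by
    rcases (R.pi_eq L.fam ha' hb').mp (har'.trans hbr'.symm) with e | e
    · rw [e, mul_inv_cancel]; exact one_mem _
    · rw [e, mul_inv_cancel_right]; exact hz
  have hqn := L.fam.qq_le_normalizer hx hq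
  have hv := L.fam.conj_pt' hqn hab
  have hcom : (q⁻¹ * (a * b⁻¹) * q) * b'⁻¹ = b'⁻¹ * (q⁻¹ * (a * b⁻¹) * q) :=
    L.fam.V_comm hv (inv_mem (L.fam.ww_le_cent hz hz1 hb'))
  rw [ea, eb]
  have e : q * a' * q⁻¹ * a * (q * b' * q⁻¹ * b)⁻¹ =
      (q * (a' * b'⁻¹) * q⁻¹) * (a * b⁻¹) := by
    calc q * a' * q⁻¹ * a * (q * b' * q⁻¹ * b)⁻¹ = q * a' * ((q⁻¹ * (a * b⁻¹) * q) * b'⁻¹) * q⁻¹ := by group
      _ = q * a' * (b'⁻¹ * (q⁻¹ * (a * b⁻¹) * q)) * q⁻¹ := by rw [hcom]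
      _ = (q * (a' * b'⁻¹) * q⁻¹) * (a * b⁻¹) := by group
  rw [e]
  exact mul_mem (L.fam.conj_pt hqn hab') hab

end seven

/-- **Section 7**: `r = 0`. -/
theorem r_eq_zero {T' : Subgroup G} {M' H' : Type u} [AddCommGroup M'] [Group H'] [DistribMulAction H' M']
    {R' : MRep V cf x M' H'} {TT' : Set M'} {B' : M' → M' → ZMod 2} (L : Loc T V z cf R TT B)
    (L' : Loc T' V x cf R' TT' B') (pts : ∀ t ∈ TT', ∃ c ∈ cf x, t = R'.pi (c * z * c⁻¹))
    (hrad : ∀ m, (∀ y, B m y = 0) → m = 0 ∨ m = r) (hr : Rd B r)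
    (pl : ∀ u ∈ TT, ∀ v ∈ TT, u ≠ v → B u v = 0 → u + v + r ∈ TT) (hxz : x ≠ z)
    (swap : ∀ c, Far V z cf x c → ∃ d, Sw z cf x c d)
    (tri : ∀ c, Far V z cf x c → ∀ n ∈ cj c (ww V cf z), n ∈ kk V cf x → Tri R B x n)
    (ntri : ∀ c, Far V z cf x c → ∃ w ∈ cj c (ww V cf z), ¬ Tri R B x w)
    (ex : ∃ c, Far V z cf x c) : r = 0 := by
  by_contra hr0
  have hz := L.fam.ln.z_mem
  have hz1 := L.fam.ln.z_ne
  have hx := L'.fam.ln.z_mem
  have hx1 := L'.fam.ln.z_ne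
  obtain ⟨q, hq, hqV⟩ := L.fam.exists_mover hx hx1
  obtain ⟨c, hF⟩ := ex
  have hv0 : R'.pi z ∈ TT' := L'.mem z hz hz1 (Ne.symm hxz)
  have hW : ∀ c ∈ cf x, c * z * c⁻¹ ∈ ww V cf x := fun c hc =>
    conj_mem_of_normalizer L.fam.cf_norm hc (L.fam.V_le hz)
  -- `μ = p mod x`
  have hmem : ∀ c ∈ cf x, R'.pi (c * z * c⁻¹) ∈ TT' := fun c hc => by
    rw [← R'.act c hc z (L.fam.V_le hz)]
    exact L'.map _ _ hv0
  have hV : ∀ v ∈ V, R'.pi v = 0 ∨ R'.pi v = R'.pi z := by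
    intro v hv
    rcases L.fam.ln.four hx hz hx1 hz1 hxz hv with e | e | e | e
    · left; rw [e, R'.pi_one L'.fam]
    · left; rw [e, R'.pi_z L'.fam]
    · right; rw [e]
    · right
      rw [e, R'.pi_mul x L'.fam.z_mem_ww z (L'.fam.V_le hz), R'.pi_z L'.fam, zero_add]
  have two := fun c1 (h : Far V z cf x c1) => L.seven_two hx hx1 hxz hrad hr hr0 pl swap tri ntri hq hqV h
  -- `μ = p mod x`
  set μ := R'.pi (c * z * c⁻¹) with hμ
  have hμT : μ ∈ TT' := hmem c hF.mem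
  have hμv : B' μ (R'.pi z) = 0 := (L'.perp z hz hz1 (Ne.symm hxz) _ (hW c hF.mem)).mpr hF.cent
  have hμne : μ ≠ R'.pi z := by
    intro e
    rcases (R'.pi_eq L'.fam (hW c hF.mem) (L.fam.V_le hz)).mp e with e | e
    · exact hF.nmem (by rw [e]; exact hz)
    · exact hF.nmem (by rw [e]; exact mul_mem hx hz)
  obtain ⟨u, hu, huv, huμ⟩ := L'.sys.exists_nonperp L'.inj hv0 hμT hμne
  obtain ⟨c1, hc1, rfl⟩ := pts u hu
  have huv' : B' (R'.pi (c1 * z * c1⁻¹)) (R'.pi z) = 0 := by rw [L'.sys.symm]; exact huv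
  have hF1 : Far V z cf x c1 := by
    refine ⟨hc1, (L'.perp z hz hz1 (Ne.symm hxz) _ (hW c1 hc1)).mp huv', fun hcon => ?_⟩
    rcases hV _ hcon with e | e
    · rw [e, L'.sys.zero_left] at huμ
      exact zero_ne_one huμ
    · rw [e, L'.sys.symm, hμv] at huμ
      exact zero_ne_one huμ
  have h3 := L.seven_three hx hx1 hxz hq (two c1 hF1) (two c hF)
  have h4 : R'.pi (c1 * z * c1⁻¹) = R'.pi (c1 * z * c1⁻¹ * (c * z * c⁻¹)⁻¹) + μ := by
    rw [hμ, ← R'.pi_mul _ (mul_mem (hW c1 hc1) (inv_mem (hW c hF.mem))) _ (hW c hF.mem)]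
    congr 1; group
  rw [h4, L'.sys.add_left, L'.sys.alt, add_zero] at huμ
  rcases hV _ h3 with e | e
  · rw [e, L'.sys.zero_left] at huμ
    exact zero_ne_one huμ
  · rw [e, L'.sys.symm, hμv] at huμ
    exact zero_ne_one huμ

end Loc

end Cfsg.Agent.Omega.NO3S.TV

end

end

-- merged: Cfsg.Agent.Omega.NO3S.TV.Eight
section

/-!
# NO-3S, `q = 2`, `n = 1`, transvection types (helper311's text #16747): section 8 (helper918, #17106)

Abstract form of the situation `r = 0` (all elements of `W_x - ⟨x⟩` are points on `x`).  `R x y` : `x, y` are two points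
of a line, `W x y` : the group `W_y` of the line `⟨x, y⟩` AT THE POINT `y`.

* `Dat R W` : the hypotheses;
* `bf W x a m : ZMod 2` : the symplectic form on `W_x / ⟨x⟩`;
* `Dat.false` : there is no such configuration with `D_x > V`.
-/

set_option autoImplicit false

namespace Cfsg.Agent.Omega.NO3S.TV.Eight

open Subgroup

universe u

variable {G : Type u} [Group G]

/-- `a` centralizes `A` -/
def Cz (A : Subgroup G) (a : G) : Prop := ∀ b ∈ A, a * b = b * a

/-- the line `⟨x, y⟩` -/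
def ln (x y : G) : Subgroup G := closure {x, y}

/-- **The hypotheses of section 8.** -/
structure Dat (R : G → G → Prop) (W : G → G → Subgroup G) : Prop where
  symm : ∀ {x y : G}, R x y → R y x
  third : ∀ {x y : G}, R x y → R x (x * y)
  ne : ∀ {x y : G}, R x y → x ≠ y
  ne1 : ∀ {x y : G}, R x y → x ≠ 1
  sq : ∀ {x y : G}, R x y → ∀ a ∈ W x y, a * a = 1
  mem : ∀ {x y : G}, R x y → x ∈ W x y ∧ y ∈ W x y
  w_third : ∀ {x y : G}, R x y → W (x * y) y = W x y
  inter : ∀ {x y : G}, R x y → ∀ a, a ∈ W x y → a ∈ W y x → a = 1 ∨ a = x ∨ a = y ∨ a = x * y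
  cm : ∀ {x y : G}, R x y → ∀ a ∈ W x y, ∀ b ∈ W y x, a * b * a⁻¹ * b⁻¹ = 1 ∨ a * b * a⁻¹ * b⁻¹ = x * y
  idx : ∀ {x y : G}, R x y → ∀ a ∈ W y x, ∀ b ∈ W y x, ¬ Cz (W x y) a → ¬ Cz (W x y) b → Cz (W x y) (a * b)
  nc : ∀ {x y : G}, R x y → ∃ a ∈ W y x, ¬ Cz (W x y) a
  pt : ∀ {x y : G}, R x y → ∀ m ∈ W y x, m ≠ 1 → m ≠ x → R x m ∧ W m x = W y x
  perp : ∀ {x y : G}, R x y → ∀ m ∈ W y x, m ≠ 1 → m ≠ x → Cz (W x y) m → Cz (W x m) y
  conj : ∀ {x y : G} (g : G), R x y → R (g * x * g⁻¹) (g * y * g⁻¹)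
  wconj : ∀ {x y : G} (g : G), R x y → ∀ a ∈ W x y, g * a * g⁻¹ ∈ W (g * x * g⁻¹) (g * y * g⁻¹)
  gg : ∀ {x y : G}, R x y → ∀ c : G, c * x = x * c → c * y = y * c →
    (∀ d ∈ W y x, Cz (W x y) d → c * d * c⁻¹ * d⁻¹ ∈ ln x y) →
      ∀ d ∈ W x y, Cz (W y x) d → c * d * c⁻¹ * d⁻¹ ∈ ln x y

open Classical in
/-- the form on `W_x / ⟨x⟩` -/
noncomputable def bf (W : G → G → Subgroup G) (x a m : G) : ZMod 2 :=
  if m = 1 ∨ m = x ∨ Cz (W x m) a then 0 else 1

/-- `a ^ i`, `i ∈ F₂` -/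
def pw (a : G) (i : ZMod 2) : G := if i = 0 then 1 else a

@[simp] theorem pw_zero (a : G) : pw a 0 = 1 := by simp [pw]
@[simp] theorem pw_one (a : G) : pw a 1 = a := by simp [pw]

theorem pw_mem {A : Subgroup G} {a : G} (ha : a ∈ A) (i : ZMod 2) : pw a i ∈ A := by
  unfold pw
  split
  · exact one_mem _
  · exact ha

theorem z2 (i : ZMod 2) : i = 0 ∨ i = 1 := by
  revert i; decide

theorem z2_add_self (i : ZMod 2) : i + i = 0 := by
  revert i; decide

theorem z2_ne {i : ZMod 2} (h : i ≠ 0) : i = 1 := (z2 i).resolve_left h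

theorem Cz.mul {A : Subgroup G} {a b : G} (ha : Cz A a) (hb : Cz A b) : Cz A (a * b) := by
  intro c hc
  calc a * b * c = a * (b * c) := by group
    _ = a * c * b := by rw [hb c hc]; group
    _ = c * (a * b) := by rw [ha c hc]; group

theorem Cz.one (A : Subgroup G) : Cz A 1 := fun c _ => by simp

theorem Cz.inv {A : Subgroup G} {a : G} (ha : Cz A a) : Cz A a⁻¹ := by
  intro c hc
  have := ha c hc
  calc a⁻¹ * c = a⁻¹ * (c * a) * a⁻¹ := by group
    _ = a⁻¹ * (a * c) * a⁻¹ := by rw [this]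
    _ = c * a⁻¹ := by group

theorem comm_of_sq {A : Subgroup G} (h : ∀ a ∈ A, a * a = 1) {a b : G} (ha : a ∈ A) (hb : b ∈ A) :
    a * b = b * a := by
  have h1 := h a ha
  have h2 := h b hb
  have h3 := h _ (A.mul_mem ha hb)
  calc a * b = (b * b) * (a * b) * (a * a) := by rw [h1, h2]; group
    _ = b * (b * a * (b * a)) * a := by group
    _ = b * (b * (a * b * (a * b)) * b⁻¹) * a := by group
    _ = b * a := by rw [h3]; group

namespace Dat

variable {R : G → G → Prop} {W : G → G → Subgroup G}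

section basic

variable (S : Dat R W) {x y : G}
include S

theorem ne1' (h : R x y) : y ≠ 1 := S.ne1 (S.symm h)

theorem inv_eq (h : R x y) {a : G} (ha : a ∈ W x y) : a⁻¹ = a := by
  rw [inv_eq_iff_mul_eq_one]; exact S.sq h a ha

theorem comm (h : R x y) {a b : G} (ha : a ∈ W x y) (hb : b ∈ W x y) : a * b = b * a :=
  comm_of_sq (S.sq h) ha hb

theorem xy_comm (h : R x y) : x * y = y * x := S.comm h (S.mem h).1 (S.mem h).2

theorem xx (h : R x y) : x * x = 1 := S.sq h x (S.mem h).1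

theorem yy (h : R x y) : y * y = 1 := S.sq h y (S.mem h).2

/-- `R y s`, `s = x y` -/
theorem third' (h : R x y) : R y (x * y) := by
  have := S.third (S.symm h)
  rwa [← S.xy_comm h] at this

theorem x_third (h : R x y) : x * (x * y) = y := by rw [← mul_assoc, S.xx h, one_mul]

theorem y_third (h : R x y) : y * (x * y) = x := by
  rw [S.xy_comm h, ← mul_assoc, S.yy h, one_mul]

/-- `W_s` -/
theorem w_s (h : R x y) : W y (x * y) = W x (x * y) := by
  have := S.w_third (S.third h)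
  rwa [S.x_third h] at this

/-- `W_x` -/
theorem w_x (h : R x y) : W (x * y) x = W y x := by
  have := S.w_third (S.symm h)
  rwa [← S.xy_comm h] at this

theorem mem_ln (h : R x y) {a : G} : a ∈ ln x y ↔ a = 1 ∨ a = x ∨ a = y ∨ a = x * y := by
  have hxy := S.xy_comm h
  have hxx := S.xx h
  have hyy := S.yy h
  constructor
  · intro ha
    have hle : ln x y ≤
        { carrier := {a | a = 1 ∨ a = x ∨ a = y ∨ a = x * y}
          mul_mem' := by
            rintro a b (rfl | rfl | rfl | rfl) (rfl | rfl | rfl | rfl)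
            · simp
            · simp
            · simp
            · simp
            · simp
            · left; exact hxx
            · simp
            · right; right; left; rw [← mul_assoc, hxx, one_mul]
            · simp
            · right; right; right; exact hxy.symm
            · left; exact hyy
            · right; left; rw [hxy, ← mul_assoc, hyy, one_mul]
            · simp
            · right; right; left; rw [hxy, mul_assoc, hxx, mul_one]
            · right; left; rw [mul_assoc, hyy, mul_one]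
            · left
              calc x * y * (x * y) = x * (y * x) * y := by group
                _ = (x * x) * (y * y) := by rw [← hxy]; group
                _ = 1 := by rw [hxx, hyy, mul_one]
          one_mem' := Or.inl rfl
          inv_mem' := by
            rintro a (rfl | rfl | rfl | rfl)
            · simp
            · right; left; exact inv_eq_of_mul_eq_one_left hxx
            · right; right; left; exact inv_eq_of_mul_eq_one_left hyy
            · right; right; right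
              rw [mul_inv_rev, inv_eq_of_mul_eq_one_left hxx, inv_eq_of_mul_eq_one_left hyy, hxy] } := by
      refine (closure_le _).mpr ?_
      rintro _ (rfl | rfl)
      · exact Or.inr (Or.inl rfl)
      · exact Or.inr (Or.inr (Or.inl rfl))
    exact hle ha
  · have h1 : x ∈ ln x y := subset_closure (Or.inl rfl)
    have h2 : y ∈ ln x y := subset_closure (Or.inr rfl)
    rintro (rfl | rfl | rfl | rfl)
    · exact one_mem _
    · exact h1
    · exact h2
    · exact mul_mem h1 h2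

end basic

/-! ### the form -/

section form

variable (S : Dat R W) {x y : G}
include S

theorem bf_zero_iff (h : R x y) {a : G} : bf W x a y = 0 ↔ Cz (W x y) a := by
  unfold bf
  have h1 := S.ne1' h
  have h2 := (S.ne h).symm
  constructor
  · intro e
    by_contra hc
    rw [if_neg (by simp [h1, h2, hc])] at e
    exact one_ne_zero e
  · intro hc
    rw [if_pos (Or.inr (Or.inr hc))]

theorem bf_one_iff (h : R x y) {a : G} : bf W x a y = 1 ↔ ¬ Cz (W x y) a := by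
  rw [← S.bf_zero_iff h]
  constructor
  · intro e; rw [e]; exact one_ne_zero
  · exact z2_ne

omit S in
theorem bf_one_right (x a : G) : bf W x a 1 = 0 := by simp [bf]

omit S in
theorem bf_x_right (x a : G) : bf W x a x = 0 := by simp [bf]

/-- a point of `W_x` -/
theorem pt_cases (h : R x y) {m : G} (hm : m ∈ W y x) : m = 1 ∨ m = x ∨ (R x m ∧ W m x = W y x) := by
  by_cases h1 : m = 1
  · exact Or.inl h1
  by_cases h2 : m = x
  · exact Or.inr (Or.inl h2)
  exact Or.inr (Or.inr (S.pt h m hm h1 h2))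

theorem bf_one_left (h : R x y) {m : G} (hm : m ∈ W y x) : bf W x 1 m = 0 := by
  rcases S.pt_cases h hm with rfl | rfl | ⟨h1, -⟩
  · exact bf_one_right _ _
  · exact bf_x_right _ _
  · exact (S.bf_zero_iff h1).mpr (Cz.one _)

theorem bf_x_left (h : R x y) {m : G} (hm : m ∈ W y x) : bf W x x m = 0 := by
  rcases S.pt_cases h hm with rfl | rfl | ⟨h1, -⟩
  · exact bf_one_right _ _
  · exact bf_x_right _ _
  · exact (S.bf_zero_iff h1).mpr fun b hb => S.comm h1 (S.mem h1).1 hb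

theorem bf_self (h : R x y) {m : G} (hm : m ∈ W y x) : bf W x m m = 0 := by
  rcases S.pt_cases h hm with rfl | rfl | ⟨h1, -⟩
  · exact bf_one_right _ _
  · exact bf_x_right _ _
  · exact (S.bf_zero_iff h1).mpr fun b hb => S.comm h1 (S.mem h1).2 hb

theorem bf_symm (h : R x y) {a m : G} (ha : a ∈ W y x) (hm : m ∈ W y x) : bf W x a m = bf W x m a := by
  rcases S.pt_cases h hm with rfl | rfl | ⟨h1, e1⟩
  · rw [bf_one_right, S.bf_one_left h ha]
  · rw [bf_x_right, S.bf_x_left h ha]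
  rcases S.pt_cases h ha with rfl | rfl | ⟨h2, e2⟩
  · rw [bf_one_right, S.bf_one_left h hm]
  · rw [bf_x_right, S.bf_x_left h hm]
  have key : ∀ a m : G, R x a → R x m → W a x = W m x → bf W x a m = 0 → bf W x m a = 0 := by
    intro a m h2 h1 e h3
    rw [S.bf_zero_iff h1] at h3
    rw [S.bf_zero_iff h2]
    refine S.perp h1 a ?_ (S.ne1' h2) (S.ne h2).symm h3
    rw [← e]
    exact (S.mem (S.symm h2)).1
  rcases z2 (bf W x a m) with h3 | h3
  · rw [h3, key a m h2 h1 (by rw [e1, e2]) h3]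
  · rw [h3]
    symm
    refine z2_ne fun h4 => ?_
    rw [key m a h1 h2 (by rw [e1, e2]) h4] at h3
    exact zero_ne_one h3

theorem bf_mul_left (h : R x y) {a b m : G} (ha : a ∈ W y x) (hb : b ∈ W y x) (hm : m ∈ W y x) :
    bf W x (a * b) m = bf W x a m + bf W x b m := by
  rcases S.pt_cases h hm with rfl | rfl | ⟨h1, e1⟩
  · simp [bf_one_right]
  · simp [bf_x_right]
  rw [← e1] at ha hb
  have hinv : ∀ c ∈ W m x, c⁻¹ = c := fun c hc => S.inv_eq (S.symm h1) hc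
  rcases z2 (bf W x a m) with h2 | h2 <;> rcases z2 (bf W x b m) with h3 | h3
  · rw [h2, h3, add_zero]
    rw [S.bf_zero_iff h1] at h2 h3 ⊢
    exact h2.mul h3
  · rw [h2, h3, zero_add]
    rw [S.bf_zero_iff h1] at h2
    rw [S.bf_one_iff h1] at h3 ⊢
    intro h4
    apply h3
    have := h2.inv.mul h4
    rwa [inv_mul_cancel_left] at this
  · rw [h2, h3, add_zero]
    rw [S.bf_zero_iff h1] at h3
    rw [S.bf_one_iff h1] at h2 ⊢
    intro h4
    apply h2
    have := h4.mul h3.inv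
    rwa [mul_inv_cancel_right] at this
  · rw [h2, h3]
    rw [S.bf_one_iff h1] at h2 h3
    rw [(S.bf_zero_iff h1).mpr (S.idx h1 a ha b hb h2 h3)]
    decide

theorem bf_mul_right (h : R x y) {a b m : G} (ha : a ∈ W y x) (hb : b ∈ W y x) (hm : m ∈ W y x) :
    bf W x m (a * b) = bf W x m a + bf W x m b := by
  rw [S.bf_symm h hm (mul_mem ha hb), S.bf_mul_left h ha hb hm, S.bf_symm h ha hm, S.bf_symm h hb hm]

/-- the radical is `⟨x⟩` -/
theorem rad (h : R x y) {m : G} (hm : m ∈ W y x) (h1 : m ≠ 1) (hx : m ≠ x) : ∃ a ∈ W y x, bf W x a m = 1 := by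
  obtain ⟨h2, e⟩ := S.pt h m hm h1 hx
  obtain ⟨a, ha, hc⟩ := S.nc h2
  exact ⟨a, by rwa [← e], (S.bf_one_iff h2).mpr hc⟩

theorem rad' (h : R x y) {m : G} (hm : m ∈ W y x) (h0 : ∀ a ∈ W y x, bf W x a m = 0) : m = 1 ∨ m = x := by
  by_contra hc
  push Not at hc
  obtain ⟨a, ha, h1⟩ := S.rad h hm hc.1 hc.2
  rw [h0 a ha] at h1
  exact zero_ne_one h1

theorem wconj_iff (g : G) (h : R x y) {a : G} : g * a * g⁻¹ ∈ W (g * x * g⁻¹) (g * y * g⁻¹) ↔ a ∈ W x y := by
  refine ⟨fun h1 => ?_, fun h1 => S.wconj g h a h1⟩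
  have h2 := S.wconj g⁻¹ (S.conj g h) _ h1
  have e : ∀ a : G, g⁻¹ * (g * a * g⁻¹) * g⁻¹⁻¹ = a := fun a => by group
  rwa [e, e, e] at h2

theorem bf_conj (g : G) (h : R x y) {a m : G} (hm : m ∈ W y x) :
    bf W (g * x * g⁻¹) (g * a * g⁻¹) (g * m * g⁻¹) = bf W x a m := by
  rcases S.pt_cases h hm with rfl | rfl | ⟨h1, e1⟩
  · have e : g * 1 * g⁻¹ = 1 := by group
    rw [e, bf_one_right, bf_one_right]
  · rw [bf_x_right, bf_x_right]
  have key : Cz (W (g * x * g⁻¹) (g * m * g⁻¹)) (g * a * g⁻¹) ↔ Cz (W x m) a := by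
    constructor
    · intro h2 b hb
      have := h2 _ (S.wconj g h1 b hb)
      calc a * b = g⁻¹ * (g * a * g⁻¹ * (g * b * g⁻¹)) * g := by group
        _ = g⁻¹ * (g * b * g⁻¹ * (g * a * g⁻¹)) * g := by rw [this]
        _ = b * a := by group
    · intro h2 b hb
      have h3 : g⁻¹ * b * g ∈ W x m := by
        rw [← S.wconj_iff g h1]
        have e : g * (g⁻¹ * b * g) * g⁻¹ = b := by group
        rwa [e]
      have := h2 _ h3
      calc g * a * g⁻¹ * b = g * (a * (g⁻¹ * b * g)) * g⁻¹ := by group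
        _ = g * ((g⁻¹ * b * g) * a) * g⁻¹ := by rw [this]
        _ = b * (g * a * g⁻¹) := by group
  rcases z2 (bf W x a m) with h2 | h2
  · rw [h2, S.bf_zero_iff (S.conj g h1), key, ← S.bf_zero_iff h1, h2]
  · rw [h2, S.bf_one_iff (S.conj g h1), key, ← S.bf_one_iff h1, h2]

/-- the commutator formula -/
theorem cm_eq (h : R x y) {a b : G} (ha : a ∈ W y x) (hb : b ∈ W x y) :
    b * a * b⁻¹ = pw (x * y) (bf W x a y * bf W y b x) * a := by
  have hs := S.symm h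
  rcases z2 (bf W x a y) with h1 | h1
  · rw [h1, zero_mul, pw_zero, one_mul]
    rw [S.bf_zero_iff h] at h1
    rw [← h1 b hb]; group
  rcases z2 (bf W y b x) with h2 | h2
  · rw [h2, mul_zero, pw_zero, one_mul]
    rw [S.bf_zero_iff hs] at h2
    rw [h2 a ha]; group
  rw [h1, h2, mul_one, pw_one]
  rcases S.cm h b hb a ha with e | e
  · exfalso
    have hab : b * a = a * b := by
      calc b * a = (b * a * b⁻¹ * a⁻¹) * (a * b) := by group
        _ = a * b := by rw [e, one_mul]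
    rw [S.bf_one_iff h] at h1
    rw [S.bf_one_iff hs] at h2
    apply h1
    intro c hc
    by_cases hcc : Cz (W y x) c
    · exact (hcc a ha).symm
    · have h3 := S.idx hs b hb c hc h2 hcc a ha
      have h4 : b * (a * c) = b * (c * a) := by
        calc b * (a * c) = (b * a) * c := by group
          _ = a * (b * c) := by rw [hab]; group
          _ = (b * c) * a := h3.symm
          _ = b * (c * a) := by group
      exact mul_left_cancel h4
  · calc b * a * b⁻¹ = (b * a * b⁻¹ * a⁻¹) * a := by group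
      _ = x * y * a := by rw [e]

/-! ### double perpendiculars -/

theorem bf_pw_right (h : R x y) {a m : G} (hm : m ∈ W y x) (i : ZMod 2) :
    bf W x m (pw a i) = i * bf W x m a := by
  rcases z2 i with rfl | rfl
  · rw [pw_zero, zero_mul, S.bf_symm h hm (one_mem _), S.bf_one_left h hm]
  · rw [pw_one, one_mul]

theorem bf_pw_left (h : R x y) {a m : G} (ha : a ∈ W y x) (hm : m ∈ W y x) (i : ZMod 2) :
    bf W x (pw a i) m = i * bf W x a m := by
  rw [S.bf_symm h (pw_mem ha i) hm, S.bf_pw_right h hm, S.bf_symm h hm ha]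

/-- `b ∉ ⟨x, a⟩`: some `c ⊥ a` is not `⊥ b` -/
theorem dp1 (h : R x y) {a b : G} (ha : a ∈ W y x) (hb : b ∈ W y x)
    (h0 : ∀ c ∈ W y x, bf W x c a = 0 → bf W x c b = 0) : b = 1 ∨ b = x ∨ b = a ∨ b = x * a := by
  by_cases h1 : ∀ c ∈ W y x, bf W x c b = 0
  · rcases S.rad' h hb h1 with e | e
    · exact Or.inl e
    · exact Or.inr (Or.inl e)
  push Not at h1
  obtain ⟨c, hc, hcb⟩ := h1
  have hcb := z2_ne hcb
  have hca : bf W x c a = 1 := by
    refine z2_ne fun e => ?_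
    rw [h0 c hc e] at hcb
    exact zero_ne_one hcb
  have h2 : ∀ d ∈ W y x, bf W x d (b * a) = 0 := by
    intro d hd
    rw [S.bf_mul_right h hb ha hd]
    rcases z2 (bf W x d a) with h3 | h3
    · rw [h3, h0 d hd h3, add_zero]
    · have h4 : bf W x (d * c) a = 0 := by
        rw [S.bf_mul_left h hd hc ha, h3, hca]; decide
      have h5 := h0 _ (mul_mem hd hc) h4
      rw [S.bf_mul_left h hd hc hb, hcb] at h5
      rw [h3, h5]
  have haa := S.inv_eq (S.symm h) ha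
  rcases S.rad' h (mul_mem hb ha) h2 with e | e
  · right; right; left
    rw [← haa]; exact eq_inv_of_mul_eq_one_left e
  · right; right; right
    rw [← haa]; exact eq_mul_inv_of_mul_eq e

theorem dp2 (h : R x y) {a a' b u u' : G} (ha : a ∈ W y x) (ha' : a' ∈ W y x) (hb : b ∈ W y x)
    (hu : u ∈ W y x) (hu' : u' ∈ W y x) (h1 : bf W x u a = 1) (h2 : bf W x u a' = 0) (h3 : bf W x u' a = 0)
    (h4 : bf W x u' a' = 1) (h0 : ∀ c ∈ W y x, bf W x c a = 0 → bf W x c a' = 0 → bf W x c b = 0) :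
    b * pw a (bf W x u b) * pw a' (bf W x u' b) = 1 ∨ b * pw a (bf W x u b) * pw a' (bf W x u' b) = x := by
  have hp := pw_mem ha (bf W x u b)
  have hp' := pw_mem ha' (bf W x u' b)
  refine S.rad' h (mul_mem (mul_mem hb hp) hp') fun c hc => ?_
  rw [S.bf_mul_right h (mul_mem hb hp) hp' hc, S.bf_mul_right h hb hp hc, S.bf_pw_right h hc,
    S.bf_pw_right h hc]
  have hu1 := pw_mem hu (bf W x c a)
  have hu2 := pw_mem hu' (bf W x c a')
  have e1 : bf W x (c * pw u (bf W x c a) * pw u' (bf W x c a')) a = 0 := by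
    rw [S.bf_mul_left h (mul_mem hc hu1) hu2 ha, S.bf_mul_left h hc hu1 ha, S.bf_pw_left h hu ha,
      S.bf_pw_left h hu' ha, h1, h3, mul_one, mul_zero, add_zero]
    exact z2_add_self _
  have e2 : bf W x (c * pw u (bf W x c a) * pw u' (bf W x c a')) a' = 0 := by
    rw [S.bf_mul_left h (mul_mem hc hu1) hu2 ha', S.bf_mul_left h hc hu1 ha', S.bf_pw_left h hu ha',
      S.bf_pw_left h hu' ha', h2, h4, mul_one, mul_zero, add_zero]
    exact z2_add_self _
  have e3 := h0 _ (mul_mem (mul_mem hc hu1) hu2) e1 e2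
  rw [S.bf_mul_left h (mul_mem hc hu1) hu2 hb, S.bf_mul_left h hc hu1 hb, S.bf_pw_left h hu hb,
    S.bf_pw_left h hu' hb] at e3
  rw [← e3]
  ring

/-! ### elements of `Q_x` -/

/-- (1.6) -/
theorem exists_f (h : R x y) : ∃ f, f * x = x * f ∧ ∀ a ∈ W y x, f * a * f⁻¹ = pw x (bf W x a y) * a := by
  obtain ⟨b, hb, hb1⟩ := S.nc (S.symm h)
  rw [← S.bf_one_iff (S.symm h)] at hb1
  have h2 := S.third h
  obtain ⟨c, hc, hc1⟩ := S.nc (S.symm h2)
  rw [← S.bf_one_iff (S.symm h2)] at hc1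
  have hbx := S.comm h hb (S.mem h).1
  have hcx := S.comm h2 hc (S.mem h2).1
  have hby := S.comm h hb (S.mem h).2
  have hyX : y ∈ W y x := (S.mem (S.symm h)).1
  have hxX : x ∈ W y x := (S.mem (S.symm h)).2
  refine ⟨b * c, ?_, fun a ha => ?_⟩
  · calc b * c * x = b * (c * x) := by group
      _ = b * x * c := by rw [hcx]; group
      _ = x * (b * c) := by rw [hbx]; group
  have ha' : a ∈ W (x * y) x := by rw [S.w_x h]; exact ha
  have e1 := S.cm_eq h2 ha' hc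
  have e2 := S.cm_eq h ha hb
  rw [hc1, mul_one, S.x_third h, S.bf_mul_right h hxX hyX ha, bf_x_right, zero_add] at e1
  rw [hb1, mul_one] at e2
  rcases z2 (bf W x a y) with h3 | h3
  · rw [h3, pw_zero, one_mul] at e1 e2 ⊢
    calc b * c * a * (b * c)⁻¹ = b * (c * a * c⁻¹) * b⁻¹ := by group
      _ = a := by rw [e1, e2]
  · rw [h3, pw_one] at e1 e2 ⊢
    calc b * c * a * (b * c)⁻¹ = b * (c * a * c⁻¹) * b⁻¹ := by group
      _ = (b * y) * a * b⁻¹ := by rw [e1]; group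
      _ = y * (b * a * b⁻¹) := by rw [hby]; group
      _ = (y * (x * y)) * a := by rw [e2]; group
      _ = x * a := by rw [S.y_third h]

end form

/-- `f` interchanges `x` and `y` and acts trivially on `W_s / ⟨s⟩` -/
structure Sw (W : G → G → Subgroup G) (x y f : G) : Prop where
  fx : f * x * f⁻¹ = y
  fy : f * y * f⁻¹ = x
  act : ∀ a ∈ W x (x * y), ∃ i : ZMod 2, f * a * f⁻¹ = pw (x * y) i * a

section sw

variable (S : Dat R W) {x y : G}
include S

theorem exists_sw (h : R x y) : ∃ f, Sw W x y f := by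
  have hs := S.third h
  have hs' := S.symm hs
  have hx : x ∈ W x (x * y) := (S.mem hs).1
  have hsm : x * y ∈ W x (x * y) := (S.mem hs).2
  obtain ⟨t, ht, ht1⟩ := S.rad hs' hx (S.ne1 h) (S.ne hs)
  rcases S.pt_cases hs' ht with rfl | rfl | ⟨h2, e⟩
  · rw [S.bf_one_left hs' hx] at ht1; exact absurd ht1 zero_ne_one
  · rw [S.bf_x_left hs' hx] at ht1; exact absurd ht1 zero_ne_one
  obtain ⟨f, hf, hf1⟩ := S.exists_f h2
  rw [e] at hf1
  have e1 : f * x * f⁻¹ = y := by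
    rw [hf1 x hx, S.bf_symm hs' hx ht, ht1, pw_one]
    calc x * y * x = x * (y * x) := by group
      _ = y := by rw [← S.xy_comm h, S.x_third h]
  refine ⟨f, e1, ?_, fun a ha => ⟨_, hf1 a ha⟩⟩
  have e2 : f * (x * y) * f⁻¹ = x * y := by rw [hf]; group
  have e3 : f * y * f⁻¹ = (f * x * f⁻¹)⁻¹ * (f * (x * y) * f⁻¹) := by group
  rw [e3, e1, e2, ← mul_assoc]
  have : y⁻¹ = y := inv_eq_of_mul_eq_one_left (S.yy h)
  rw [this, mul_assoc, S.y_third h]

end sw

/-! ### triples `(x, y; m)`: `m ∈ D_x - V` -/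

section lemA

variable (S : Dat R W) {x y : G}
include S

/-- `f` maps `W_x` to `W_y` -/
theorem Sw.map (h : R x y) {f : G} (F : Sw W x y f) {a : G} : f * a * f⁻¹ ∈ W x y ↔ a ∈ W y x := by
  have := S.wconj_iff f (S.symm h) (a := a)
  rwa [F.fx, F.fy] at this

theorem Sw.map' (h : R x y) {f : G} (F : Sw W x y f) {a : G} (ha : a ∈ W x y) : f⁻¹ * a * f ∈ W y x := by
  rw [← Sw.map S h F]
  have e : f * (f⁻¹ * a * f) * f⁻¹ = a := by group
  rwa [e]

theorem Sw.bf (h : R x y) {f : G} (F : Sw W x y f) {a m : G} (hm : m ∈ W y x) :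
    bf W y (f * a * f⁻¹) (f * m * f⁻¹) = bf W x a m := by
  have := S.bf_conj f h (a := a) hm
  rwa [F.fx] at this

/-- `d ∈ W_x` centralizes `W_s` iff it centralizes `W_y` -/
theorem bf_s (h : R x y) {d : G} (hd : d ∈ W y x) : bf W x d (x * y) = bf W x d y := by
  rw [S.bf_mul_right h (S.mem (S.symm h)).2 (S.mem (S.symm h)).1 hd, bf_x_right, zero_add]

theorem ln_third (h : R x y) {a : G} (ha : a ∈ ln (x * y) x) : a ∈ ln x y := by
  rw [S.mem_ln (S.symm (S.third h))] at ha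
  rw [S.mem_ln h]
  rcases ha with rfl | rfl | rfl | rfl
  · simp
  · simp
  · simp
  · right; right; left
    rw [mul_assoc, ← S.xy_comm h, S.x_third h]

/-- conjugation by an element which centralizes the line -/
theorem conj_fix {g x y : G} (h : R x y) (hx : g * x = x * g) (hy : g * y = y * g) {a : G} :
    g * a * g⁻¹ ∈ W x y ↔ a ∈ W x y := by
  have e1 : g * x * g⁻¹ = x := by rw [hx]; group
  have e2 : g * y * g⁻¹ = y := by rw [hy]; group
  have := S.wconj_iff g h (a := a)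
  rwa [e1, e2] at this

theorem bf_fix {g x y : G} (h : R x y) (hx : g * x = x * g) {a m : G} (hm : m ∈ W y x) :
    bf W x (g * a * g⁻¹) (g * m * g⁻¹) = bf W x a m := by
  have e1 : g * x * g⁻¹ = x := by rw [hx]; group
  have := S.bf_conj g h (a := a) hm
  rwa [e1] at this

/-- `u = w⁻¹ f⁻¹ w f` is trivial on `D_x / V` -/
theorem sw_comm (h : R x y) {f : G} (F : Sw W x y f) {w : G} (hwx : w * x = x * w) (hwy : w * y = y * w)
    {d : G} (hd : d ∈ W y x) (hd1 : bf W x d y = 0) :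
    (w⁻¹ * f⁻¹ * w * f) * d * (w⁻¹ * f⁻¹ * w * f)⁻¹ * d⁻¹ ∈ ln x y := by
  have hs := S.third h
  have hs' := S.symm hs
  have hws : w * (x * y) = (x * y) * w := by
    calc w * (x * y) = (w * x) * y := by group
      _ = x * (w * y) := by rw [hwx]; group
      _ = (x * y) * w := by rw [hwy]; group
  have e0 : f⁻¹ * y * f = x := by rw [← F.fx]; group
  have e0' : f⁻¹ * x * f = y := by rw [← F.fy]; group
  have hux : (w⁻¹ * f⁻¹ * w * f) * x = x * (w⁻¹ * f⁻¹ * w * f) := by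
    have e1 : w * y * w⁻¹ = y := by rw [hwy]; group
    have e2 : w⁻¹ * x * w = x := by
      calc w⁻¹ * x * w = w⁻¹ * (w * x) := by rw [hwx]; group
        _ = x := by group
    calc (w⁻¹ * f⁻¹ * w * f) * x = w⁻¹ * (f⁻¹ * (w * (f * x * f⁻¹) * w⁻¹) * f) * w * (w⁻¹ * f⁻¹ * w * f) := by
          group
      _ = x * (w⁻¹ * f⁻¹ * w * f) := by rw [F.fx, e1, e0, e2]
  have huy : (w⁻¹ * f⁻¹ * w * f) * y = y * (w⁻¹ * f⁻¹ * w * f) := by
    have e1 : w * x * w⁻¹ = x := by rw [hwx]; group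
    have e2 : w⁻¹ * y * w = y := by
      calc w⁻¹ * y * w = w⁻¹ * (w * y) := by rw [hwy]; group
        _ = y := by group
    calc (w⁻¹ * f⁻¹ * w * f) * y = w⁻¹ * (f⁻¹ * (w * (f * y * f⁻¹) * w⁻¹) * f) * w * (w⁻¹ * f⁻¹ * w * f) := by
          group
      _ = y * (w⁻¹ * f⁻¹ * w * f) := by rw [F.fy, e1, e0', e2]
  have hus : (w⁻¹ * f⁻¹ * w * f) * (x * y) = (x * y) * (w⁻¹ * f⁻¹ * w * f) := by
    set u := w⁻¹ * f⁻¹ * w * f
    calc u * (x * y) = (u * x) * y := by group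
      _ = x * (u * y) := by rw [hux]; group
      _ = (x * y) * u := by rw [huy]; group
  have key := S.gg hs' (w⁻¹ * f⁻¹ * w * f) hus hux ?_ d ?_ ?_
  · exact S.ln_third h key
  · -- `u` is trivial on `W_s / s`
    intro a ha _
    rw [S.mem_ln hs']
    have hss := S.yy hs
    obtain ⟨i, hi⟩ := F.act a ha
    have hwa : w * a * w⁻¹ ∈ W x (x * y) := (S.conj_fix hs hwx hws).mpr ha
    obtain ⟨j, hj⟩ := F.act _ hwa
    have hfs : f * (x * y) * f⁻¹ = x * y := by
      calc f * (x * y) * f⁻¹ = (f * x * f⁻¹) * (f * y * f⁻¹) := by group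
        _ = x * y := by rw [F.fx, F.fy, S.xy_comm h]
    have h1 : ∀ k : ZMod 2, w * pw (x * y) k = pw (x * y) k * w := by
      intro k
      rcases z2 k with rfl | rfl
      · simp
      · rw [pw_one, hws]
    have h2 : ∀ k : ZMod 2, f⁻¹ * pw (x * y) k * f = pw (x * y) k := by
      intro k
      rcases z2 k with rfl | rfl
      · simp
      · rw [pw_one]
        calc f⁻¹ * (x * y) * f = f⁻¹ * (f * (x * y) * f⁻¹) * f := by rw [hfs]
          _ = x * y := by group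
    have h3 : f⁻¹ * (w * a * w⁻¹) * f = pw (x * y) j * (w * a * w⁻¹) := by
      have hp : pw (x * y) j * pw (x * y) j = 1 := by
        rcases z2 j with rfl | rfl
        · simp
        · rw [pw_one]; exact hss
      calc f⁻¹ * (w * a * w⁻¹) * f = f⁻¹ * ((pw (x * y) j * pw (x * y) j) * (w * a * w⁻¹)) * f := by
            rw [hp, one_mul]
        _ = (f⁻¹ * pw (x * y) j * f) * (f⁻¹ * (pw (x * y) j * (w * a * w⁻¹)) * f) := by group
        _ = pw (x * y) j * (f⁻¹ * (f * (w * a * w⁻¹) * f⁻¹) * f) := by rw [h2, hj]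
        _ = pw (x * y) j * (w * a * w⁻¹) := by group
    have h4 : (w⁻¹ * f⁻¹ * w * f) * a * (w⁻¹ * f⁻¹ * w * f)⁻¹ * a⁻¹ = pw (x * y) i * pw (x * y) j := by
      calc (w⁻¹ * f⁻¹ * w * f) * a * (w⁻¹ * f⁻¹ * w * f)⁻¹ * a⁻¹ =
          w⁻¹ * (f⁻¹ * (w * (f * a * f⁻¹) * w⁻¹) * f) * w * a⁻¹ := by group
        _ = w⁻¹ * (f⁻¹ * ((w * pw (x * y) i) * a * w⁻¹) * f) * w * a⁻¹ := by rw [hi]; group
        _ = w⁻¹ * ((f⁻¹ * pw (x * y) i * f) * (f⁻¹ * (w * a * w⁻¹) * f)) * w * a⁻¹ := by rw [h1]; group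
        _ = w⁻¹ * (pw (x * y) i * (pw (x * y) j * w)) := by rw [h2, h3]; group
        _ = w⁻¹ * ((pw (x * y) i * w) * pw (x * y) j) := by rw [← h1 j]; group
        _ = pw (x * y) i * pw (x * y) j := by rw [← h1 i]; group
    rw [h4]
    rcases z2 i with rfl | rfl <;> rcases z2 j with rfl | rfl
    · simp
    · simp
    · simp
    · rw [pw_one, hss]; simp
  · rw [S.w_x h]; exact hd
  · rw [← S.bf_zero_iff hs, S.bf_s h hd]; exact hd1

/-- LEMMA A: `W_m` acts on `D_y / V` as the transvection with centre `m^f` -/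
theorem lemA (h : R x y) {f : G} (F : Sw W x y f) {m : G} (hm : R x m) (hmX : W m x = W y x)
    {w t : G} (hw : w ∈ W x m) (hwy : w * y = y * w) (ht : t ∈ W x y) (ht1 : bf W y t x = 0) :
    (w * t * w⁻¹ * t⁻¹) * pw (f * m * f⁻¹) (bf W y t (f * m * f⁻¹) * bf W m w x) ∈ ln x y := by
  have hwx : w * x = x * w := S.comm hm hw (S.mem hm).1
  have hmm : m ∈ W y x := by rw [← hmX]; exact (S.mem (S.symm hm)).1
  set d := f⁻¹ * t * f with hd
  have hft : f * d * f⁻¹ = t := by rw [hd]; group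
  have hdX : d ∈ W y x := Sw.map' S h F ht
  have hyX : y ∈ W y x := (S.mem (S.symm h)).1
  have hd1 : bf W x d y = 0 := by
    have := Sw.bf S h F (a := d) hyX
    rw [hft, F.fy] at this
    rw [← this]; exact ht1
  have hu := S.sw_comm h F hwx hwy hdX hd1
  set u := w⁻¹ * f⁻¹ * w * f with hud
  have hbf : bf W y t (f * m * f⁻¹) = bf W x d m := by
    rw [← hft]; exact Sw.bf S h F hmm
  have hcm := S.cm_eq hm (by rw [hmX]; exact hdX) hw
  set i := bf W x d m * bf W m w x with hi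
  rw [hbf, ← hi]
  -- `w f = f w u`
  have hwf : w * f = f * (w * u) := by rw [hud]; group
  set v := u * d * u⁻¹ * d⁻¹ with hv
  have hvV := hu
  -- `f` normalizes `V`
  have hfV : ∀ v ∈ ln x y, f * v * f⁻¹ ∈ ln x y := by
    intro v hv
    rw [S.mem_ln h] at hv ⊢
    rcases hv with rfl | rfl | rfl | rfl
    · left; group
    · rw [F.fx]; simp
    · rw [F.fy]; simp
    · right; right; right
      calc f * (x * y) * f⁻¹ = (f * x * f⁻¹) * (f * y * f⁻¹) := by group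
        _ = x * y := by rw [F.fx, F.fy, S.xy_comm h]
  have hwV : ∀ v ∈ ln x y, w * v = v * w := by
    intro v hv
    rw [S.mem_ln h] at hv
    rcases hv with rfl | rfl | rfl | rfl
    · simp
    · exact hwx
    · exact hwy
    · calc w * (x * y) = (w * x) * y := by group
        _ = x * (w * y) := by rw [hwx]; group
        _ = (x * y) * w := by rw [hwy]; group
  have e1 : w * t * w⁻¹ * t⁻¹ = (f * v * f⁻¹) * (f * pw (x * m) i * f⁻¹) := by
    calc w * t * w⁻¹ * t⁻¹ = (w * f) * d * (w * f)⁻¹ * (f * d * f⁻¹)⁻¹ := by rw [← hft]; group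
      _ = f * (w * (u * d * u⁻¹) * w⁻¹ * d⁻¹) * f⁻¹ := by rw [hwf]; group
      _ = f * (w * (v * d) * w⁻¹ * d⁻¹) * f⁻¹ := by rw [hv]; group
      _ = f * ((w * v) * d * w⁻¹ * d⁻¹) * f⁻¹ := by group
      _ = f * (v * (w * d * w⁻¹) * d⁻¹) * f⁻¹ := by rw [hwV v hvV]; group
      _ = f * (v * (pw (x * m) i * d) * d⁻¹) * f⁻¹ := by rw [hcm]
      _ = (f * v * f⁻¹) * (f * pw (x * m) i * f⁻¹) := by group
  rw [e1]
  rcases z2 i with h3 | h3
  · rw [h3]
    simp only [pw_zero, mul_one, mul_inv_cancel]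
    exact hfV v hvV
  · rw [h3, pw_one, pw_one]
    have hmm2 : m * m = 1 := S.yy hm
    have e2 : (f * (x * m) * f⁻¹) * (f * m * f⁻¹) = y := by
      calc (f * (x * m) * f⁻¹) * (f * m * f⁻¹) = f * (x * (m * m)) * f⁻¹ := by group
        _ = y := by rw [hmm2, mul_one, F.fx]
    rw [mul_assoc, e2]
    exact mul_mem (hfV v hvV) (by rw [S.mem_ln h]; simp)

end lemA

end Dat

/-- `m ∈ D_x - V` -/
structure Tri (R : G → G → Prop) (W : G → G → Subgroup G) (x y m : G) : Prop where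
  h : R x y
  hm : m ∈ W y x
  perp : bf W x m y = 0
  nl : m ∉ ln x y

/-- `e ⟨x⟩` is the centre of the action of `W_m` on `D_y` -/
structure Ctr (W : G → G → Subgroup G) (x y m e : G) : Prop where
  memY : e ∈ W x y
  memM : e ∈ W x m
  nx : e ∉ W y x
  act : ∀ t ∈ W x y, bf W y t x = 0 → ∀ w ∈ W x m, ∃ i : ZMod 2,
    w * t * w⁻¹ * t⁻¹ = pw e (bf W y t e * bf W m w x) * pw x i

namespace Tri

open Dat

variable {R : G → G → Prop} {W : G → G → Subgroup G} {x y m : G} (T : Tri R W x y m) (S : Dat R W)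
include T S

theorem ne_one : m ≠ 1 := fun e => T.nl ((S.mem_ln T.h).mpr (Or.inl e))
theorem ne_x : m ≠ x := fun e => T.nl ((S.mem_ln T.h).mpr (Or.inr (Or.inl e)))
theorem ne_y : m ≠ y := fun e => T.nl ((S.mem_ln T.h).mpr (Or.inr (Or.inr (Or.inl e))))

theorem rm : R x m := (S.pt T.h m T.hm (T.ne_one S) (T.ne_x S)).1

theorem wm : W m x = W y x := (S.pt T.h m T.hm (T.ne_one S) (T.ne_x S)).2

theorem y_mem : y ∈ W y x := (S.mem (S.symm T.h)).1
theorem x_mem : x ∈ W y x := (S.mem (S.symm T.h)).2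

theorem swap : Tri R W x m y where
  h := T.rm S
  hm := by rw [T.wm S]; exact T.y_mem S
  perp := by rw [S.bf_symm T.h (T.y_mem S) T.hm]; exact T.perp
  nl := by
    rw [S.mem_ln (T.rm S)]
    rintro (e | e | e | e)
    · exact S.ne1' T.h e
    · exact (S.ne T.h).symm e
    · exact T.ne_y S e.symm
    · apply T.nl
      rw [S.mem_ln T.h]
      right; right; right
      rw [e, S.x_third (T.rm S)]

theorem third : Tri R W x (x * y) m where
  h := S.third T.h
  hm := by rw [S.w_x T.h]; exact T.hm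
  perp := by rw [S.bf_s T.h T.hm]; exact T.perp
  nl := by
    have h1 := T.nl
    rw [S.mem_ln T.h] at h1
    rw [S.mem_ln (S.third T.h), S.x_third T.h]
    rintro (e | e | e | e)
    · exact h1 (Or.inl e)
    · exact h1 (Or.inr (Or.inl e))
    · exact h1 (Or.inr (Or.inr (Or.inr e)))
    · exact h1 (Or.inr (Or.inr (Or.inl e)))

theorem w_x {w : G} (hw : w ∈ W x m) : w * x = x * w := S.comm (T.rm S) hw (S.mem (T.rm S)).1

theorem w_m {w : G} (hw : w ∈ W x m) : w * m = m * w := S.comm (T.rm S) hw (S.mem (T.rm S)).2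

theorem w_y {w : G} (hw : w ∈ W x m) : w * y = y * w := by
  have := (T.swap S).perp
  rw [S.bf_zero_iff (T.rm S)] at this
  exact (this w hw).symm

theorem t_x {t : G} (ht : t ∈ W x y) : t * x = x * t := S.comm T.h ht (S.mem T.h).1

theorem t_y {t : G} (ht : t ∈ W x y) : t * y = y * t := S.comm T.h ht (S.mem T.h).2

theorem t_m {t : G} (ht : t ∈ W x y) : t * m = m * t := (T.swap S).w_y S ht

theorem comm_mem {w t : G} (hw : w ∈ W x m) (ht : t ∈ W x y) :
    w * t * w⁻¹ * t⁻¹ ∈ W x y ∧ w * t * w⁻¹ * t⁻¹ ∈ W x m := by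
  constructor
  · exact mul_mem ((S.conj_fix T.h (T.w_x S hw) (T.w_y S hw)).mpr ht) (inv_mem ht)
  · have := (S.conj_fix (T.rm S) (T.t_x S ht) (T.t_m S ht)).mpr (inv_mem hw)
    have e : w * t * w⁻¹ * t⁻¹ = w * (t * w⁻¹ * t⁻¹) := by group
    rw [e]
    exact mul_mem hw this

theorem j_cent {a : G} (ha : a ∈ W x y) (ha' : a ∈ W x m) : Cz (W y x) a := by
  intro b hb
  have key : a * b * a⁻¹ * b⁻¹ = 1 := by
    rcases S.cm T.h a ha b hb with e | e
    · exact e
    rcases S.cm (T.rm S) a ha' b (by rw [T.wm S]; exact hb) with e' | e'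
    · exact e'
    · rw [e] at e'
      exact absurd (mul_left_cancel e').symm (T.ne_y S)
  calc a * b = (a * b * a⁻¹ * b⁻¹) * (b * a) := by group
    _ = b * a := by rw [key, one_mul]

theorem j_bf {a : G} (ha : a ∈ W x y) (ha' : a ∈ W x m) : bf W y a x = 0 :=
  (S.bf_zero_iff (S.symm T.h)).mpr (T.j_cent S ha ha')

theorem j_cap {a : G} (ha : a ∈ W x y) (ha' : a ∈ W x m) (hx : a ∈ W y x) : a = 1 ∨ a = x := by
  have hnl := T.nl
  rw [S.mem_ln T.h] at hnl
  rcases S.inter T.h a ha hx with e | e | e | e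
  · exact Or.inl e
  · exact Or.inr e
  · exfalso
    rcases S.inter (T.rm S) a ha' (by rw [T.wm S]; exact hx) with e' | e' | e' | e'
    · exact S.ne1' T.h (e.symm.trans e')
    · exact (S.ne T.h).symm (e.symm.trans e')
    · exact T.ne_y S (e'.symm.trans e)
    · apply hnl
      right; right; right
      rw [← e, e', S.x_third (T.rm S)]
  · exfalso
    rcases S.inter (T.rm S) a ha' (by rw [T.wm S]; exact hx) with e' | e' | e' | e'
    · have h1 := e.symm.trans e'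
      have : y = x⁻¹ := by rw [eq_inv_iff_mul_eq_one, ← S.xy_comm T.h]; exact h1
      rw [inv_eq_of_mul_eq_one_left (S.xx T.h)] at this
      exact (S.ne T.h).symm this
    · have h1 := e.symm.trans e'
      exact S.ne1' T.h (by simpa using h1)
    · exact hnl (Or.inr (Or.inr (Or.inr (e'.symm.trans e))))
    · exact T.ne_y S (mul_left_cancel (e'.symm.trans e))

theorem ln_le_X {a : G} (ha : a ∈ ln x y) : a ∈ W y x := by
  rw [S.mem_ln T.h] at ha
  rcases ha with rfl | rfl | rfl | rfl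
  · exact one_mem _
  · exact T.x_mem S
  · exact T.y_mem S
  · exact mul_mem (T.x_mem S) (T.y_mem S)

theorem ln_le_Y {a : G} (ha : a ∈ ln x y) : a ∈ W x y := by
  rw [S.mem_ln T.h] at ha
  have h1 := (S.mem T.h).1
  have h2 := (S.mem T.h).2
  rcases ha with rfl | rfl | rfl | rfl
  · exact one_mem _
  · exact h1
  · exact h2
  · exact mul_mem h1 h2

theorem bf_ln {t v : G} (ht : t ∈ W x y) (ht1 : bf W y t x = 0) (hv : v ∈ ln x y) : bf W y t v = 0 := by
  have hs := S.symm T.h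
  rw [S.mem_ln T.h] at hv
  rcases hv with rfl | rfl | rfl | rfl
  · exact bf_one_right _ _
  · exact ht1
  · exact bf_x_right _ _
  · rw [S.bf_mul_right hs (S.mem T.h).1 (S.mem T.h).2 ht, ht1, bf_x_right, add_zero]

/-- LEMMA B -/
theorem exists_ctr' {f : G} (F : Sw W x y f) : ∃ e, Ctr W x y m e ∧ e * (f * m * f⁻¹) ∈ ln x y := by
  have h := T.h
  have hs := S.symm h
  have hmY : f * m * f⁻¹ ∈ W x y := (Dat.Sw.map S h F).mpr T.hm
  have hm0 : bf W y (f * m * f⁻¹) x = 0 := by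
    have := Dat.Sw.bf S h F (a := m) (T.y_mem S)
    rw [F.fy] at this
    rw [this]; exact T.perp
  have hfV : f * m * f⁻¹ ∉ ln x y := by
    intro h1
    apply T.nl
    rw [S.mem_ln h] at h1 ⊢
    have e0 : f⁻¹ * y * f = x := by rw [← F.fx]; group
    have e0' : f⁻¹ * x * f = y := by rw [← F.fy]; group
    have e1 : m = f⁻¹ * (f * m * f⁻¹) * f := by group
    rcases h1 with e | e | e | e
    · left; rw [e1, e]; group
    · right; right; left; rw [e1, e, e0']
    · right; left; rw [e1, e, e0]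
    · right; right; right
      calc m = (f⁻¹ * x * f) * (f⁻¹ * y * f) := by rw [e1, e]; group
        _ = x * y := by rw [e0, e0', S.xy_comm h]
  obtain ⟨t, ht, ht1, ht2⟩ : ∃ t ∈ W x y, bf W y t x = 0 ∧ bf W y t (f * m * f⁻¹) = 1 := by
    by_contra hc
    push Not at hc
    apply hfV
    rw [S.mem_ln h]
    rcases S.dp1 hs (S.mem h).1 hmY (fun c hc1 hc2 => by
      by_contra h3
      exact hc c hc1 hc2 (z2_ne h3)) with e | e | e | e
    · exact Or.inl e
    · exact Or.inr (Or.inr (Or.inl e))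
    · exact Or.inr (Or.inl e)
    · right; right; right; rw [e, S.xy_comm h]
  obtain ⟨w, hw, hw1⟩ := S.nc (S.symm (T.rm S))
  rw [← S.bf_one_iff (S.symm (T.rm S))] at hw1
  have hA := S.lemA h F (T.rm S) (T.wm S) hw (T.w_y S hw) ht ht1
  rw [ht2, hw1, mul_one, pw_one] at hA
  obtain ⟨hJ1, hJ2⟩ := T.comm_mem S hw ht
  set e := w * t * w⁻¹ * t⁻¹ with he
  have hmm : f * m * f⁻¹ = (f * m * f⁻¹)⁻¹ := (S.inv_eq h hmY).symm
  refine ⟨e, ⟨hJ1, hJ2, ?_, ?_⟩, hA⟩
  · intro hx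
    apply hfV
    have h1 : e ∈ ln x y := (S.mem_ln h).mpr (S.inter h e hJ1 hx)
    have e2 : f * m * f⁻¹ = e⁻¹ * (e * (f * m * f⁻¹)) := by group
    rw [e2]
    exact mul_mem (inv_mem h1) hA
  · intro t' ht' ht1' w' hw'
    have hA' := S.lemA h F (T.rm S) (T.wm S) hw' (T.w_y S hw') ht' ht1'
    obtain ⟨hJ1', hJ2'⟩ := T.comm_mem S hw' ht'
    have hbf : bf W y t' e = bf W y t' (f * m * f⁻¹) := by
      have h1 := T.bf_ln S ht' ht1' hA
      rw [S.bf_mul_right hs hJ1 hmY ht'] at h1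
      have h2 := z2_add_self (bf W y t' (f * m * f⁻¹))
      rw [← h2] at h1
      exact add_right_cancel h1
    rw [hbf]
    set c := w' * t' * w'⁻¹ * t'⁻¹ with hc
    set i := bf W y t' (f * m * f⁻¹) * bf W m w' x with hi
    have key : (pw e i)⁻¹ * c = 1 ∨ (pw e i)⁻¹ * c = x := by
      refine T.j_cap S (mul_mem (inv_mem (pw_mem hJ1 i)) hJ1') (mul_mem (inv_mem (pw_mem hJ2 i)) hJ2') ?_
      rcases z2 i with h3 | h3
      · rw [h3, pw_zero] at hA' ⊢
        rw [mul_one] at hA'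
        rw [inv_one, one_mul]
        exact T.ln_le_X S hA'
      · rw [h3, pw_one] at hA' ⊢
        refine T.ln_le_X S ?_
        have e3 : e⁻¹ * c = (f * m * f⁻¹) * (e * (f * m * f⁻¹))⁻¹ * (c * (f * m * f⁻¹)) * (f * m * f⁻¹)⁻¹ := by
          group
        have e4 : (f * m * f⁻¹) * (e * (f * m * f⁻¹))⁻¹ * (c * (f * m * f⁻¹)) * (f * m * f⁻¹)⁻¹ =
            (e * (f * m * f⁻¹))⁻¹ * (c * (f * m * f⁻¹)) := by
          have h5 : (e * (f * m * f⁻¹))⁻¹ * (c * (f * m * f⁻¹)) ∈ W x y :=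
            mul_mem (inv_mem (mul_mem hJ1 hmY)) (mul_mem hJ1' hmY)
          rw [mul_assoc (f * m * f⁻¹), S.comm h hmY h5]; group
        rw [e3, e4]
        exact mul_mem (inv_mem hA) hA'
    rcases key with e5 | e5
    · refine ⟨0, ?_⟩
      rw [pw_zero, mul_one]
      exact (inv_mul_eq_one.mp e5).symm
    · refine ⟨1, ?_⟩
      rw [pw_one]
      exact inv_mul_eq_iff_eq_mul.mp e5

theorem exists_ctr : ∃ e, Ctr W x y m e := by
  obtain ⟨f, F⟩ := S.exists_sw T.h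
  obtain ⟨e, he, -⟩ := T.exists_ctr' S F
  exact ⟨e, he⟩

end Tri

end Cfsg.Agent.Omega.NO3S.TV.Eight

end

-- merged: Cfsg.Agent.Omega.NO3S.TV.EightEnd
section

/-!
# NO-3S, `q = 2`, `n = 1`, transvection types: section 8, the end (helper918, #17106)

* `Ctr.uniq`, `Ctr.swap` : the centre `e` is the same for `(x, y; m)` and `(x, m; y)`;
* `Ctr.three`, `Ctr.four` : (3), (4);
* `Ctr.five` : `e e_s ∈ m ⟨x⟩`;
* `Tri.false` : contradiction.
-/

set_option autoImplicit false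

namespace Cfsg.Agent.Omega.NO3S.TV.Eight

open Subgroup Dat

universe u

variable {G : Type u} [Group G] {R : G → G → Prop} {W : G → G → Subgroup G} {x y m : G}

theorem z2_eq {i j : ZMod 2} (h : i + j = 0) : i = j := by
  revert i j; decide

theorem pw_inj {a : G} (ha : a ≠ 1) {i j : ZMod 2} (h : pw a i = pw a j) : i = j := by
  rcases z2 i with rfl | rfl <;> rcases z2 j with rfl | rfl
  · rfl
  · rw [pw_zero, pw_one] at h; exact absurd h.symm ha
  · rw [pw_zero, pw_one] at h; exact absurd h ha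
  · rfl

theorem pw_add {a : G} (ha : a * a = 1) (i j : ZMod 2) : pw a (i + j) = pw a i * pw a j := by
  rcases z2 i with rfl | rfl <;> rcases z2 j with rfl | rfl
  · simp
  · simp
  · simp
  · have : (1 : ZMod 2) + 1 = 0 := by decide
    rw [this, pw_zero, pw_one, ha]

theorem pw_comm {a b : G} (h : b * a = a * b) (i : ZMod 2) : b * pw a i = pw a i * b := by
  rcases z2 i with rfl | rfl
  · simp
  · rw [pw_one, h]

theorem conj_pw {a g : G} (i : ZMod 2) : g * pw a i * g⁻¹ = pw (g * a * g⁻¹) i := by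
  rcases z2 i with rfl | rfl
  · simp
  · rw [pw_one, pw_one]

namespace Tri

variable (T : Tri R W x y m) (S : Dat R W)
include T S

theorem xx : x * x = 1 := S.xx T.h

theorem exists_w : ∃ w ∈ W x m, bf W m w x = 1 := by
  obtain ⟨w, hw, hw1⟩ := S.nc (S.symm (T.rm S))
  exact ⟨w, hw, (S.bf_one_iff (S.symm (T.rm S))).mpr hw1⟩

/-- an element of `D_m` which is not perpendicular to `e` -/
theorem exists_n {e : G} (E : Ctr W x y m e) : ∃ n ∈ W x m, bf W m n x = 0 ∧ bf W m n e = 1 := by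
  by_contra hc
  push Not at hc
  have hr := T.rm S
  have hx : x ∈ W x m := (S.mem hr).1
  rcases S.dp1 (S.symm hr) hx E.memM (fun c hc1 hc2 => by
    by_contra h3
    exact hc c hc1 hc2 (z2_ne h3)) with e1 | e1 | e1 | e1
  · apply E.nx; rw [e1]; exact one_mem _
  · apply E.nx; rw [e1]; exact T.hm
  · apply E.nx; rw [e1]; exact T.x_mem S
  · apply E.nx; rw [e1]; exact mul_mem T.hm (T.x_mem S)

theorem exists_t {e : G} (E : Ctr W x y m e) : ∃ t ∈ W x y, bf W y t x = 0 ∧ bf W y t e = 1 := by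
  by_contra hc
  push Not at hc
  have hx : x ∈ W x y := (S.mem T.h).1
  rcases S.dp1 (S.symm T.h) hx E.memY (fun c hc1 hc2 => by
    by_contra h3
    exact hc c hc1 hc2 (z2_ne h3)) with e1 | e1 | e1 | e1
  · apply E.nx; rw [e1]; exact one_mem _
  · apply E.nx; rw [e1]; exact T.y_mem S
  · apply E.nx; rw [e1]; exact T.x_mem S
  · apply E.nx; rw [e1]; exact mul_mem (T.y_mem S) (T.x_mem S)

/-- (3), first form -/
theorem three {e e' : G} (E : Ctr W x y m e) (E' : Ctr W x m y e') {n t : G} (hn : n ∈ W x m)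
    (hn1 : bf W m n x = 0) (ht : t ∈ W x y) (ht1 : bf W y t x = 0) :
    n * t * n⁻¹ * t⁻¹ = pw x (bf W m n e' * bf W y t e') := by
  have hs := S.symm T.h
  obtain ⟨i, hi⟩ := E.act t ht ht1 n hn
  rw [hn1, mul_zero, pw_zero, one_mul] at hi
  obtain ⟨w, hw, hw1⟩ := (T.swap S).exists_w S
  obtain ⟨k, hk⟩ := E'.act n hn hn1 w hw
  rw [hw1, mul_one] at hk
  have hxY : x ∈ W x y := (S.mem T.h).1
  have hjY : pw e' (bf W m n e') * pw x k ∈ W x y := mul_mem (pw_mem E'.memM _) (pw_mem hxY _)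
  -- `n` acts on `w` and `t`
  have hnw : n * w * n⁻¹ = (pw e' (bf W m n e') * pw x k) * w := by
    have h1 : n * w * n⁻¹ = (w * n * w⁻¹ * n⁻¹)⁻¹ * w := by group
    rw [h1, hk, S.inv_eq T.h hjY]
  have hnt : n * t * n⁻¹ = pw x i * t := by
    rw [← hi]; group
  have hinv := S.bf_fix hs (T.w_y S hn) (a := t) hw
  have hpx : pw x i ∈ W x y := pw_mem hxY i
  have hxe : bf W y x e' = 0 := by
    rw [S.bf_symm hs hxY E'.memM]
    exact (T.swap S).swap S |>.j_bf S E'.memM E'.memY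
  rw [hnw, hnt, S.bf_mul_left hs hpx ht (mul_mem hjY hw), S.bf_pw_left hs hxY (mul_mem hjY hw),
    S.bf_mul_right hs hjY hw hxY, S.bf_mul_right hs (pw_mem E'.memM _) (pw_mem hxY _) hxY,
    S.bf_pw_right hs hxY, S.bf_pw_right hs hxY, hxe, S.bf_self hs hxY, S.bf_mul_right hs hjY hw ht,
    S.bf_mul_right hs (pw_mem E'.memM _) (pw_mem hxY _) ht, S.bf_pw_right hs ht, S.bf_pw_right hs ht, ht1,
    S.bf_symm hs hxY hw, hw1] at hinv
  rw [hi]
  congr 1
  simp only [mul_zero, add_zero, zero_add, mul_one] at hinv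
  have h5 : i + bf W m n e' * bf W y t e' = 0 := by
    have h6 := z2_add_self (bf W y t w)
    calc i + bf W m n e' * bf W y t e' = i + (bf W m n e' * bf W y t e' + bf W y t w) + bf W y t w := by
          rw [add_assoc, add_assoc, h6, add_zero]
      _ = bf W y t w + bf W y t w := by rw [hinv]
      _ = 0 := h6
  exact z2_eq h5

/-- (3): the two centres agree -/
theorem uniq {e e' : G} (E : Ctr W x y m e) (E' : Ctr W x m y e') : ∃ k : ZMod 2, e' = pw x k * e := by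
  have hs := S.symm T.h
  have hr := T.rm S
  have hxY : x ∈ W x y := (S.mem T.h).1
  have hx1 := S.ne1 T.h
  have key : ∀ n ∈ W x m, bf W m n x = 0 → ∀ t ∈ W x y, bf W y t x = 0 →
      bf W m n e' * bf W y t e' = bf W y t e * bf W m n e := by
    intro n hn hn1 t ht ht1
    have h1 := T.three S E E' hn hn1 ht ht1
    have h2 := (T.swap S).three S E' E ht ht1 hn hn1
    refine pw_inj hx1 ?_
    rw [← h1]
    have h3 : n * t * n⁻¹ * t⁻¹ = (t * n * t⁻¹ * n⁻¹)⁻¹ := by group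
    rw [h3, h2]
    exact S.inv_eq T.h (pw_mem hxY _)
  obtain ⟨n, hn, hn1, hn2⟩ := T.exists_n S E
  obtain ⟨t, ht, ht1, ht2⟩ := T.exists_t S E
  have h4 : bf W m n e' = 1 := by
    have := key n hn hn1 t ht ht1
    rw [hn2, ht2, mul_one] at this
    refine z2_ne fun h5 => ?_
    rw [h5, zero_mul] at this
    exact zero_ne_one this
  have h5 : ∀ t ∈ W x y, bf W y t x = 0 → bf W y t (e' * e) = 0 := by
    intro t ht ht1
    have := key n hn hn1 t ht ht1
    rw [hn2, h4, one_mul, mul_one] at this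
    rw [S.bf_mul_right hs E'.memM E.memY ht, this]
    exact z2_add_self _
  have h6 : e' * e ∈ W y x := by
    rcases S.dp1 hs hxY (mul_mem E'.memM E.memY) h5 with e1 | e1 | e1 | e1
    · rw [e1]; exact one_mem _
    · rw [e1]; exact T.y_mem S
    · rw [e1]; exact T.x_mem S
    · rw [e1]; exact mul_mem (T.y_mem S) (T.x_mem S)
  have hee : e⁻¹ = e := S.inv_eq T.h E.memY
  rcases T.j_cap S (mul_mem E'.memM E.memY) (mul_mem E'.memY E.memM) h6 with e1 | e1
  · refine ⟨0, ?_⟩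
    rw [pw_zero, one_mul]
    rw [← hee]; exact eq_inv_of_mul_eq_one_left e1
  · refine ⟨1, ?_⟩
    rw [pw_one]
    rw [← hee]; exact eq_mul_inv_of_mul_eq e1

/-- a centre may be multiplied by `x` -/
theorem ctr_mul {e : G} (E : Ctr W x y m e) (k : ZMod 2) : Ctr W x y m (pw x k * e) := by
  have hs := S.symm T.h
  have hr := T.rm S
  have hxY : x ∈ W x y := (S.mem T.h).1
  refine ⟨mul_mem (pw_mem hxY _) E.memY, mul_mem (pw_mem (S.mem hr).1 _) E.memM, ?_, ?_⟩
  · intro h1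
    apply E.nx
    have := mul_mem (inv_mem (pw_mem (T.x_mem S) k)) h1
    rwa [inv_mul_cancel_left] at this
  · intro t ht ht1 w hw
    obtain ⟨i, hi⟩ := E.act t ht ht1 w hw
    refine ⟨bf W y t e * bf W m w x * k + i, ?_⟩
    rw [hi, S.bf_mul_right hs (pw_mem hxY _) E.memY ht, S.bf_pw_right hs ht, ht1, mul_zero, zero_add]
    have hxe : e * x = x * e := S.comm T.h E.memY hxY
    have hxx := T.xx S
    rcases z2 (bf W y t e * bf W m w x) with h3 | h3
    · rw [h3]; simp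
    · rw [h3, pw_one, pw_one, one_mul, pw_add hxx]
      calc e * pw x i = (pw x k * pw x k) * (e * pw x i) := by
            rw [← pw_add hxx, z2_add_self, pw_zero, one_mul]
        _ = pw x k * (pw x k * e) * pw x i := by group
        _ = pw x k * (e * pw x k) * pw x i := by rw [pw_comm hxe k]
        _ = pw x k * e * (pw x k * pw x i) := by group

/-- the centre for `(x, y; m)` is the centre for `(x, m; y)` -/
theorem ctr_swap {e : G} (E : Ctr W x y m e) : Ctr W x m y e := by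
  obtain ⟨e', E'⟩ := (T.swap S).exists_ctr S
  obtain ⟨k, hk⟩ := T.uniq S E E'
  have h1 := (T.swap S).ctr_mul S E' k
  rw [hk, ← mul_assoc, ← pw_add (T.xx S), z2_add_self, pw_zero, one_mul] at h1
  exact h1

/-- (3) -/
theorem three' {e : G} (E : Ctr W x y m e) {n t : G} (hn : n ∈ W x m) (hn1 : bf W m n x = 0) (ht : t ∈ W x y)
    (ht1 : bf W y t x = 0) : n * t * n⁻¹ * t⁻¹ = pw x (bf W m n e * bf W y t e) :=
  T.three S E (T.ctr_swap S E) hn hn1 ht ht1

theorem ctr_uniq {e e' : G} (E : Ctr W x y m e) (E' : Ctr W x y m e') : ∃ k : ZMod 2, e' = pw x k * e :=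
  T.uniq S E (T.ctr_swap S E')

/-- `e ∈ m^f V` -/
theorem ctr_sw {e f : G} (E : Ctr W x y m e) (F : Sw W x y f) : e * (f * m * f⁻¹) ∈ ln x y := by
  obtain ⟨e', E', h1⟩ := T.exists_ctr' S F
  obtain ⟨k, hk⟩ := T.ctr_uniq S E' E
  rw [hk, mul_assoc]
  refine mul_mem (pw_mem ?_ _) h1
  rw [S.mem_ln T.h]; simp

/-- (4) -/
theorem four {e : G} (E : Ctr W x y m e) {t w : G} (ht : t ∈ W x y) (ht1 : bf W y t x = 0)
    (hte : bf W y t e = 0) (hw : w ∈ W x m) : w * t * w⁻¹ * t⁻¹ = 1 := by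
  have h := T.h
  have hs := S.symm h
  have hr := T.rm S
  have hxY : x ∈ W x y := (S.mem h).1
  rcases z2 (bf W m w x) with hw0 | hw1
  · rw [T.three' S E hw hw0 ht ht1, hte, mul_zero, pw_zero]
  -- `w` centralizes `V` and `e`
  have hwV : ∀ v ∈ ln x y, w * v = v * w := by
    intro v hv
    rw [S.mem_ln h] at hv
    rcases hv with rfl | rfl | rfl | rfl
    · simp
    · exact T.w_x S hw
    · exact T.w_y S hw
    · calc w * (x * y) = (w * x) * y := by group
        _ = x * (w * y) := by rw [T.w_x S hw]; group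
        _ = (x * y) * w := by rw [T.w_y S hw]; group
  have hwe : w * e = e * w := S.comm hr hw E.memM
  by_cases htV : t ∈ ln x y
  · rw [hwV t htV]; group
  by_cases hteV : t * e ∈ ln x y
  · have h1 := hwV _ hteV
    have h2 : w * t * w⁻¹ * t⁻¹ = (w * (t * e)) * (w * e)⁻¹ * t⁻¹ := by group
    rw [h2, h1, hwe]; group
  obtain ⟨f, F⟩ := S.exists_sw h
  have hef := T.ctr_sw S E F
  have hmY : f * m * f⁻¹ ∈ W x y := (Dat.Sw.map S h F).mpr T.hm
  set nu := f⁻¹ * t * f with hnu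
  have hft : f * nu * f⁻¹ = t := by rw [hnu]; group
  have hnuX : nu ∈ W y x := Dat.Sw.map' S h F ht
  have hnu1 : bf W x nu y = 0 := by
    have := Dat.Sw.bf S h F (a := nu) (T.y_mem S)
    rw [hft, F.fy] at this
    rw [← this]; exact ht1
  have hbm : ∀ t ∈ W x y, bf W y t x = 0 → bf W y t (f * m * f⁻¹) = bf W y t e := by
    intro t ht ht1
    have h1 := T.bf_ln S ht ht1 hef
    rw [S.bf_mul_right hs E.memY hmY ht] at h1
    exact (z2_eq h1).symm
  have hnum : bf W x nu m = 0 := by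
    have := Dat.Sw.bf S h F (a := nu) T.hm
    rw [hft] at this
    rw [← this, hbm t ht ht1, hte]
  have hnuV : nu ∉ ln x y := by
    intro h1
    apply htV
    rw [S.mem_ln h] at h1 ⊢
    rcases h1 with e1 | e1 | e1 | e1
    · left; rw [← hft, e1]; group
    · right; right; left; rw [← hft, e1, F.fx]
    · right; left; rw [← hft, e1, F.fy]
    · right; right; right
      calc t = (f * x * f⁻¹) * (f * y * f⁻¹) := by rw [← hft, e1]; group
        _ = x * y := by rw [F.fx, F.fy, S.xy_comm h]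
  have Tn : Tri R W x y nu := ⟨h, hnuX, hnu1, hnuV⟩
  -- `t'`
  obtain ⟨t', ht', ht'1, ht'e, ht't⟩ : ∃ t' ∈ W x y, bf W y t' x = 0 ∧ bf W y t' e = 0 ∧ bf W y t' t = 1 := by
    by_contra hc
    push Not at hc
    -- `u ⊥ e`, not `⊥ x`; `u' ⊥ x`, not `⊥ e`
    obtain ⟨u', hu', hu'1, hu'2⟩ := T.exists_t S E
    obtain ⟨u, hu, hu1, hu2⟩ : ∃ u ∈ W x y, bf W y u x = 1 ∧ bf W y u e = 0 := by
      obtain ⟨u, hu, hu1⟩ := (T.swap S).exists_w S
      rcases z2 (bf W y u e) with h2 | h2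
      · exact ⟨u, hu, hu1, h2⟩
      · refine ⟨u * u', mul_mem hu hu', ?_, ?_⟩
        · rw [S.bf_mul_left hs hu hu' hxY, hu1, hu'1, add_zero]
        · rw [S.bf_mul_left hs hu hu' E.memY, h2, hu'2]; decide
    have h3 := S.dp2 hs hxY E.memY ht hu hu' hu1 hu2 hu'1 hu'2 (fun c hc1 hc2 hc3 => by
      by_contra h4
      exact hc c hc1 hc2 hc3 (z2_ne h4))
    have hyl : y ∈ ln x y := by rw [S.mem_ln h]; simp
    have h4 : t * pw x (bf W y u t) * pw e (bf W y u' t) ∈ ln x y := by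
      rcases h3 with e1 | e1
      · rw [e1]; exact one_mem _
      · rw [e1]; exact hyl
    have hpx : pw x (bf W y u t) ∈ ln x y := pw_mem (by rw [S.mem_ln h]; simp) _
    rcases z2 (bf W y u' t) with h5 | h5
    · rw [h5, pw_zero, mul_one] at h4
      apply htV
      have := mul_mem h4 (inv_mem hpx)
      rwa [mul_inv_cancel_right] at this
    · rw [h5, pw_one] at h4
      apply hteV
      have hxe : e * x = x * e := S.comm h E.memY hxY
      have h6 : t * pw x (bf W y u t) * e = t * e * pw x (bf W y u t) := by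
        rw [mul_assoc, ← pw_comm hxe]; group
      rw [h6] at h4
      have := mul_mem h4 (inv_mem hpx)
      rwa [mul_inv_cancel_right] at this
  -- `c`
  obtain ⟨c, hc, hc1⟩ := Tn.exists_w S
  have hcx := Tn.w_x S hc
  have hcy := Tn.w_y S hc
  have hcm : c * m = m * c := by
    have h1 : bf W x m nu = 0 := by rw [S.bf_symm h T.hm hnuX]; exact hnum
    rw [S.bf_zero_iff (Tn.rm S)] at h1
    exact (h1 c hc).symm
  have hA := S.lemA h F (Tn.rm S) (Tn.wm S) hc hcy ht' ht'1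
  rw [hft, ht't, hc1, mul_one, pw_one] at hA
  set v := c * t' * c⁻¹ * t'⁻¹ * t with hv
  have htt : t⁻¹ = t := S.inv_eq h ht
  have hct' : c * t' * c⁻¹ = v * (t * t') := by
    calc c * t' * c⁻¹ = (c * t' * c⁻¹ * t'⁻¹ * t) * (t⁻¹ * t') := by group
      _ = v * (t * t') := by rw [← hv, htt]
  have hcw : c * w * c⁻¹ ∈ W x m := (S.conj_fix hr hcx hcm).mpr hw
  set n := c * w * c⁻¹ * w⁻¹ with hn
  have hnW : n ∈ W x m := mul_mem hcw (inv_mem hw)
  have hcwn : c * w * c⁻¹ = n * w := by rw [hn]; group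
  have hn0 : bf W m n x = 0 := by
    have hrs := S.symm hr
    have hxm : x ∈ W x m := (S.mem hr).1
    have h1 := S.bf_fix hrs hcm (a := w) hxm
    have h2 : c * x * c⁻¹ = x := by rw [hcx]; group
    rw [h2, hcwn, S.bf_mul_left hrs hnW hw hxm] at h1
    exact add_eq_right.mp h1
  obtain ⟨i, hi⟩ := E.act t' ht' ht'1 w hw
  obtain ⟨j, hj⟩ := E.act t ht ht1 w hw
  rw [ht'e, zero_mul, pw_zero, one_mul] at hi
  rw [hte, zero_mul, pw_zero, one_mul] at hj
  have hnt := T.three' S E hnW hn0 ht ht1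
  have hnt' := T.three' S E hnW hn0 ht' ht'1
  rw [hte, mul_zero, pw_zero] at hnt
  rw [ht'e, mul_zero, pw_zero] at hnt'
  have hnt : n * t = t * n := by
    calc n * t = (n * t * n⁻¹ * t⁻¹) * (t * n) := by group
      _ = t * n := by rw [hnt, one_mul]
  have hnt' : n * t' = t' * n := by
    calc n * t' = (n * t' * n⁻¹ * t'⁻¹) * (t' * n) := by group
      _ = t' * n := by rw [hnt', one_mul]
  -- conjugation by `c`
  have hxi : ∀ k : ZMod 2, c * pw x k * c⁻¹ = pw x k := by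
    intro k
    rw [conj_pw]
    have : c * x * c⁻¹ = x := by rw [hcx]; group
    rw [this]
  have e1 : (c * w * c⁻¹) * (c * t' * c⁻¹) * (c * w * c⁻¹)⁻¹ * (c * t' * c⁻¹)⁻¹ = pw x i := by
    rw [← hxi i, ← hi]; group
  rw [hcwn, hct'] at e1
  -- `v` commutes with `n w`
  have hvw : v * (n * w) = n * w * v := by
    have h1 : ∀ a ∈ W x m, a * v = v * a := by
      intro a ha
      rw [S.mem_ln h] at hA
      rcases hA with e2 | e2 | e2 | e2
      · rw [e2]; simp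
      · rw [e2]; exact T.w_x S ha
      · rw [e2]; exact T.w_y S ha
      · rw [e2]
        calc a * (x * y) = (a * x) * y := by group
          _ = x * (a * y) := by rw [T.w_x S ha]; group
          _ = (x * y) * a := by rw [T.w_y S ha]; group
    exact (h1 _ (mul_mem hnW hw)).symm
  have hnx : n * x = x * n := T.w_x S hnW
  have hwt : w * t * w⁻¹ = pw x j * t := by rw [← hj]; group
  have hwt' : w * t' * w⁻¹ = pw x i * t' := by rw [← hi]; group
  have htx : t * x = x * t := S.comm h ht hxY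
  have hn1 : ∀ a, n * a = a * n → n * a * n⁻¹ = a := fun a ha => by rw [ha]; group
  have e2 : (n * w) * (v * (t * t')) * (n * w)⁻¹ * (v * (t * t'))⁻¹ = pw x j * pw x i := by
    have e3 : (n * w) * (v * (t * t')) * (n * w)⁻¹ = v * (n * ((w * t * w⁻¹) * (w * t' * w⁻¹)) * n⁻¹) := by
      calc (n * w) * (v * (t * t')) * (n * w)⁻¹ = (n * w * v) * (t * t') * (n * w)⁻¹ := by group
        _ = v * (n * ((w * t * w⁻¹) * (w * t' * w⁻¹)) * n⁻¹) := by rw [← hvw]; group
    have e4 : (w * t * w⁻¹) * (w * t' * w⁻¹) = (pw x j * pw x i) * (t * t') := by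
      rw [hwt, hwt']
      calc pw x j * t * (pw x i * t') = pw x j * (t * pw x i) * t' := by group
        _ = (pw x j * pw x i) * (t * t') := by rw [pw_comm htx]; group
    have e5 : n * ((pw x j * pw x i) * (t * t')) * n⁻¹ = (pw x j * pw x i) * (t * t') := by
      refine hn1 _ ?_
      calc n * (pw x j * pw x i * (t * t')) = (n * pw x j) * pw x i * (t * t') := by group
        _ = pw x j * (n * pw x i) * (t * t') := by rw [pw_comm hnx]; group
        _ = pw x j * pw x i * (n * t) * t' := by rw [pw_comm hnx]; group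
        _ = pw x j * pw x i * t * (n * t') := by rw [hnt]; group
        _ = pw x j * pw x i * (t * t') * n := by rw [hnt']; group
    have hvx : v * (pw x j * pw x i) = (pw x j * pw x i) * v := by
      have hvx : v * x = x * v := by
        rw [S.mem_ln h] at hA
        rcases hA with e2 | e2 | e2 | e2
        · rw [e2]; simp
        · rw [e2]
        · rw [e2]; exact (S.xy_comm h).symm
        · rw [e2]
          calc x * y * x = x * (y * x) := by group
            _ = x * (x * y) := by rw [S.xy_comm h]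
      calc v * (pw x j * pw x i) = (v * pw x j) * pw x i := by group
        _ = pw x j * (v * pw x i) := by rw [pw_comm hvx]; group
        _ = (pw x j * pw x i) * v := by rw [pw_comm hvx]; group
    rw [e3, e4, e5]
    calc v * (pw x j * pw x i * (t * t')) * (v * (t * t'))⁻¹ = (v * (pw x j * pw x i)) * v⁻¹ := by group
      _ = pw x j * pw x i := by rw [hvx]; group
  rw [e2] at e1
  rw [hj]
  have := mul_eq_right.mp e1
  exact this

/-- (5): `e e_s ∈ m ⟨x⟩` -/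
theorem five {e e' : G} (E : Ctr W x y m e) (E' : Ctr W x (x * y) m e') : ∃ k : ZMod 2, e * e' = pw x k * m := by
  have h := T.h
  have hs := S.symm h
  have hr := T.rm S
  have T' := T.third S
  have hxX := T.x_mem S
  have hyX := T.y_mem S
  obtain ⟨w, hw, hw1⟩ := (T.swap S).exists_w S
  obtain ⟨w', hw', hw1'⟩ := (T'.swap S).exists_w S
  have hxm : x ∈ ln x m := by rw [S.mem_ln hr]; simp
  have hwx := T.t_x S hw
  have hwm := T.t_m S hw
  have hwx' := T'.t_x S hw'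
  have hwm' := T'.t_m S hw'
  have hwy := T.t_y S hw
  -- `w w'` is trivial on `X / x`
  have hact : ∀ d ∈ W y x, (w * w') * d * (w * w')⁻¹ * d⁻¹ = pw x (bf W x d y) := by
    intro d hd
    have h1 := S.cm_eq h hd hw
    have h2 := S.cm_eq (S.third h) (by rw [S.w_x h]; exact hd) hw'
    rw [hw1, mul_one] at h1
    rw [hw1', mul_one, S.x_third h, S.bf_s h hd] at h2
    calc (w * w') * d * (w * w')⁻¹ * d⁻¹ = w * (w' * d * w'⁻¹) * w⁻¹ * d⁻¹ := by group
      _ = (w * pw y (bf W x d y)) * d * w⁻¹ * d⁻¹ := by rw [h2]; group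
      _ = pw y (bf W x d y) * (w * d * w⁻¹) * d⁻¹ := by rw [pw_comm hwy]; group
      _ = pw y (bf W x d y) * pw (x * y) (bf W x d y) := by rw [h1]; group
      _ = pw x (bf W x d y) := by
        rcases z2 (bf W x d y) with h3 | h3
        · rw [h3]; simp
        · rw [h3, pw_one, pw_one, pw_one, S.y_third h]
  have hgg := S.gg hr (w * w') (by
      calc w * w' * x = w * (w' * x) := by group
        _ = (w * x) * w' := by rw [hwx']; group
        _ = x * (w * w') := by rw [hwx]; group) (by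
      calc w * w' * m = w * (w' * m) := by group
        _ = (w * m) * w' := by rw [hwm']; group
        _ = m * (w * w') := by rw [hwm]; group) (by
      intro d hd _
      rw [hact d (by rw [← T.wm S]; exact hd)]
      exact pw_mem hxm _)
  obtain ⟨n, hn, hn1, hn2⟩ := T.exists_n S E
  have hg := hgg n hn ((S.bf_zero_iff (S.symm hr)).mp hn1)
  obtain ⟨i, hi⟩ := (T.ctr_swap S E).act n hn hn1 w hw
  obtain ⟨j, hj⟩ := (T'.ctr_swap S E').act n hn hn1 w' hw'
  rw [hn2, hw1, mul_one, pw_one] at hi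
  rw [hw1', mul_one] at hj
  -- `[w', n]` commutes with `w`
  obtain ⟨hJ1, hJ2⟩ := (T'.swap S).comm_mem S hw' hn
  have hcen : (w' * n * w'⁻¹ * n⁻¹) * w = w * (w' * n * w'⁻¹ * n⁻¹) := by
    have h1 := T'.j_bf S hJ2 hJ1
    have hs' := S.symm (S.third h)
    have h2 : bf W (x * y) (w' * n * w'⁻¹ * n⁻¹) y = 0 := by
      have h3 : y = (x * y) * x := by rw [S.xy_comm h, mul_assoc, S.xx h, mul_one]
      have hsm : x * y ∈ W x (x * y) := (S.mem (S.third h)).2
      have hxs : x ∈ W x (x * y) := (S.mem (S.third h)).1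
      have h4 := S.bf_mul_right hs' hsm hxs hJ2
      rw [← h3, bf_x_right, h1, zero_add] at h4
      exact h4
    have h5 : R (x * y) y := S.symm (S.third' h)
    rw [S.bf_zero_iff h5, S.w_third h] at h2
    exact h2 w hw
  have e1 : (w * w') * n * (w * w')⁻¹ * n⁻¹ = (w' * n * w'⁻¹ * n⁻¹) * (w * n * w⁻¹ * n⁻¹) := by
    calc (w * w') * n * (w * w')⁻¹ * n⁻¹ = (w * (w' * n * w'⁻¹ * n⁻¹)) * n * w⁻¹ * n⁻¹ := by group
      _ = (w' * n * w'⁻¹ * n⁻¹) * (w * n * w⁻¹ * n⁻¹) := by rw [← hcen]; group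
  rw [e1, hi, hj] at hg
  have heX : e ∉ ln x m := by
    intro h1
    apply E.nx
    have := (T.swap S).ln_le_X S h1
    rwa [T.wm S] at this
  have hpx : ∀ k, pw x k ∈ ln x m := fun k => pw_mem hxm k
  rcases z2 (bf W m n e') with h6 | h6
  · exfalso
    apply heX
    rw [h6, pw_zero, one_mul] at hg
    have h7 : e = (pw x j)⁻¹ * (pw x j * (e * pw x i)) * (pw x i)⁻¹ := by group
    rw [h7]
    exact mul_mem (mul_mem (inv_mem (hpx j)) hg) (inv_mem (hpx i))
  rw [h6, pw_one] at hg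
  have hex : e * x = x * e := S.comm h E.memY (S.mem h).1
  have hee : e' * e = e * e' := S.comm hr E'.memM E.memM
  have h8 : e * e' ∈ ln x m := by
    have h7 : e * e' = (e' * pw x j * (e * pw x i)) * (pw x i)⁻¹ * (pw x j)⁻¹ := by
      calc e * e' = e' * e := hee.symm
        _ = e' * (e * pw x j) * (pw x j)⁻¹ := by group
        _ = e' * (pw x j * e) * (pw x j)⁻¹ := by rw [pw_comm hex]
        _ = (e' * pw x j * (e * pw x i)) * (pw x i)⁻¹ * (pw x j)⁻¹ := by group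
    rw [h7]
    exact mul_mem (mul_mem hg (inv_mem (hpx i))) (inv_mem (hpx j))
  rw [S.mem_ln hr] at h8
  have hinv : e'⁻¹ = e' := S.inv_eq (S.third h) E'.memY
  -- `e e' ∉ ⟨x⟩`
  have hno : e * e' ∉ W y x → ∃ k : ZMod 2, e * e' = pw x k * m := by
    intro h9
    exfalso
    rcases h8 with e2 | e2 | e2 | e2
    · apply h9; rw [e2]; exact one_mem _
    · apply h9; rw [e2]; exact hxX
    · apply h9; rw [e2]; exact T.hm
    · apply h9; rw [e2]; exact mul_mem hxX T.hm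
  have hS : ∀ a, a ∈ W x (x * y) → a ∈ W x y → a ∈ W y x := by
    intro a ha1 ha2
    have h5 : R y (x * y) := S.third' h
    have ha3 : a ∈ W y (x * y) := by rw [S.w_s h]; exact ha1
    have ha4 : a ∈ W (x * y) y := by rw [S.w_third h]; exact ha2
    rcases S.inter h5 a ha3 ha4 with e2 | e2 | e2 | e2
    · rw [e2]; exact one_mem _
    · rw [e2]; exact hyX
    · rw [e2]; exact mul_mem hxX hyX
    · rw [e2, S.y_third h]; exact hxX
  have hxS : x ∈ W x (x * y) := (S.mem (S.third h)).1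
  rcases h8 with e2 | e2 | e2 | e2
  · exfalso
    apply E.nx
    refine hS e ?_ E.memY
    rw [eq_inv_of_mul_eq_one_left e2]
    exact inv_mem E'.memY
  · exfalso
    apply E.nx
    refine hS e ?_ E.memY
    rw [eq_mul_inv_of_mul_eq e2]
    exact mul_mem hxS (inv_mem E'.memY)
  · exact ⟨0, by rw [pw_zero, one_mul, e2]⟩
  · exact ⟨1, by rw [pw_one, e2]⟩

/-- (6): `D_x ≤ D_y D_s` -/
theorem six {d : G} (hd : d ∈ W y x) (hd1 : bf W x d y = 0) :
    ∃ a ∈ W x y, ∃ b ∈ W x (x * y), bf W y a x = 0 ∧ bf W (x * y) b x = 0 ∧ d = a * b := by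
  have h := T.h
  have hs := S.symm h
  have hxY : x ∈ W x y := (S.mem h).1
  by_cases hV : d ∈ ln x y
  · refine ⟨d, T.ln_le_Y S hV, 1, one_mem _, ?_, ?_, by rw [mul_one]⟩
    · rw [S.bf_symm hs (T.ln_le_Y S hV) hxY]
      exact T.bf_ln S hxY (S.bf_self hs hxY) hV
    · exact S.bf_one_left (S.symm (S.third h)) (S.mem (S.third h)).1
  have T' : Tri R W x y d := ⟨h, hd, hd1, hV⟩
  obtain ⟨e, E⟩ := T'.exists_ctr S
  obtain ⟨e', E'⟩ := (T'.third S).exists_ctr S
  obtain ⟨k, hk⟩ := T'.five S E E'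
  have E2 := T'.ctr_mul S E k
  refine ⟨pw x k * e, E2.memY, e', E'.memY, T'.j_bf S E2.memY E2.memM, (T'.third S).j_bf S E'.memY E'.memM, ?_⟩
  rw [mul_assoc, hk, ← mul_assoc, ← pw_add (T.xx S), z2_add_self, pw_zero, one_mul]

/-- **There is no configuration with `D_x > V`.** -/
theorem false : False := by
  have h := T.h
  have hs := S.symm h
  have hr := T.rm S
  have hrs := S.symm hr
  have T' := T.third S
  have h' := S.third h
  have hs' := S.symm h'
  have hxX := T.x_mem S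
  have hyX := T.y_mem S
  have hxY : x ∈ W x y := (S.mem h).1
  have hxM : x ∈ W x m := (S.mem hr).1
  have hmM : m ∈ W x m := (S.mem hr).2
  have hxS : x ∈ W x (x * y) := (S.mem h').1
  have hxx := T.xx S
  have hx1 := S.ne1 h
  obtain ⟨e, E⟩ := T.exists_ctr S
  obtain ⟨e', E'⟩ := T'.exists_ctr S
  obtain ⟨c, hc⟩ := T.five S E E'
  -- `t = a b`
  obtain ⟨t, ht, ht1, ht2⟩ : ∃ t ∈ W y x, bf W x t y = 0 ∧ bf W x t m = 1 := by
    by_contra hcon
    push Not at hcon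
    apply T.nl
    rw [S.mem_ln h]
    exact S.dp1 h hyX T.hm (fun c hc1 hc2 => by
      by_contra h3
      exact hcon c hc1 hc2 (z2_ne h3))
  obtain ⟨a, ha, b, hb, ha1, hb1, htab⟩ := T.six S ht ht1
  -- `w`
  obtain ⟨w, hw, hwe, hwx⟩ : ∃ w ∈ W x m, bf W m w e = 0 ∧ bf W m w x = 1 := by
    by_contra hcon
    push Not at hcon
    have hmX : m ∈ W y x := T.hm
    rcases S.dp1 hrs E.memM hxM (fun c hc1 hc2 => by
      by_contra h3
      exact hcon c hc1 hc2 (z2_ne h3)) with e1 | e1 | e1 | e1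
    · exact hx1 e1
    · exact T.ne_x S e1.symm
    · apply E.nx; rw [← e1]; exact hxX
    · apply E.nx
      have : e = m⁻¹ * x := by rw [e1]; group
      rw [this]
      exact mul_mem (inv_mem hmX) hxX
  have hwt := S.cm_eq hr (by rw [T.wm S]; exact ht) hw
  rw [ht2, hwx, mul_one, pw_one] at hwt
  obtain ⟨hα1, hα2⟩ := T.comm_mem S hw ha
  obtain ⟨hβ1, hβ2⟩ := T'.comm_mem S hw hb
  obtain ⟨i, hi⟩ := E.act a ha ha1 w hw
  obtain ⟨j, hj⟩ := E'.act b hb hb1 w hw
  rw [hwx, mul_one] at hi hj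
  have hαβ : (w * a * w⁻¹ * a⁻¹) * (w * b * w⁻¹ * b⁻¹) = x * m := by
    have hcom : a * (w * b * w⁻¹ * b⁻¹) = (w * b * w⁻¹ * b⁻¹) * a := by
      have h1 := T'.j_bf S hβ1 hβ2
      have h2 : bf W (x * y) (w * b * w⁻¹ * b⁻¹) y = 0 := by
        have h3 : y = (x * y) * x := by rw [S.xy_comm h, mul_assoc, S.xx h, mul_one]
        have hsm : x * y ∈ W x (x * y) := (S.mem (S.third h)).2
        have h4 := S.bf_mul_right hs' hsm hxS hβ1
        rw [← h3, bf_x_right, h1, zero_add] at h4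
        exact h4
      have h5 : R (x * y) y := S.symm (S.third' h)
      rw [S.bf_zero_iff h5, S.w_third h] at h2
      exact (h2 a ha).symm
    calc (w * a * w⁻¹ * a⁻¹) * (w * b * w⁻¹ * b⁻¹) =
        (w * a * w⁻¹) * a⁻¹ * (a * (w * b * w⁻¹ * b⁻¹)) * a⁻¹ := by rw [hcom]; group
      _ = (w * (a * b) * w⁻¹) * (a * b)⁻¹ := by group
      _ = x * m := by rw [← htab, hwt]; group
  have hxm1 : ∀ k : ZMod 2, x * m ≠ pw x k := by
    intro k hk
    rcases z2 k with rfl | rfl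
    · rw [pw_zero] at hk
      apply T.ne_x S
      have : m = x⁻¹ := eq_inv_of_mul_eq_one_right hk
      rw [this, inv_eq_of_mul_eq_one_left hxx]
    · rw [pw_one] at hk
      exact T.ne_one S (by simpa using hk)
  have hpw : ∀ a : G, (a = 1 ∨ a = x) → ∃ k : ZMod 2, a = pw x k := by
    rintro a (rfl | rfl)
    · exact ⟨0, by simp⟩
    · exact ⟨1, by simp⟩
  have hxmX : x * m ∈ W y x := mul_mem hxX T.hm
  -- both are nontrivial
  have hae : bf W y a e = 1 := by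
    refine z2_ne fun h0 => ?_
    rw [T.four S E ha ha1 h0 hw, one_mul] at hαβ
    obtain ⟨k, hk⟩ := hpw _ (T'.j_cap S hβ1 hβ2 (by rw [hαβ, S.w_x h]; exact hxmX))
    exact hxm1 k (hαβ.symm.trans hk)
  have hbe : bf W (x * y) b e' = 1 := by
    refine z2_ne fun h0 => ?_
    rw [T'.four S E' hb hb1 h0 hw, mul_one] at hαβ
    obtain ⟨k, hk⟩ := hpw _ (T.j_cap S hα1 hα2 (by rw [hαβ]; exact hxmX))
    exact hxm1 k (hαβ.symm.trans hk)
  rw [hae, pw_one] at hi
  rw [hbe, pw_one] at hj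
  have hex : e * x = x * e := S.comm h E.memY hxY
  have hex' : e' * x = x * e' := S.comm h' E'.memY hxS
  have hmx : m * x = x * m := (S.xy_comm hr).symm
  -- `c + i + j = 1`
  have hsum : c + (i + j) = 1 := by
    rw [hi, hj] at hαβ
    have e1 : e * pw x i * (e' * pw x j) = pw x (c + (i + j)) * m := by
      calc e * pw x i * (e' * pw x j) = e * (pw x i * e') * pw x j := by group
        _ = (e * e') * (pw x i * pw x j) := by rw [← pw_comm hex']; group
        _ = pw x c * (m * pw x (i + j)) := by rw [hc, ← pw_add hxx]; group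
        _ = (pw x c * pw x (i + j)) * m := by rw [pw_comm hmx]; group
        _ = pw x (c + (i + j)) * m := by rw [← pw_add hxx]
    rw [e1] at hαβ
    have e2 := mul_right_cancel hαβ
    refine pw_inj hx1 ?_
    rw [e2, pw_one]
  -- `q`
  obtain ⟨t2, ht2m, ht20, ht21⟩ : ∃ t ∈ W y x, bf W x t m = 0 ∧ bf W x t y = 1 := by
    by_contra hcon
    push Not at hcon
    apply (T.swap S).nl
    rw [S.mem_ln hr]
    exact S.dp1 h T.hm hyX (fun c hc1 hc2 => by
      by_contra h3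
      exact hcon c hc1 hc2 (z2_ne h3))
  rcases S.pt_cases h ht2m with rfl | rfl | ⟨hr2, hX2⟩
  · rw [S.bf_one_left h hyX] at ht21; exact zero_ne_one ht21
  · rw [S.bf_x_left h hyX] at ht21; exact zero_ne_one ht21
  obtain ⟨q, hqx, hq⟩ := S.exists_f hr2
  rw [hX2] at hq
  have hqx' : q * x * q⁻¹ = x := by rw [hqx]; group
  have hqy : q * y * q⁻¹ = x * y := by
    rw [hq y hyX, S.bf_symm h hyX ht2m, ht21, pw_one]
  have hqm : q * m * q⁻¹ = m := by
    rw [hq m T.hm, S.bf_symm h T.hm ht2m, ht20, pw_zero, one_mul]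
  have hqY : ∀ g ∈ W x y, q * g * q⁻¹ ∈ W x (x * y) := by
    intro g hg
    have := S.wconj q h g hg
    rwa [hqx', hqy] at this
  have hqM : ∀ g ∈ W x m, q * g * q⁻¹ ∈ W x m := by
    intro g hg
    have := S.wconj q hr g hg
    rwa [hqx', hqm] at this
  have hbY : ∀ g, ∀ g' ∈ W x y, bf W (x * y) (q * g * q⁻¹) (q * g' * q⁻¹) = bf W y g g' := by
    intro g g' hg'
    have := S.bf_conj q hs (a := g) hg'
    rwa [hqy] at this
  have hbM : ∀ g, ∀ g' ∈ W x m, bf W m (q * g * q⁻¹) (q * g' * q⁻¹) = bf W m g g' := by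
    intro g g' hg'
    have := S.bf_conj q hrs (a := g) hg'
    rwa [hqm] at this
  set a' := q * a * q⁻¹ with ha'
  set w' := q * w * q⁻¹ with hw'
  set e1 := q * e * q⁻¹ with he1
  have ha'S := hqY a ha
  have hw'M := hqM w hw
  have he1S := hqY e E.memY
  have he1M := hqM e E.memM
  have ha'x : bf W (x * y) a' x = 0 := by
    have := hbY a x hxY
    rwa [hqx', ha1] at this
  have hw'x : bf W m w' x = 1 := by
    have := hbM w x hxM
    rwa [hqx', hwx] at this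
  have ha'e : bf W (x * y) a' e1 = 1 := (hbY a e E.memY).trans hae
  have hw'e : bf W m w' e1 = 0 := (hbM w e E.memM).trans hwe
  have hconj : w' * a' * w'⁻¹ * a'⁻¹ = e1 * pw x i := by
    have : w' * a' * w'⁻¹ * a'⁻¹ = q * (w * a * w⁻¹ * a⁻¹) * q⁻¹ := by
      rw [hw', ha']; group
    rw [this, hi]
    have e2 : q * (e * pw x i) * q⁻¹ = (q * e * q⁻¹) * (q * pw x i * q⁻¹) := by group
    rw [e2, conj_pw, hqx']
  obtain ⟨l, hl⟩ := E'.act a' ha'S ha'x w' hw'M
  rw [hw'x, mul_one, hconj] at hl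
  -- `e1 = e' x^d`
  have hae' : bf W (x * y) a' e' = 1 := by
    refine z2_ne fun h0 => ?_
    rw [h0, pw_zero, one_mul] at hl
    apply E.nx
    have h2 : e1 = pw x l * (pw x i)⁻¹ := eq_mul_inv_of_mul_eq hl
    have h3 : e = q⁻¹ * e1 * q := by rw [he1]; group
    have h4 : ∀ k : ZMod 2, q⁻¹ * pw x k * q = pw x k := by
      intro k
      have h5 := conj_pw (a := x) (g := q⁻¹) k
      rw [inv_inv] at h5
      rw [h5]
      have h6 : q⁻¹ * x * q = x := by
        calc q⁻¹ * x * q = q⁻¹ * (x * q) := by group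
          _ = x := by rw [← hqx]; group
      rw [h6]
    have h7 : e = (q⁻¹ * pw x l * q) * (q⁻¹ * pw x i * q)⁻¹ := by
      rw [h3, h2]; group
    rw [h7, h4, h4]
    exact mul_mem (pw_mem hxX _) (inv_mem (pw_mem hxX _))
  rw [hae', pw_one] at hl
  obtain ⟨d, hd⟩ : ∃ d : ZMod 2, e1 = e' * pw x d := by
    refine ⟨l + i, ?_⟩
    have h2 : e1 = e' * pw x l * (pw x i)⁻¹ := eq_mul_inv_of_mul_eq hl
    rw [h2, pw_add hxx]
    have h3 : (pw x i)⁻¹ = pw x i := by
      rw [inv_eq_iff_mul_eq_one, ← pw_add hxx, z2_add_self, pw_zero]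
    rw [h3, mul_assoc]
  -- `B_m(w', e') = d`, `B_m(w, e') = c`
  have hw'e' : bf W m w' e' = d := by
    have h2 := hw'e
    rw [hd, S.bf_mul_right hrs E'.memM (pw_mem hxM _) hw'M, S.bf_pw_right hrs hw'M, hw'x, mul_one] at h2
    exact z2_eq h2
  have hwe' : bf W m w e' = c := by
    have h2 := S.bf_mul_right hrs E.memM E'.memM hw
    rw [hc, hwe, zero_add, S.bf_mul_right hrs (pw_mem hxM _) hmM hw, S.bf_pw_right hrs hw, hwx, mul_one,
      bf_x_right, add_zero] at h2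
    exact h2.symm
  -- `n`, `t0`
  set n := w' * w⁻¹ with hn
  have hnM : n ∈ W x m := mul_mem hw'M (inv_mem hw)
  have hww : w⁻¹ = w := S.inv_eq hr hw
  have hnx : bf W m n x = 0 := by
    rw [hn, hww, S.bf_mul_left hrs hw'M hw hxM, hw'x, hwx]; decide
  have hne' : bf W m n e' = d + c := by
    rw [hn, hww, S.bf_mul_left hrs hw'M hw E'.memM, hw'e', hwe']
  have hbb : b⁻¹ = b := S.inv_eq h' hb
  set t0 := a' * b⁻¹ with ht0
  have ht0S : t0 ∈ W x (x * y) := mul_mem ha'S (inv_mem hb)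
  have ht0x : bf W (x * y) t0 x = 0 := by
    rw [ht0, hbb, S.bf_mul_left hs' ha'S hb hxS, ha'x, hb1, add_zero]
  have ht0e : bf W (x * y) t0 e' = 0 := by
    rw [ht0, hbb, S.bf_mul_left hs' ha'S hb E'.memY, hae', hbe]; decide
  have hwn : w' = n * w := by rw [hn]; group
  have htb : a' = t0 * b := by rw [ht0]; group
  have h41 := T'.four S E' ht0S ht0x ht0e hw
  have h42 := T'.four S E' ht0S ht0x ht0e hnM
  have h43 := T'.three' S E' hnM hnx hb hb1
  rw [hne', hbe, mul_one] at h43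
  have hwt0 : w * t0 = t0 * w := by
    calc w * t0 = (w * t0 * w⁻¹ * t0⁻¹) * (t0 * w) := by group
      _ = t0 * w := by rw [h41, one_mul]
  have hnt0 : n * t0 = t0 * n := by
    calc n * t0 = (n * t0 * n⁻¹ * t0⁻¹) * (t0 * n) := by group
      _ = t0 * n := by rw [h42, one_mul]
  have hnβ : n * (w * b * w⁻¹ * b⁻¹) = (w * b * w⁻¹ * b⁻¹) * n := S.comm hr hnM hβ2
  have ht0β : t0 * (w * b * w⁻¹ * b⁻¹) = (w * b * w⁻¹ * b⁻¹) * t0 := S.comm h' ht0S hβ1
  have ht0x' : t0 * x = x * t0 := S.comm h' ht0S hxS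
  have hfin : w' * a' * w'⁻¹ * a'⁻¹ = e' * pw x (j + (d + c)) := by
    rw [hwn, htb]
    calc n * w * (t0 * b) * (n * w)⁻¹ * (t0 * b)⁻¹ =
        n * (w * t0) * b * w⁻¹ * n⁻¹ * b⁻¹ * t0⁻¹ := by group
      _ = (n * t0) * (w * b * w⁻¹) * n⁻¹ * b⁻¹ * t0⁻¹ := by rw [hwt0]; group
      _ = t0 * (n * (w * b * w⁻¹ * b⁻¹)) * b * n⁻¹ * b⁻¹ * t0⁻¹ := by rw [hnt0]; group
      _ = t0 * (w * b * w⁻¹ * b⁻¹) * (n * b * n⁻¹ * b⁻¹) * t0⁻¹ := by rw [hnβ]; group
      _ = (w * b * w⁻¹ * b⁻¹) * (t0 * (n * b * n⁻¹ * b⁻¹)) * t0⁻¹ := by rw [ht0β]; group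
      _ = (w * b * w⁻¹ * b⁻¹) * pw x (d + c) := by
        rw [h43, pw_comm ht0x']; group
      _ = e' * pw x (j + (d + c)) := by rw [hj, pw_add hxx j]; group
  rw [hconj, hd, mul_assoc, ← pw_add hxx] at hfin
  have h9 := pw_inj hx1 (mul_left_cancel hfin)
  -- `d + i = j + d + c`
  revert hsum h9
  generalize i = i', j = j', c = c', d = d'
  revert i' j' c' d'
  decide

end Tri

end Cfsg.Agent.Omega.NO3S.TV.Eight

end

-- merged: Cfsg.Agent.Mrg.Omega.NO3S.TV.EightOf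
section

/-!
# NO-3S, `q = 2`, `n = 1`, transvection types: the bridge from families to section 8 (helper918)

* `Rel V x y` : `x ≠ y` are points of a conjugate of `V`; `WW V cf x y` : the `W`-group at `y` of the line `⟨x, y⟩`;
* `LocE T V z cf` : the facts about the points of `V`; `LocE.dat : Dat (Rel V) (WW V cf)`;
* `LocE.false` : no element of `W_z - V` centralizes `W_y`.
-/

set_option autoImplicit false
set_option linter.unusedSectionVars false

namespace Cfsg.Agent.Omega.NO3S.TV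

open Subgroup Cfsg Cfsg.Agent.ZN Cfsg.Agent.MinSimple.Geo Cfsg.Agent.Omega.CaseL
  Cfsg.Agent.Omega.NO3S.Fit
open Cfsg.Agent.ZN.Block (conj_mem_of_normalizer conj_mem_of_normalizer' le_normalizer_of_forall
  mem_normalizer_of)

universe u

variable {G : Type u} [Group G]

/-- `x ≠ y` are points of a conjugate of `V` -/
def Rel (V : Subgroup G) (x y : G) : Prop := ∃ g : G, x ∈ cj g V ∧ y ∈ cj g V ∧ x ≠ 1 ∧ y ≠ 1 ∧ x ≠ y

/-- the `W`-group at `y` of the line `⟨x, y⟩` -/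
def WW (V : Subgroup G) (cf : G → Subgroup G) (x y : G) : Subgroup G :=
  sSup {A | ∃ g : G, x ∈ cj g V ∧ y ∈ cj g V ∧ x ≠ 1 ∧ y ≠ 1 ∧ x ≠ y ∧ A = cj g (ww V cf (g⁻¹ * y * g))}

/-- **The facts about the points of `V`** at `r = 0`. -/
structure LocE (T V : Subgroup G) (z : G) (cf : G → Subgroup G) : Prop extends Fam T V z cf where
  inter : jj V cf ≤ V
  two : CommTwo V cf
  one : Fam.One1 V cf
  pt : ∀ m ∈ ww V cf z, m ≠ 1 → m ≠ z → m ∈ pts V cf z
  perp : ∀ y ∈ V, y ≠ 1 → y ≠ z → ∀ m ∈ pts V cf z, (∀ b ∈ ww V cf y, m * b = b * m) →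
    ∀ b ∈ wt V cf z m, y * b = b * y
  gg : ∀ y ∈ V, y ≠ 1 → y ≠ z → ∀ c ∈ centralizer (V : Set G),
    (∀ d ∈ ww V cf z, (∀ b ∈ ww V cf y, d * b = b * d) → c * d * c⁻¹ * d⁻¹ ∈ V) →
      ∀ d ∈ ww V cf y, (∀ b ∈ ww V cf z, d * b = b * d) → c * d * c⁻¹ * d⁻¹ ∈ V

section WW

variable {T V : Subgroup G} {z : G} {cf : G → Subgroup G}

/-- a line is determined by two of its points -/
theorem cj_le_of (h : Fam T V z cf) {x y g g' : G} (hx : x ∈ cj g V) (hy : y ∈ cj g V) (hx' : x ∈ cj g' V)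
    (hy' : y ∈ cj g' V) (hx1 : x ≠ 1) (hy1 : y ≠ 1) (hxy : x ≠ y) : cj g V ≤ cj g' V := by
  intro a ha
  rw [mem_cj] at hx hy ha
  have h1 : g⁻¹ * x * g ≠ 1 := Fam.conj_ne' hx1
  have h2 : g⁻¹ * y * g ≠ 1 := Fam.conj_ne' hy1
  have h3 : g⁻¹ * x * g ≠ g⁻¹ * y * g := by
    intro e
    apply hxy
    calc x = g * (g⁻¹ * x * g) * g⁻¹ := by group
      _ = y := by rw [e]; group
  have e : a = g * (g⁻¹ * a * g) * g⁻¹ := by group
  rcases h.ln.four hx hy h1 h2 h3 ha with e1 | e1 | e1 | e1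
  · rw [e, e1]; simp
  · rw [e, e1]
    have : g * (g⁻¹ * x * g) * g⁻¹ = x := by group
    rwa [this]
  · rw [e, e1]
    have : g * (g⁻¹ * y * g) * g⁻¹ = y := by group
    rwa [this]
  · rw [e, e1]
    have : g * (g⁻¹ * x * g * (g⁻¹ * y * g)) * g⁻¹ = x * y := by group
    rw [this]
    exact mul_mem hx' hy'

theorem mem_normalizer_of_two (h : Fam T V z cf) {x y g g' : G} (hx : x ∈ cj g V) (hy : y ∈ cj g V)
    (hx' : x ∈ cj g' V) (hy' : y ∈ cj g' V) (hx1 : x ≠ 1) (hy1 : y ≠ 1) (hxy : x ≠ y) :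
    g⁻¹ * g' ∈ normalizer (V : Set G) := by
  have e : cj g V = cj g' V :=
    le_antisymm (cj_le_of h hx hy hx' hy' hx1 hy1 hxy) (cj_le_of h hx' hy' hx hy hx1 hy1 hxy)
  rw [mem_normalizer_iff_cj]
  have h1 : cj g⁻¹ (cj g' V) = cj g⁻¹ (cj g V) := by rw [e]
  rw [cj_cj, cj_cj, inv_mul_cancel, cj_one] at h1
  exact h1

/-- the computation of `WW` -/
theorem WW_eq (h : Fam T V z cf) {x y g : G} (hx : x ∈ cj g V) (hy : y ∈ cj g V) (hx1 : x ≠ 1) (hy1 : y ≠ 1)
    (hxy : x ≠ y) : WW V cf x y = cj g (ww V cf (g⁻¹ * y * g)) := by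
  apply le_antisymm
  · refine sSup_le ?_
    rintro A ⟨g', hx', hy', -, -, -, rfl⟩
    have hn := mem_normalizer_of_two h hx hy hx' hy' hx1 hy1 hxy
    have hy0 : g'⁻¹ * y * g' ∈ V := mem_cj.mp hy'
    have h1 := h.cj_ww hn hy0 (Fam.conj_ne' hy1)
    have e : (g⁻¹ * g') * (g'⁻¹ * y * g') * (g⁻¹ * g')⁻¹ = g⁻¹ * y * g := by group
    rw [e] at h1
    rw [← h1, cj_cj, mul_inv_cancel_left]
  · exact le_sSup ⟨g, hx, hy, hx1, hy1, hxy, rfl⟩

/-- normal form of a pair -/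
theorem Rel.rep (h : Fam T V z cf) {x y : G} (hr : Rel V x y) :
    ∃ g y0 : G, y0 ∈ V ∧ y0 ≠ 1 ∧ y0 ≠ z ∧ x = g * z * g⁻¹ ∧ y = g * y0 * g⁻¹ := by
  obtain ⟨g, hx, hy, hx1, hy1, hxy⟩ := hr
  rw [mem_cj] at hx hy
  obtain ⟨n, hn, hnz⟩ := h.ln.trans _ hx (Fam.conj_ne' hx1)
  refine ⟨g * n, n⁻¹ * (g⁻¹ * y * g) * n, h.conj_pt' hn hy, Fam.conj_ne' (Fam.conj_ne' hy1), ?_, ?_, ?_⟩
  · intro e
    apply hxy
    have e1 : g⁻¹ * y * g = g⁻¹ * x * g := by
      rw [← hnz, ← e]; group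
    calc x = g * (g⁻¹ * x * g) * g⁻¹ := by group
      _ = y := by rw [← e1]; group
  · calc x = g * (g⁻¹ * x * g) * g⁻¹ := by group
      _ = g * n * z * (g * n)⁻¹ := by rw [← hnz]; group
  · group

theorem rel_base (h : Fam T V z cf) {y0 : G} (hy : y0 ∈ V) (hy1 : y0 ≠ 1) (hyz : y0 ≠ z) (g : G) :
    Rel V (g * z * g⁻¹) (g * y0 * g⁻¹) := by
  refine ⟨g, conj_mem_cj h.ln.z_mem, conj_mem_cj hy, Fam.conj_ne h.ln.z_ne, Fam.conj_ne hy1, fun e => hyz ?_⟩
  have := congrArg (fun a => g⁻¹ * a * g) e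
  calc y0 = g⁻¹ * (g * y0 * g⁻¹) * g := by group
    _ = g⁻¹ * (g * z * g⁻¹) * g := this.symm
    _ = z := by group

theorem WW_base (h : Fam T V z cf) {p q : G} (hp : p ∈ V) (hp1 : p ≠ 1) (hq : q ∈ V) (hq1 : q ≠ 1)
    (hpq : p ≠ q) (g : G) : WW V cf (g * p * g⁻¹) (g * q * g⁻¹) = cj g (ww V cf q) := by
  have hne : g * p * g⁻¹ ≠ g * q * g⁻¹ := by
    intro e
    apply hpq
    calc p = g⁻¹ * (g * p * g⁻¹) * g := by group
      _ = g⁻¹ * (g * q * g⁻¹) * g := by rw [e]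
      _ = q := by group
  rw [WW_eq h (conj_mem_cj hp) (conj_mem_cj hq) (Fam.conj_ne hp1) (Fam.conj_ne hq1) hne]
  congr 2
  group

end WW

namespace LocE

variable {T V : Subgroup G} {z : G} {cf : G → Subgroup G}

theorem cz_iff {A : Subgroup G} {g a : G} : Eight.Cz (cj g A) (g * a * g⁻¹) ↔ Eight.Cz A a := by
  constructor
  · intro h b hb
    have := h _ (conj_mem_cj hb)
    calc a * b = g⁻¹ * (g * a * g⁻¹ * (g * b * g⁻¹)) * g := by group
      _ = g⁻¹ * (g * b * g⁻¹ * (g * a * g⁻¹)) * g := by rw [this]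
      _ = b * a := by group
  · intro h b hb
    have := h _ (mem_cj.mp hb)
    calc g * a * g⁻¹ * b = g * (a * (g⁻¹ * b * g)) * g⁻¹ := by group
      _ = g * ((g⁻¹ * b * g) * a) * g⁻¹ := by rw [this]
      _ = b * (g * a * g⁻¹) := by group

theorem conj_back {A : Subgroup G} {g a : G} : g * a * g⁻¹ ∈ cj g A ↔ a ∈ A := by
  rw [mem_cj]
  have e : g⁻¹ * (g * a * g⁻¹) * g = a := by group
  rw [e]

theorem exists_conj (g a : G) : ∃ b, a = g * b * g⁻¹ := ⟨g⁻¹ * a * g, by group⟩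

/-- `a ∈ W_p` centralizes `W_q` iff it is in `Q_q` -/
theorem cz_iff_qq [Finite G] (L : LocE T V z cf) {p q a : G} (hp : p ∈ V) (hp1 : p ≠ 1) (hq : q ∈ V) (hq1 : q ≠ 1)
    (hqp : q ≠ p) (ha : a ∈ ww V cf p) : Eight.Cz (ww V cf q) a ↔ a ∈ qq V cf q := by
  have h := L.toFam
  constructor
  · intro h1
    refine h.mem_qq_of hq hq1 (h.ww_le_cf' hp hp1 hq hq1 ha) fun w hw => Or.inl ?_
    rw [h1 w hw]; group
  · intro h1 b hb
    rcases h.qq_cases hq h1 hb with e | e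
    · exact comm_of_conj_eq e
    · rcases L.two p hp hp1 q hq hq1 hqp a ha b hb with e' | e'
      · exact comm_of_conj_eq (mul_inv_eq_one.mp e')
      · exfalso
        have e2 : a * b * a⁻¹ * b⁻¹ = q := by rw [e]; group
        rw [e2] at e'
        exact hp1 (by simpa using e')

/-- **the bridge** -/
theorem dat [Finite G] (L : LocE T V z cf) : Eight.Dat (Rel V) (WW V cf) := by
  have h := L.toFam
  have hz := h.ln.z_mem
  have hz1 := h.ln.z_ne
  have sq := h.ln.sq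
  -- `WW` for a pair in normal form
  have w1 : ∀ (g y0 : G), y0 ∈ V → y0 ≠ 1 → y0 ≠ z →
      WW V cf (g * z * g⁻¹) (g * y0 * g⁻¹) = cj g (ww V cf y0) := fun g y0 hy hy1 hyz =>
    WW_base h hz hz1 hy hy1 (Ne.symm hyz) g
  have w2 : ∀ (g y0 : G), y0 ∈ V → y0 ≠ 1 → y0 ≠ z →
      WW V cf (g * y0 * g⁻¹) (g * z * g⁻¹) = cj g (ww V cf z) := fun g y0 hy hy1 hyz =>
    WW_base h hy hy1 hz hz1 hyz g
  have hsymm : ∀ {x y : G}, Rel V x y → Rel V y x := by
    rintro x y ⟨g, hx, hy, hx1, hy1, hxy⟩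
    exact ⟨g, hy, hx, hy1, hx1, hxy.symm⟩
  refine
    { symm := hsymm
      third := ?_
      ne := fun ⟨g, hx, hy, hx1, hy1, hxy⟩ => hxy
      ne1 := fun ⟨g, hx, hy, hx1, hy1, hxy⟩ => hx1
      sq := ?_
      mem := ?_
      w_third := ?_
      inter := ?_
      cm := ?_
      idx := ?_
      nc := ?_
      pt := ?_
      perp := ?_
      conj := ?_
      wconj := ?_
      gg := ?_ }
  · -- third
    rintro x y ⟨g, hx, hy, hx1, hy1, hxy⟩
    rw [mem_cj] at hx hy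
    refine ⟨g, mem_cj.mpr hx, ?_, hx1, ?_, fun e => hy1 (by simpa using e.symm)⟩
    · rw [mem_cj]
      have := mul_mem hx hy
      have e : g⁻¹ * (x * y) * g = (g⁻¹ * x * g) * (g⁻¹ * y * g) := by group
      rwa [e]
    · intro e
      apply hxy
      have h1 := sq _ hx
      have h2 : x * x = 1 := by
        calc x * x = g * ((g⁻¹ * x * g) * (g⁻¹ * x * g)) * g⁻¹ := by group
          _ = 1 := by rw [h1]; group
      exact mul_left_cancel (h2.trans e.symm)
  · -- sq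
    intro x y hr a ha
    obtain ⟨g, y0, hy, hy1, hyz, rfl, rfl⟩ := hr.rep h
    rw [w1 g y0 hy hy1 hyz, mem_cj] at ha
    have := h.sq hy hy1 _ ha
    calc a * a = g * ((g⁻¹ * a * g) * (g⁻¹ * a * g)) * g⁻¹ := by group
      _ = 1 := by rw [this]; group
  · -- mem
    intro x y hr
    obtain ⟨g, y0, hy, hy1, hyz, rfl, rfl⟩ := hr.rep h
    rw [w1 g y0 hy hy1 hyz]
    exact ⟨conj_mem_cj (h.V_le hz), conj_mem_cj (h.V_le hy)⟩
  · -- w_third
    intro x y hr
    obtain ⟨g, y0, hy, hy1, hyz, rfl, rfl⟩ := hr.rep h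
    have e : g * z * g⁻¹ * (g * y0 * g⁻¹) = g * (z * y0) * g⁻¹ := by group
    rw [w1 g y0 hy hy1 hyz, e, WW_base h (mul_mem hz hy) (h.mul_ne_one hy (Ne.symm hyz)) hy hy1
      (fun e => hz1 (by simpa using e))]
  · -- inter
    intro x y hr a ha hb
    obtain ⟨g, y0, hy, hy1, hyz, rfl, rfl⟩ := hr.rep h
    rw [w1 g y0 hy hy1 hyz, mem_cj] at ha
    rw [w2 g y0 hy hy1 hyz, mem_cj] at hb
    have h1 := L.inter (h.mem_jj hy hy1 hz hz1 (Ne.symm hyz) ha hb)
    have e : a = g * (g⁻¹ * a * g) * g⁻¹ := by group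
    rcases h.ln.four hz hy hz1 hy1 (Ne.symm hyz) h1 with e1 | e1 | e1 | e1
    · left; rw [e, e1]; group
    · right; left; rw [e, e1]
    · right; right; left; rw [e, e1]
    · right; right; right; rw [e, e1]; group
  · -- cm
    intro x y hr a ha b hb
    obtain ⟨g, y0, hy, hy1, hyz, rfl, rfl⟩ := hr.rep h
    rw [w1 g y0 hy hy1 hyz, mem_cj] at ha
    rw [w2 g y0 hy hy1 hyz, mem_cj] at hb
    have e : a * b * a⁻¹ * b⁻¹ =
        g * ((g⁻¹ * a * g) * (g⁻¹ * b * g) * (g⁻¹ * a * g)⁻¹ * (g⁻¹ * b * g)⁻¹) * g⁻¹ := by group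
    rcases L.two y0 hy hy1 z hz hz1 (Ne.symm hyz) _ ha _ hb with e1 | e1
    · left; rw [e, e1]; group
    · right; rw [e, e1, h.ln.comm hy hz]; group
  · -- idx
    intro x y hr a ha b hb hna hnb
    obtain ⟨g, y0, hy, hy1, hyz, rfl, rfl⟩ := hr.rep h
    obtain ⟨a, rfl⟩ := exists_conj g a
    obtain ⟨b, rfl⟩ := exists_conj g b
    rw [w2 g y0 hy hy1 hyz, conj_back] at ha hb
    rw [w1 g y0 hy hy1 hyz, cz_iff, L.cz_iff_qq hz hz1 hy hy1 hyz ha] at hna
    rw [w1 g y0 hy hy1 hyz, cz_iff, L.cz_iff_qq hz hz1 hy hy1 hyz hb] at hnb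
    have e : g * a * g⁻¹ * (g * b * g⁻¹) = g * (a * b) * g⁻¹ := by group
    rw [w1 g y0 hy hy1 hyz, e, cz_iff, L.cz_iff_qq hz hz1 hy hy1 hyz (mul_mem ha hb)]
    exact L.one z hz hz1 y0 hy hy1 hyz a ha b hb hna hnb
  · -- nc
    intro x y hr
    obtain ⟨g, y0, hy, hy1, hyz, rfl, rfl⟩ := hr.rep h
    obtain ⟨a, ha, b, hb, hab⟩ := h.nc' hz hz1 hy hy1 hyz
    refine ⟨g * a * g⁻¹, ?_, ?_⟩
    · rw [w2 g y0 hy hy1 hyz, conj_back]; exact ha
    · rw [w1 g y0 hy hy1 hyz, cz_iff]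
      exact fun hc => hab (hc b hb)
  · -- pt
    intro x y hr m hm hm1 hmx
    obtain ⟨g, y0, hy, hy1, hyz, rfl, rfl⟩ := hr.rep h
    obtain ⟨m, rfl⟩ := exists_conj g m
    rw [w2 g y0 hy hy1 hyz, conj_back] at hm
    obtain ⟨y', hy', hy1', hyz', c, hc, rfl⟩ := L.pt m hm (fun e => hm1 (by rw [e]; group))
      (fun e => hmx (by rw [e]))
    have hcz : c * z * c⁻¹ = z := conj_eq_of_comm (h.cf_comm hz hz1 hc)
    have e1 : g * z * g⁻¹ = (g * c) * z * (g * c)⁻¹ := by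
      calc g * z * g⁻¹ = g * (c * z * c⁻¹) * g⁻¹ := by rw [hcz]
        _ = (g * c) * z * (g * c)⁻¹ := by group
    have e2 : g * (c * y' * c⁻¹) * g⁻¹ = (g * c) * y' * (g * c)⁻¹ := by group
    refine ⟨?_, ?_⟩
    · rw [e1, e2]; exact rel_base h hy' hy1' hyz' _
    · rw [w2 g y0 hy hy1 hyz, e1, e2, w2 (g * c) y' hy' hy1' hyz', ← cj_cj,
        cj_eq_of_mem_normalizer (h.cf_norm hc)]
  · -- perp
    intro x y hr m hm hm1 hmx hc
    obtain ⟨g, y0, hy, hy1, hyz, rfl, rfl⟩ := hr.rep h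
    obtain ⟨m, rfl⟩ := exists_conj g m
    rw [w2 g y0 hy hy1 hyz, conj_back] at hm
    rw [w1 g y0 hy hy1 hyz, cz_iff] at hc
    have hmp := L.pt m hm (fun e => hm1 (by rw [e]; group)) (fun e => hmx (by rw [e]))
    have h1 := L.perp y0 hy hy1 hyz m hmp hc
    obtain ⟨y', hy', hy1', hyz', c, hcc, rfl⟩ := hmp
    have hcz : c * z * c⁻¹ = z := conj_eq_of_comm (h.cf_comm hz hz1 hcc)
    have e1 : g * z * g⁻¹ = (g * c) * z * (g * c)⁻¹ := by
      calc g * z * g⁻¹ = g * (c * z * c⁻¹) * g⁻¹ := by rw [hcz]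
        _ = (g * c) * z * (g * c)⁻¹ := by group
    have e2 : g * (c * y' * c⁻¹) * g⁻¹ = (g * c) * y' * (g * c)⁻¹ := by group
    rw [e1, e2, w1 (g * c) y' hy' hy1' hyz', ← cj_cj, cz_iff]
    rw [wt_conj h hy' hy1' hyz' hcc] at h1
    exact h1
  · -- conj
    rintro x y k hr
    obtain ⟨g, y0, hy, hy1, hyz, rfl, rfl⟩ := hr.rep h
    have e1 : k * (g * z * g⁻¹) * k⁻¹ = (k * g) * z * (k * g)⁻¹ := by group
    have e2 : k * (g * y0 * g⁻¹) * k⁻¹ = (k * g) * y0 * (k * g)⁻¹ := by group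
    rw [e1, e2]
    exact rel_base h hy hy1 hyz _
  · -- wconj
    intro x y k hr a ha
    obtain ⟨g, y0, hy, hy1, hyz, rfl, rfl⟩ := hr.rep h
    rw [w1 g y0 hy hy1 hyz] at ha
    have e1 : k * (g * z * g⁻¹) * k⁻¹ = (k * g) * z * (k * g)⁻¹ := by group
    have e2 : k * (g * y0 * g⁻¹) * k⁻¹ = (k * g) * y0 * (k * g)⁻¹ := by group
    rw [e1, e2, w1 (k * g) y0 hy hy1 hyz, ← cj_cj]
    exact conj_mem_cj ha
  · -- gg
    intro x y hr c hcx hcy h1 d hd hd1
    obtain ⟨g, y0, hy, hy1, hyz, rfl, rfl⟩ := hr.rep h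
    obtain ⟨c, rfl⟩ := exists_conj g c
    obtain ⟨d, rfl⟩ := exists_conj g d
    have hln : Eight.ln (g * z * g⁻¹) (g * y0 * g⁻¹) = cj g V := by
      apply le_antisymm
      · refine (closure_le _).mpr ?_
        rintro _ (rfl | rfl)
        · exact conj_mem_cj hz
        · exact conj_mem_cj hy
      · intro v hv
        obtain ⟨v, rfl⟩ := exists_conj g v
        rw [conj_back] at hv
        have m1 : g * z * g⁻¹ ∈ Eight.ln (g * z * g⁻¹) (g * y0 * g⁻¹) := subset_closure (Or.inl rfl)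
        have m2 : g * y0 * g⁻¹ ∈ Eight.ln (g * z * g⁻¹) (g * y0 * g⁻¹) := subset_closure (Or.inr rfl)
        rcases h.ln.four hz hy hz1 hy1 (Ne.symm hyz) hv with e1 | e1 | e1 | e1
        · rw [e1]; simp
        · rw [e1]; exact m1
        · rw [e1]; exact m2
        · rw [e1]
          have : g * (z * y0) * g⁻¹ = g * z * g⁻¹ * (g * y0 * g⁻¹) := by group
          rw [this]
          exact mul_mem m1 m2
    rw [hln] at h1 ⊢
    have hback : ∀ a : G, (g * c * g⁻¹) * (g * a * g⁻¹) = (g * a * g⁻¹) * (g * c * g⁻¹) → c * a = a * c := by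
      intro a ha
      calc c * a = g⁻¹ * ((g * c * g⁻¹) * (g * a * g⁻¹)) * g := by group
        _ = g⁻¹ * ((g * a * g⁻¹) * (g * c * g⁻¹)) * g := by rw [ha]
        _ = a * c := by group
    have hcV : c ∈ centralizer (V : Set G) := h.mem_centralizer_of hz hz1 hy hy1 hyz (hback _ hcx) (hback _ hcy)
    rw [w2 g y0 hy hy1 hyz, cz_iff] at hd1
    rw [w1 g y0 hy hy1 hyz, conj_back] at hd
    have e : g * c * g⁻¹ * (g * d * g⁻¹) * (g * c * g⁻¹)⁻¹ * (g * d * g⁻¹)⁻¹ =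
        g * (c * d * c⁻¹ * d⁻¹) * g⁻¹ := by group
    rw [e, conj_back]
    refine L.gg y0 hy hy1 hyz c hcV ?_ d hd hd1
    intro d' hd' hd1'
    have h2 := h1 (g * d' * g⁻¹) (by rw [w2 g y0 hy hy1 hyz, conj_back]; exact hd')
      (by rw [w1 g y0 hy hy1 hyz, cz_iff]; exact hd1')
    have e' : g * c * g⁻¹ * (g * d' * g⁻¹) * (g * c * g⁻¹)⁻¹ * (g * d' * g⁻¹)⁻¹ =
        g * (c * d' * c⁻¹ * d'⁻¹) * g⁻¹ := by group
    rwa [e', conj_back] at h2

/-- **Section 8**: at `r = 0` no element of `W_z - V` centralizes `W_y`. -/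
theorem false [Finite G] (L : LocE T V z cf) {y m : G} (hy : y ∈ V) (hy1 : y ≠ 1) (hyz : y ≠ z) (hm : m ∈ ww V cf z)
    (hmV : m ∉ V) (hc : ∀ b ∈ ww V cf y, m * b = b * m) : False := by
  have h := L.toFam
  have hz := h.ln.z_mem
  have hz1 := h.ln.z_ne
  have D := L.dat
  have w1 := WW_base h hz hz1 hy hy1 (Ne.symm hyz) 1
  have w2 := WW_base h hy hy1 hz hz1 hyz 1
  have hr := rel_base h hy hy1 hyz 1
  simp only [one_mul, inv_one, mul_one, cj_one] at w1 w2 hr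
  refine Eight.Tri.false (x := z) (y := y) (m := m) ⟨hr, ?_, ?_, ?_⟩ D
  · rw [w2]; exact hm
  · rw [D.bf_zero_iff hr, w1]; exact hc
  · intro h1
    apply hmV
    rw [D.mem_ln hr] at h1
    rcases h1 with rfl | rfl | rfl | rfl
    · exact one_mem _
    · exact hz
    · exact hy
    · exact mul_mem hz hy

end LocE

end Cfsg.Agent.Omega.NO3S.TV

end

-- merged: Cfsg.Agent.Mrg.Omega.NO3S.TV.Main
section

section


/-!
# NO-3S, `q = 2`, `n = 1`, transvection types: the assembly for a connected family (helper918)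

* `trp` : transport of `MRep` along an element of `N_G(V)`;
* `Tvf.loc` : helper320's `Loc` from a transvection family with `W_z ∩ W_y = V`;
* `Tvf.core` : sections 3 - 7: all `K_p` are 2-groups, the radical is 0, all vectors `≠ 0` are in `TT`;
* `Tvf.false_of_conn` : a connected transvection family with `W_z ∩ W_y = V` has no point `t ∉ V` centralized by `W_y`.
-/

set_option autoImplicit false
set_option linter.unusedSectionVars false

namespace Cfsg.Agent.Omega.NO3S.TV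

open Subgroup Cfsg Cfsg.Agent.ZN Cfsg.Agent.MinSimple.Geo Cfsg.Agent.Omega.CaseL Cfsg.Agent.Omega.NO3S.Fit
open Cfsg.Agent.ZN.Block (conj_mem_of_normalizer conj_mem_of_normalizer' le_normalizer_of_forall
  mem_normalizer_of)

universe u

variable {G : Type u} [Group G] {T V : Subgroup G} {z : G} {cf : G → Subgroup G}
variable {M H : Type u} [AddCommGroup M] [Group H] [DistribMulAction H M] {B : M → M → ZMod 2}

/-! ### transport along `N_G(V)` -/

/-- transport of the module along `g ∈ N_G(V)`, `x = g z g⁻¹` -/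
def trp (h : Fam T V z cf) {g x : G} (hg : g ∈ normalizer (V : Set G)) (e : g * z * g⁻¹ = x)
    (R : MRep V cf x M H) : MRep V cf z M H :=
  have hz := h.ln.z_mem
  have hz1 := h.ln.z_ne
  have hx : x ∈ V := e ▸ h.conj_pt hg hz
  have hx1 : x ≠ 1 := e ▸ Fam.conj_ne hz1
  have hw : ∀ a ∈ ww V cf z, g * a * g⁻¹ ∈ ww V cf x := fun a ha => e ▸ h.conj_ww hg hz hz1 ha
  have hc : ∀ a ∈ cf z, g * a * g⁻¹ ∈ cf x := fun a ha => by
    rw [← e, ← h.cj_cf g hg z hz hz1]; exact conj_mem_cj ha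
  have hxz : g⁻¹ * x * g⁻¹⁻¹ = z := by rw [← e]; group
  have hw' : ∀ a ∈ ww V cf x, g⁻¹ * a * g ∈ ww V cf z := fun a ha => by
    have := h.conj_ww (inv_mem hg) hx hx1 ha
    rwa [hxz, inv_inv] at this
  have hc' : ∀ a ∈ cf x, g⁻¹ * a * g ∈ cf z := fun a ha => by
    have h1 := h.cj_cf g⁻¹ (inv_mem hg) x hx hx1
    rw [hxz] at h1
    rw [← h1, mem_cj]
    have : g⁻¹⁻¹ * (g⁻¹ * a * g) * g⁻¹ = a := by group
    rwa [this]
  { pi := fun w => R.pi (g * w * g⁻¹)
    phi := fun c => R.phi (g * c * g⁻¹)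
    pi_mul := fun a ha b hb => by
      rw [← R.pi_mul _ (hw a ha) _ (hw b hb)]
      congr 1; group
    pi_surj := fun m => by
      obtain ⟨w, hw1, rfl⟩ := R.pi_surj m
      refine ⟨g⁻¹ * w * g, hw' w hw1, ?_⟩
      congr 1; group
    pi_ker := fun w hw1 => by
      rw [R.pi_ker _ (hw w hw1)]
      constructor
      · rintro (h1 | h1)
        · exact Or.inl (conj_eq_one_iff.mp h1)
        · right
          rw [← e] at h1
          exact mul_left_cancel (mul_right_cancel h1)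
      · rintro (rfl | rfl)
        · left; group
        · right; exact e
    phi_mul := fun c hc1 d hd1 => by
      rw [← R.phi_mul _ (hc c hc1) _ (hc d hd1)]
      congr 1; group
    phi_surj := fun y => by
      obtain ⟨c, hc1, rfl⟩ := R.phi_surj y
      refine ⟨g⁻¹ * c * g, hc' c hc1, ?_⟩
      congr 1; group
    phi_ker := fun c hc1 => by
      rw [R.phi_ker _ (hc c hc1)]
      constructor
      · intro h1
        have h2 := h.conj_qq (inv_mem hg) hx hx1 h1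
        rw [hxz] at h2
        have e3 : g⁻¹ * (g * c * g⁻¹) * g⁻¹⁻¹ = c := by group
        rwa [e3] at h2
      · intro h1
        have := h.conj_qq hg hz hz1 h1
        rwa [e] at this
    act := fun c hc1 w hw1 => by
      rw [R.act _ (hc c hc1) _ (hw w hw1)]
      congr 1; group }

theorem trp_pi (h : Fam T V z cf) {g x : G} (hg : g ∈ normalizer (V : Set G)) (e : g * z * g⁻¹ = x)
    (R : MRep V cf x M H) (w : G) : (trp h hg e R).pi w = R.pi (g * w * g⁻¹) := rfl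

theorem trp_phi (h : Fam T V z cf) {g x : G} (hg : g ∈ normalizer (V : Set G)) (e : g * z * g⁻¹ = x)
    (R : MRep V cf x M H) (c : G) : (trp h hg e R).phi c = R.phi (g * c * g⁻¹) := rfl

/-- the points on `x = g z g⁻¹` -/
theorem pts_conj_iff (h : Fam T V z cf) {g x t : G} (hg : g ∈ normalizer (V : Set G)) (e : g * z * g⁻¹ = x) :
    g * t * g⁻¹ ∈ pts V cf x ↔ t ∈ pts V cf z := by
  have hz := h.ln.z_mem
  have hz1 := h.ln.z_ne
  have hx : x ∈ V := e ▸ h.conj_pt hg hz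
  have hx1 : x ≠ 1 := e ▸ Fam.conj_ne hz1
  have hxz : g⁻¹ * x * g⁻¹⁻¹ = z := by rw [← e]; group
  constructor
  · rintro ⟨y, hy, hy1, hyx, c, hc, e1⟩
    refine ⟨g⁻¹ * y * g, h.conj_pt' hg hy, Fam.conj_ne' hy1, ?_, g⁻¹ * c * g, ?_, ?_⟩
    · intro e2
      apply hyx
      rw [← e, ← e2]; group
    · have h1 := h.cj_cf g⁻¹ (inv_mem hg) x hx hx1
      rw [hxz] at h1
      rw [← h1, mem_cj]
      have : g⁻¹⁻¹ * (g⁻¹ * c * g) * g⁻¹ = c := by group
      rwa [this]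
    · calc t = g⁻¹ * (g * t * g⁻¹) * g := by group
        _ = g⁻¹ * c * g * (g⁻¹ * y * g) * (g⁻¹ * c * g)⁻¹ := by rw [e1]; group
  · rintro ⟨y, hy, hy1, hyz, c, hc, rfl⟩
    refine ⟨g * y * g⁻¹, h.conj_pt hg hy, Fam.conj_ne hy1, ?_, g * c * g⁻¹, ?_, by group⟩
    · intro e2
      apply hyz
      rw [← e] at e2
      exact mul_left_cancel (mul_right_cancel e2)
    · rw [← e, ← h.cj_cf g hg z hz hz1]; exact conj_mem_cj hc

theorem trp_TT (h : Fam T V z cf) {g x : G} (hg : g ∈ normalizer (V : Set G)) (e : g * z * g⁻¹ = x)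
    (R : MRep V cf x M H) : TT (trp h hg e R) = TT R := by
  ext m
  constructor
  · rintro ⟨t, ht, rfl⟩
    exact ⟨_, (pts_conj_iff h hg e).mpr ht, rfl⟩
  · rintro ⟨t, ht, rfl⟩
    refine ⟨g⁻¹ * t * g, ?_, ?_⟩
    · rw [← pts_conj_iff h hg e]
      have : g * (g⁻¹ * t * g) * g⁻¹ = t := by group
      rwa [this]
    · rw [trp_pi]; congr 1; group

theorem trp_isB (h : Fam T V z cf) {g x : G} (hg : g ∈ normalizer (V : Set G)) (e : g * z * g⁻¹ = x)
    (R : MRep V cf x M H) (hB : IsB R B) : IsB (trp h hg e R) B := by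
  intro y hy hy1 hyz w hw hwz
  have hz := h.ln.z_mem
  have hz1 := h.ln.z_ne
  have hx : x ∈ V := e ▸ h.conj_pt hg hz
  have hx1 : x ≠ 1 := e ▸ Fam.conj_ne hz1
  have hxz : g⁻¹ * x * g⁻¹⁻¹ = z := by rw [← e]; group
  refine hB (g * y * g⁻¹) (h.conj_pt hg hy) (Fam.conj_ne hy1) ?_ (g * w * g⁻¹) (h.conj_ww hg hy hy1 hw) ?_
  · intro e2
    apply hyz
    rw [← e] at e2
    exact mul_left_cancel (mul_right_cancel e2)
  · intro h1
    apply hwz
    have h2 := h.conj_qq (inv_mem hg) hx hx1 h1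
    rw [hxz] at h2
    have e3 : g⁻¹ * (g * w * g⁻¹) * g⁻¹⁻¹ = w := by group
    rwa [e3] at h2

/-- the graph is connected, for every module at `z` -/
def AllConn (V : Subgroup G) (cf : G → Subgroup G) (z : G) : Prop :=
  ∀ (M H : Type u) [AddCommGroup M] [Group H] [DistribMulAction H M] (R : MRep V cf z M H) (B : M → M → ZMod 2),
    IsB R B → Conn (TT R) B

theorem AllConn.conj (h : Fam T V z cf) (hc : AllConn V cf z) {g x : G} (hg : g ∈ normalizer (V : Set G))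
    (e : g * z * g⁻¹ = x) : AllConn V cf x := by
  intro M H _ _ _ R B hB
  have := hc M H (trp h hg e R) B (trp_isB h hg e R hB)
  rwa [trp_TT] at this

namespace Tvf

/-! ### `Loc` -/

variable (h : Tvf T V z cf) [Finite G] (R : MRep V cf z M H) (hB : IsB R B)
include h

theorem perp_iff {x w : G} (hB : IsB R B) (hx : x ∈ V) (hx1 : x ≠ 1) (hxz : x ≠ z) (hw : w ∈ ww V cf z) :
    B (R.pi w) (R.pi x) = 0 ↔ w ∈ kk V cf x := by
  rw [h.form_pt R hB (mem_pts hx hx1 hxz) hw, wt_eq h.toFam hx hx1 hxz, kk, mem_centralizer_iff]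
  exact ⟨fun h1 b hb => (h1 b hb).symm, fun h1 b hb => (h1 b hb).symm⟩

theorem loc [FaithfulSMul H M] (hB : IsB R B) (hj : jj V cf ≤ V) : Loc T V z cf R (TT R) B where
  fam := h.toFam
  jj := le_antisymm hj h.toFam.V_le_jj
  sys := h.sys R hB
  inj := h.inj R hB
  map := (h.act R hB).smul_mem
  form := (h.act R hB).form
  mem _ hx hx1 hxz := pi_mem_TT R (mem_pts hx hx1 hxz)
  perp _ hx hx1 hxz _ hw := h.perp_iff R hB hx hx1 hxz hw

/-- the points on `z` over one point `y ∈ V` -/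
theorem TT_pts {y : G} (hy : y ∈ V) (hy1 : y ≠ 1) (hyz : y ≠ z) {t : M} (ht : t ∈ TT R) :
    ∃ c ∈ cf z, t = R.pi (c * y * c⁻¹) := by
  rw [h.TT_eq R hy hy1 hyz] at ht
  obtain ⟨x, rfl⟩ := ht
  obtain ⟨c, hc, rfl⟩ := R.phi_surj x
  exact ⟨c, hc, R.act c hc y (h.V_le hy)⟩

/-- `W_y` contains an element which acts as the transvection -/
theorem exists_tv {y : G} (hB : IsB R B) (hy : y ∈ V) (hy1 : y ≠ 1) (hyz : y ≠ z) : ∃ w ∈ ww V cf y, ∀ m : M,
    (B m (R.pi y) = 0 → R.phi w • m = m) ∧ (B m (R.pi y) = 1 → R.phi w • m = m + R.pi y) := by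
  have hp := mem_pts (cf := cf) hy hy1 hyz
  obtain ⟨b, hb, hbz⟩ := h.exists_wt hp
  refine ⟨b, ?_, fun m => h.phi_wt R hB hp hb hbz m⟩
  rwa [wt_eq h.toFam hy hy1 hyz] at hb

/-- **sections 3 - 7** -/
theorem core [Finite M] [FaithfulSMul H M] (hB : IsB R B) (hj : jj V cf ≤ V) (hc : AllConn V cf z) {x t0 : G}
    (hx : x ∈ V) (hx1 : x ≠ 1) (hxz : x ≠ z) (ht0 : t0 ∈ pts V cf z) (ht0k : t0 ∈ kk V cf x) (ht0V : t0 ∉ V) :
    (∀ p ∈ V, p ≠ 1 → IsPGroup 2 (kk V cf p)) ∧ (∀ m, (∀ a, B m a = 0) → m = 0) ∧ ∀ m : M, m ≠ 0 → m ∈ TT R := by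
  have hz := h.z_mem
  have hz1 := h.z_ne
  have hzx : z ≠ x := Ne.symm hxz
  have S := h.sys R hB
  have A := h.act R hB
  have I := h.inj R hB
  have C := hc M H R B hB
  have L := h.loc R hB hj
  -- the module at `x`
  obtain ⟨g, hg, e, h'⟩ := h.point hx hx1
  obtain ⟨M', H', i1, i2, i3, i4, i5, i6, ⟨R'⟩⟩ := h'.toFam.exists_mrep
  obtain ⟨B', hB'⟩ := h'.exists_isB R'
  have S' := h'.sys R' hB'
  have A' := h'.act R' hB'
  have I' := h'.inj R' hB'
  have C' := (hc.conj h.toFam hg e) M' H' R' B' hB'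
  have L' := h'.loc R' hB' hj
  have hzp : z ∈ pts V cf x := mem_pts hz hz1 hzx
  -- swap
  have swap : ∀ c, Far V z cf x c → ∃ d, Loc.Sw z cf x c d := by
    intro c hF
    have hpp : c * z * c⁻¹ ∈ pts V cf x := mem_pts_conj hz hz1 hzx hF.mem
    have h0 : B' (R'.pi z) (R'.pi (c * z * c⁻¹)) = 0 := by
      rw [S'.symm, h'.perp_iff R' hB' hz hz1 hzx (h'.pt_mem hpp)]
      exact hF.cent
    have hne : R'.pi z ≠ R'.pi (c * z * c⁻¹) := by
      intro e1
      apply hF.nmem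
      rcases (R'.pi_eq h'.toFam (h'.V_le hz) (h'.pt_mem hpp)).mp e1 with e2 | e2
      · rw [← e2]; exact hz
      · have : c * z * c⁻¹ = x * z := by
          have h5 : x * z = x * (x * (c * z * c⁻¹)) := congrArg (fun a => x * a) e2
          rw [h5, ← mul_assoc, h.ln.sq x hx, one_mul]
        rw [this]; exact mul_mem hx hz
    obtain ⟨d, hd, e1, e2⟩ := h'.swap R' hB' C' hzp hpp h0 hne
    exact ⟨d, hd, e1, e2⟩
  have tri : ∀ c, Far V z cf x c → ∀ n ∈ cj c (ww V cf z), n ∈ kk V cf x → Tri R B x n :=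
    fun c hF n hn hnk => L.tri_far A hx hx1 hxz hF.mem hn hnk
  have hpts : ∀ t ∈ TT R', ∃ c ∈ cf x, t = R'.pi (c * z * c⁻¹) := fun t ht => h'.TT_pts R' hz hz1 hzx ht
  have hw0 := h'.exists_tv R' hB' hz hz1 hzx
  have hKK : IsPGroup 2 (kk V cf z ⊓ kk V cf x : Subgroup G) := h.kk_inf_two R hB C hz hz1 hx hx1 hxz
  have hxzV : x * z ∈ V := mul_mem hx hz
  have hxz1 : x * z ≠ 1 := h.mul_ne_one hz hxz
  have hxzz : x * z ≠ z := fun e1 => hx1 (by simpa using e1)
  have hKK' : IsPGroup 2 (kk V cf z ⊓ kk V cf (x * z) : Subgroup G) :=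
    h.kk_inf_two R hB C hz hz1 hxzV hxz1 hxzz
  -- a point of `D_x - V`
  have hμ : ∃ μ ∈ TT R', B' μ (R'.pi z) = 0 ∧ μ ≠ R'.pi z := by
    obtain ⟨n, hn, e1, e2⟩ := h.trans2 hz hz1 hx hx1 hxz hx hx1 hz hz1 hzx
    have h1 : n * t0 * n⁻¹ ∈ pts V cf x := (pts_conj_iff h.toFam hn e1).mpr ht0
    have h2 : n * t0 * n⁻¹ ∈ kk V cf z := by
      have := h.conj_kk hn hx hx1 ht0k
      rwa [e2] at this
    have h3 : n * t0 * n⁻¹ ∉ V := by
      intro h4
      apply ht0V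
      have := h.toFam.conj_pt' hn h4
      have e3 : n⁻¹ * (n * t0 * n⁻¹) * n = t0 := by group
      rwa [e3] at this
    refine ⟨R'.pi (n * t0 * n⁻¹), pi_mem_TT R' h1, ?_, ?_⟩
    · rw [h'.perp_iff R' hB' hz hz1 hzx (h'.pt_mem h1)]
      exact h2
    · intro e3
      apply h3
      rcases (R'.pi_eq h'.toFam (h'.pt_mem h1) (h'.V_le hz)).mp e3 with e4 | e4
      · rw [e4]; exact hz
      · rw [e4]; exact hxzV
  obtain ⟨c, hF, w, hw, hnt⟩ := L.exists_not_tri A L' hxz hpts hw0 hμ hKK'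
  have hcent := L'.cj_le_cent hz hz1 hxz hF.mem hF.cent
  have hp := L.exists_planar hx hx1 hxz swap tri ⟨c, hF, w, hw, hnt⟩
  have hK : ∀ p ∈ V, p ≠ 1 → IsPGroup 2 (kk V cf p) := L.kk_two' A C hp hx hx1 hxz hF hcent hw hnt hKK
  -- all `W_p` are nontrivial on `N_z`
  have ntri : ∀ c, Far V z cf x c → ∃ w ∈ cj c (ww V cf z), ¬ Tri R B x w := by
    intro c hF
    obtain ⟨w0, hw0, hw0a⟩ := hw0
    have hw0c : w0 ∈ cf x := L.fam.ww_le_cf' hz hz1 hx hx1 hw0
    have hcent := L'.cj_le_cent hz hz1 hxz hF.mem hF.cent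
    refine ⟨c * w0 * c⁻¹, conj_mem_cj hw0, fun ht => ?_⟩
    have hwV := hcent (conj_mem_cj (g := c) hw0)
    have h1 := (L.tri_iff A hx hx1 hxz (hK z hz hz1) hwV).mp ht
    have h2 := (L'.tri_iff A' hz hz1 hzx (hK x hx hx1) hwV).mpr h1
    have hzW : z ∈ ww V cf x := h'.V_le hz
    have hpp : c * z * c⁻¹ ∈ pts V cf x := mem_pts_conj hz hz1 hzx hF.mem
    set μ := R'.pi (c * z * c⁻¹) with hμd
    have hμT : μ ∈ TT R' := pi_mem_TT R' hpp
    have hμne : μ ≠ R'.pi z := by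
      intro e1
      apply hF.nmem
      rcases (R'.pi_eq h'.toFam (h'.pt_mem hpp) hzW).mp e1 with e2 | e2
      · rw [e2]; exact hz
      · rw [e2]; exact hxzV
    obtain ⟨u, hu, hu0, huμ⟩ := S'.exists_nonperp I' (pi_mem_TT R' hzp) hμT hμne
    have hact : R'.phi (c * w0 * c⁻¹) • u = u + μ := by
      rw [R'.phi_mul _ (mul_mem hF.mem hw0c) _ (inv_mem hF.mem), R'.phi_mul _ hF.mem _ hw0c, R'.phi_inv hF.mem,
        mul_smul, mul_smul]
      have hb : B' ((R'.phi c)⁻¹ • u) (R'.pi z) = 1 := by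
        rw [← L'.form (R'.phi c), smul_inv_smul, R'.act c hF.mem z hzW]
        exact huμ
      rw [(hw0a _).2 hb, smul_add, smul_inv_smul, R'.act c hF.mem z hzW]
    obtain ⟨ρ, hρ, h3⟩ := h2 u (by rw [S'.symm]; exact hu0)
    rw [hact] at h3
    rcases h3 with h3 | h3
    · have h4 : μ = ρ := add_left_cancel h3
      obtain ⟨m, hm⟩ := S'.nd μ hμT
      rw [h4, S'.symm, hρ m] at hm
      exact zero_ne_one hm
    · have h4 : μ = R'.pi z + ρ := by
        rw [add_assoc] at h3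
        exact add_left_cancel h3
      apply hμne
      refine I' _ hμT _ (pi_mem_TT R' hzp) fun m => ?_
      rw [h4, S'.add_left, S'.symm ρ, hρ m, add_zero]
  obtain ⟨r, hr⟩ := S.exists_r I C hp
  have hr0 : r = 0 := L.r_eq_zero L' hpts hr.rad_eq (fun a => by rw [S.symm]; exact hr.rad a) hr.perp hxz swap tri
    ntri ⟨c, hF⟩
  subst hr0
  refine ⟨hK, fun m hm => ?_, fun m hm => ?_⟩
  · rcases hr.rad_eq m hm with e1 | e1 <;> exact e1
  · rcases hr.cases m with e1 | e1 | e1 | e1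
    · exact absurd e1 hm
    · exact absurd e1 hm
    · exact e1
    · rwa [add_zero] at e1

/-- the interchange of two commuting conditions -/
theorem cm_two : CommTwo V cf := by
  intro p hp hp1 q hq hq1 hqp a ha b hb
  by_cases h1 : a ∈ qq V cf q
  · left
    have := h.good hp hp1 hq hq1 hqp ha h1 hb
    rw [this]; group
  · by_cases h2 : b ∈ qq V cf p
    · left
      have := h.good hq hq1 hp hp1 (Ne.symm hqp) hb h2 ha
      rw [← this]; group
    · right
      exact h.cm_eq hp hp1 hq hq1 hqp ha h1 hb h2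

/-- **Theorem TV for connected families** -/
theorem false_of_conn (hj : jj V cf ≤ V) (hc : AllConn V cf z) {x t0 : G}
    (hx : x ∈ V) (hx1 : x ≠ 1) (hxz : x ≠ z) (ht0 : t0 ∈ pts V cf z) (ht0k : t0 ∈ kk V cf x) (ht0V : t0 ∉ V) :
    False := by
  have hz := h.z_mem
  have hz1 := h.z_ne
  obtain ⟨M, H, i1, i2, i3, i4, i5, i6, ⟨R⟩⟩ := h.toFam.exists_mrep
  obtain ⟨B, hB⟩ := h.exists_isB R
  have S := h.sys R hB
  obtain ⟨hK, hr, hall⟩ := h.core R hB hj hc hx hx1 hxz ht0 ht0k ht0V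
  have L := h.loc R hB hj
  have E : LocE T V z cf :=
    { toFam := h.toFam
      inter := hj
      two := h.cm_two
      one := h.one
      pt := by
        intro m hm hm1 hmz
        have h0 : R.pi m ≠ 0 := by
          intro e
          rcases (R.pi_ker m hm).mp e with e | e
          · exact hm1 e
          · exact hmz e
        obtain ⟨t, ht, e⟩ := hall _ h0
        rcases (R.pi_eq h.toFam (h.pt_mem ht) hm).mp e with e1 | e1
        · rw [← e1]; exact ht
        · have : m = z * t := by rw [e1, ← mul_assoc, h.ln.sq z hz, one_mul]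
          rw [this]; exact h.pt_z ht
      perp := by
        intro y hy hy1 hyz m hm hmy b hb
        have h1 : B (R.pi m) (R.pi y) = 0 := by
          rw [h.perp_iff R hB hy hy1 hyz (h.pt_mem hm), kk, mem_centralizer_iff]
          exact fun b hb => (hmy b hb).symm
        rw [S.symm] at h1
        exact (h.form_pt R hB hm (h.V_le hy)).mp h1 b hb
      gg := by
        intro y hy hy1 hyz c hc1 hd
        obtain ⟨g, hg, e, h'⟩ := h.point hy hy1
        obtain ⟨M', H', i1, i2, i3, i4, i5, i6, ⟨R'⟩⟩ := h'.toFam.exists_mrep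
        obtain ⟨B', hB'⟩ := h'.exists_isB R'
        have L' := h'.loc R' hB' hj
        obtain ⟨-, hr', -⟩ := h.core (trp h.toFam hg e R') (trp_isB h.toFam hg e R' hB') hj hc hx hx1 hxz ht0
          ht0k ht0V
        exact L.gg (h.act R hB) L' (h'.act R' hB') hr hr' hyz hK hc1 hd }
  exact E.false hx hx1 hxz (h.pt_mem ht0) ht0V fun b hb => (mem_centralizer_iff.mp ht0k b hb).symm

end Tvf

end Cfsg.Agent.Omega.NO3S.TV

end

section


/-!
# NO-3a.4, transvection types (helper311's text #16747): the connected subfamily (section 3)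

* `cmp TT B v` : the component of `v` in the graph 'not perpendicular' on `TT`;
* `stc R B v` : the stabiliser of the component; `cfc R B y` : the subfamily with `C' = R.pre (stc R B (R.pi y))` at `z`;
* `Tvf.sub` : `Tvf T V z (cfc R B y)`; `Tvf.sub_pts`, `Tvf.sub_ww`, `Tvf.sub_form`; `Tvf.sub_conn` : it is connected;
* `Tvf.exists_conn` : summary.
-/

set_option autoImplicit false
set_option linter.unusedSectionVars false

namespace Cfsg.Agent.Omega.NO3S.TV

open Subgroup Cfsg Cfsg.Agent.ZN Cfsg.Agent.MinSimple.Geo Cfsg.Agent.Omega.CaseL Cfsg.Agent.Omega.NO3S.Fit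
open Cfsg.Agent.ZN.Block (conj_mem_of_normalizer conj_mem_of_normalizer' le_normalizer_of_forall
  mem_normalizer_of)

universe u

/-! ### components -/

section cmp

variable {M : Type*} [AddCommGroup M] {X : Set M} {B : M → M → ZMod 2}

/-- the component of `v` -/
def cmp (X : Set M) (B : M → M → ZMod 2) (v : M) : Set M :=
  {u | ∀ S : Set M, v ∈ S → (∀ a ∈ S, ∀ b ∈ X, B a b = 1 → b ∈ S) → u ∈ S}

theorem self_mem_cmp (v : M) : v ∈ cmp X B v := fun _ h _ => h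

theorem cmp_step {v a b : M} (ha : a ∈ cmp X B v) (hb : b ∈ X) (h : B a b = 1) : b ∈ cmp X B v :=
  fun S h1 h2 => h2 a (ha S h1 h2) b hb h

theorem cmp_sub {v : M} (hv : v ∈ X) : cmp X B v ⊆ X := fun _ hu => hu X hv fun _ _ _ hb _ => hb

theorem cmp_trans {v u w : M} (hu : u ∈ cmp X B v) (hw : w ∈ cmp X B u) : w ∈ cmp X B v :=
  hw _ hu fun _ ha _ hb h => cmp_step ha hb h

theorem cmp_symm (hs : ∀ a b, B a b = B b a) {v u : M} (hv : v ∈ X) (hu : u ∈ cmp X B v) : v ∈ cmp X B u := by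
  have := hu {w | w ∈ X ∧ v ∈ cmp X B w} ⟨hv, self_mem_cmp v⟩ fun a ha b hb h =>
    ⟨hb, cmp_trans (cmp_step (self_mem_cmp b) ha.1 (by rw [hs]; exact h)) ha.2⟩
  exact this.2

theorem cmp_smul {H : Type*} [Group H] [DistribMulAction H M] (A : Act X B H) (x : H) {v u : M}
    (hu : u ∈ cmp X B v) : x • u ∈ cmp X B (x • v) := by
  refine hu {w | x • w ∈ cmp X B (x • v)} (self_mem_cmp _) fun a ha b hb h => ?_
  exact cmp_step ha (A.smul_mem x b hb) (by rw [A.form]; exact h)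

end cmp

variable {G : Type u} [Group G] {T V : Subgroup G} {z : G} {cf : G → Subgroup G}
variable {M H : Type u} [AddCommGroup M] [Group H] [DistribMulAction H M]

/-- the stabiliser of the component of `v` -/
def stc (X : Set M) (B : M → M → ZMod 2) (v : M) (hv : v ∈ X) (hs : ∀ a b, B a b = B b a) (A : Act X B H) :
    Subgroup H where
  carrier := {x | x • v ∈ cmp X B v}
  one_mem' := by
    change (1 : H) • v ∈ cmp X B v
    rw [one_smul]; exact self_mem_cmp v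
  mul_mem' := by
    intro a b ha hb
    change (a * b) • v ∈ cmp X B v
    rw [mul_smul]
    exact cmp_trans ha (cmp_smul A a hb)
  inv_mem' := by
    intro a ha
    change a⁻¹ • v ∈ cmp X B v
    have h1 := cmp_smul A a⁻¹ (cmp_symm hs hv ha)
    rw [inv_smul_smul] at h1
    exact h1

namespace Tvf

variable (h : Tvf T V z cf) [Finite G] (R : MRep V cf z M H) {B : M → M → ZMod 2} (hB : IsB R B)

/-- the stabiliser of the component of `y` -/
def st {y : G} (hy : y ∈ V) (hy1 : y ≠ 1) (hyz : y ≠ z) : Subgroup H :=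
  stc (TT R) B (R.pi y) (pi_mem_TT R (mem_pts hy hy1 hyz)) (h.sys R hB).symm (h.act R hB)

/-- the subfamily of the component of `y` -/
def cfc {y : G} (hy : y ∈ V) (hy1 : y ≠ 1) (hyz : y ≠ z) : G → Subgroup G :=
  subf V z (R.pre (h.st R hB hy hy1 hyz))

variable {y : G} (hy : y ∈ V) (hy1 : y ≠ 1) (hyz : y ≠ z)

theorem mem_st {x : H} : x ∈ h.st R hB hy hy1 hyz ↔ x • R.pi y ∈ cmp (TT R) B (R.pi y) := Iff.rfl

theorem le_pre_st : normalizer (V : Set G) ⊓ centralizer ({z} : Set G) ≤ R.pre (h.st R hB hy hy1 hyz) := by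
  refine R.le_pre h.toFam hy hy1 hyz fun x hx => ?_
  rw [h.mem_st, hx]
  exact self_mem_cmp _

theorem cfc_z : h.cfc R hB hy hy1 hyz z = R.pre (h.st R hB hy hy1 hyz) := subf_z (h.le_pre_st R hB hy hy1 hyz)

theorem sub_ww {w : G} : w ∈ ww V (h.cfc R hB hy hy1 hyz) z ↔
    w ∈ ww V cf z ∧ R.pi w ∈ AddSubgroup.closure (cmp (TT R) B (R.pi y)) := by
  have e : (Set.range fun x : h.st R hB hy hy1 hyz => (x : H) • R.pi y) = cmp (TT R) B (R.pi y) := by
    ext m
    constructor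
    · rintro ⟨x, rfl⟩; exact x.2
    · intro hm
      have hv := pi_mem_TT R (mem_pts (cf := cf) hy hy1 hyz)
      obtain ⟨x, rfl⟩ := h.TT_trans R hv (cmp_sub hv hm)
      exact ⟨⟨x, hm⟩, rfl⟩
  rw [ww, h.cfc_z, R.mem_wf_pre h.toFam hy hy1 hyz, e]

theorem sub_fam : Fam T V z (h.cfc R hB hy hy1 hyz) := by
  have S := h.sys R hB
  have hv := pi_mem_TT R (mem_pts (cf := cf) hy hy1 hyz)
  obtain ⟨_, ⟨t, ht, rfl⟩, ht1⟩ := S.exists_nd hv
  obtain ⟨w, hw, hwz⟩ := h.exists_not_qq hy hy1 h.z_mem h.z_ne (Ne.symm hyz)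
  have htW : t ∈ ww V (h.cfc R hB hy hy1 hyz) z := (h.sub_ww R hB hy hy1 hyz).mpr
    ⟨h.pt_mem ht, AddSubgroup.subset_closure (cmp_step (self_mem_cmp _) (pi_mem_TT R ht) ht1)⟩
  rw [ww, h.cfc_z] at htW
  have hty : B (R.pi t) (R.pi y) = 1 := by rw [S.symm]; exact ht1
  have htQ : t ∉ qq V cf y := by
    intro h1
    have := (h.form_qq R hy hy1 hyz (hB y hy hy1 hyz w hw hwz) (h.pt_mem ht)).mpr h1
    rw [hty] at this
    exact one_ne_zero this
  have hc := h.cm_eq h.z_mem h.z_ne hy hy1 hyz (h.pt_mem ht) htQ hw hwz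
  refine h.toFam.sub_of h.one (h.le_pre_st R hB hy hy1 hyz) (R.pre_le _) hy hy1 hyz ⟨t, htW, htQ⟩ ⟨t, htW, w, hw, ?_, ?_⟩
  · rw [hc]; exact h.mul_ne_one hy (Ne.symm hyz)
  · rw [hc]; exact fun e => hy1 (by simpa using e)

theorem cfc_le {p : G} (hp : p ∈ V) (hp1 : p ≠ 1) : h.cfc R hB hy hy1 hyz p ≤ cf p := by
  obtain ⟨g, hg, rfl⟩ := h.ln.trans p hp hp1
  rw [cfc, subf_eq (h.le_pre_st R hB hy hy1 hyz) hg, ← h.cj_cf g hg z h.z_mem h.z_ne]
  exact cj_mono (R.pre_le _)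

theorem sub_ww_le {p : G} (hp : p ∈ V) (hp1 : p ≠ 1) : ww V (h.cfc R hB hy hy1 hyz) p ≤ ww V cf p :=
  wf_mono (h.cfc_le R hB hy hy1 hyz hp hp1)

theorem sub_qq {p c : G} (hp : p ∈ V) (hp1 : p ≠ 1) (hc : c ∈ h.cfc R hB hy hy1 hyz p) (hq : c ∈ qq V cf p) :
    c ∈ qq V (h.cfc R hB hy hy1 hyz) p :=
  ⟨hc, hq.2.1, fun w hw => hq.2.2 w (h.sub_ww_le R hB hy hy1 hyz hp hp1 hw)⟩

/-- **the connected subfamily** is again a transvection family -/
theorem sub : Tvf T V z (h.cfc R hB hy hy1 hyz) where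
  toFam := h.sub_fam R hB hy hy1 hyz
  one := by
    intro p hp hp1 q hq hq1 hqp w hw w' hw' hwq hwq'
    have F := h.sub_fam R hB hy hy1 hyz
    have hwc := F.ww_le_cf' hp hp1 hq hq1 hw
    have hwc' := F.ww_le_cf' hp hp1 hq hq1 hw'
    refine h.sub_qq R hB hy hy1 hyz hq hq1 (mul_mem hwc hwc') ?_
    exact h.one p hp hp1 q hq hq1 hqp w (h.sub_ww_le R hB hy hy1 hyz hp hp1 hw) w'
      (h.sub_ww_le R hB hy hy1 hyz hp hp1 hw') (fun h1 => hwq (h.sub_qq R hB hy hy1 hyz hq hq1 hwc h1))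
      (fun h1 => hwq' (h.sub_qq R hB hy hy1 hyz hq hq1 hwc' h1))
  comm' := fun p hp hp1 q hq hq1 hqp a ha b hb => h.comm' p hp hp1 q hq hq1 hqp a
    (h.sub_ww_le R hB hy hy1 hyz hp hp1 ha) b (h.sub_ww_le R hB hy hy1 hyz hq hq1 hb)

theorem sub_pts {t : G} : t ∈ pts V (h.cfc R hB hy hy1 hyz) z ↔
    t ∈ pts V cf z ∧ R.pi t ∈ cmp (TT R) B (R.pi y) := by
  obtain ⟨w, hw, hwz⟩ := h.exists_not_qq hy hy1 h.z_mem h.z_ne (Ne.symm hyz)
  have key : ∀ y' ∈ V, y' ≠ 1 → y' ≠ z → R.pi y' = R.pi y := by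
    intro y' hy' hy1' hyz'
    obtain ⟨w', hw', hwz'⟩ := h.exists_not_qq hy' hy1' h.z_mem h.z_ne (Ne.symm hyz')
    exact (h.pi_phi_eq R hy hy1 hyz hw hwz hy' hy1' hyz' hw' hwz').1
  constructor
  · rintro ⟨y', hy', hy1', hyz', c, hc, rfl⟩
    rw [h.cfc_z] at hc
    obtain ⟨hc1, hc2⟩ := R.mem_pre.mp hc
    refine ⟨mem_pts_conj hy' hy1' hyz' hc1, ?_⟩
    rw [← R.act c hc1 y' (h.V_le hy'), key y' hy' hy1' hyz']
    exact hc2
  · rintro ⟨⟨y', hy', hy1', hyz', c, hc, rfl⟩, ht⟩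
    refine mem_pts_conj hy' hy1' hyz' ?_
    rw [h.cfc_z, R.mem_pre]
    refine ⟨hc, ?_⟩
    rw [← R.act c hc y' (h.V_le hy'), key y' hy' hy1' hyz'] at ht
    exact ht

theorem sub_wt_le {t : G} (ht : t ∈ pts V (h.cfc R hB hy hy1 hyz) z) :
    wt V (h.cfc R hB hy hy1 hyz) z t ≤ wt V cf z t := by
  have F := h.sub R hB hy hy1 hyz
  obtain ⟨y', hy', hy1', hyz', c, hc, e1, e2⟩ := F.wt_ex ht
  have hc' : c ∈ cf z := h.cfc_le R hB hy hy1 hyz h.z_mem h.z_ne hc
  rw [e2, e1, wt_conj h.toFam hy' hy1' hyz' hc']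
  exact cj_mono (h.sub_ww_le R hB hy hy1 hyz hy' hy1')

section form

variable {M' H' : Type u} [AddCommGroup M'] [Group H'] [DistribMulAction H' M']
  (R' : MRep V (h.cfc R hB hy hy1 hyz) z M' H') {B' : M' → M' → ZMod 2} (hB' : IsB R' B')
include hB'

/-- the form of the subfamily is the restriction -/
theorem sub_form_pt {a t : G} (ha : a ∈ ww V (h.cfc R hB hy hy1 hyz) z) (ht : t ∈ pts V (h.cfc R hB hy hy1 hyz) z) :
    B' (R'.pi a) (R'.pi t) = B (R.pi a) (R.pi t) := by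
  have F := h.sub R hB hy hy1 hyz
  have ht' := ((h.sub_pts R hB hy hy1 hyz).mp ht).1
  have ha' := h.sub_ww_le R hB hy hy1 hyz h.z_mem h.z_ne ha
  rcases z2 (B (R.pi a) (R.pi t)) with e | e
  · rw [e, F.form_pt R' hB' ht ha]
    exact fun b hb => (h.form_pt R hB ht' ha').mp e b (h.sub_wt_le R hB hy hy1 hyz ht hb)
  · rw [e]
    refine z2_ne fun e1 => ?_
    obtain ⟨b, hb, hbz⟩ := F.exists_wt ht
    have hbz' : b ∉ qq V cf z := fun h1 =>
      hbz (h.sub_qq R hB hy hy1 hyz h.z_mem h.z_ne (F.wt_le_cf ht hb) h1)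
    exact h.not_comm R hB ht' ha' (h.sub_wt_le R hB hy hy1 hyz ht hb) hbz' e ((F.form_pt R' hB' ht ha).mp e1 b hb)

/-- the subfamily is connected -/
theorem sub_conn : Conn (TT R') B' := by
  have F := h.sub R hB hy hy1 hyz
  have S := h.sys R hB
  intro D hD ⟨_, hd⟩ hcl
  obtain ⟨t0, ht0, e0⟩ := hD hd
  subst e0
  have hv := pi_mem_TT R (mem_pts (cf := cf) hy hy1 hyz)
  obtain ⟨ht0', ht0c⟩ := (h.sub_pts R hB hy hy1 hyz).mp ht0
  have hsub : cmp (TT R) B (R.pi t0) ⊆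
      {m | ∃ t ∈ pts V (h.cfc R hB hy hy1 hyz) z, R.pi t = m ∧ R'.pi t ∈ D} := by
    intro u hu
    refine hu {m | ∃ t ∈ pts V (h.cfc R hB hy hy1 hyz) z, R.pi t = m ∧ R'.pi t ∈ D} ⟨t0, ht0, rfl, hd⟩ ?_
    rintro _ ⟨t, ht, rfl, htD⟩ _ ⟨s, hs, rfl⟩ hts
    have hsc : s ∈ pts V (h.cfc R hB hy hy1 hyz) z := (h.sub_pts R hB hy hy1 hyz).mpr
      ⟨hs, cmp_step ((h.sub_pts R hB hy hy1 hyz).mp ht).2 (pi_mem_TT R hs) hts⟩
    refine ⟨s, hsc, rfl, hcl _ htD _ (pi_mem_TT R' hsc) ?_⟩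
    rw [h.sub_form_pt R hB hy hy1 hyz R' hB' (F.pt_mem ht) hsc]
    exact hts
  rintro _ ⟨t, ht, rfl⟩
  obtain ⟨ht', htc⟩ := (h.sub_pts R hB hy hy1 hyz).mp ht
  obtain ⟨s, hs, e, hsD⟩ := hsub (cmp_trans (cmp_symm S.symm hv ht0c) htc)
  have : R'.pi t = R'.pi s := by
    rw [R'.pi_eq F.toFam (F.pt_mem ht) (F.pt_mem hs)]
    rcases (R.pi_eq h.toFam (h.pt_mem ht') (h.pt_mem ((h.sub_pts R hB hy hy1 hyz).mp hs).1)).mp e.symm with e1 | e1
    · exact Or.inl e1
    · exact Or.inr e1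
  rw [this]
  exact hsD

end form

include h in
/-- **the connected subfamily**, summary -/
theorem exists_conn : ∃ cf' : G → Subgroup G, (∀ p ∈ V, p ≠ 1 → cf' p ≤ cf p) ∧ Tvf T V z cf' ∧
    ∀ (M H : Type u) [AddCommGroup M] [Group H] [DistribMulAction H M] (R : MRep V cf' z M H)
      (B : M → M → ZMod 2), IsB R B → Conn (TT R) B := by
  obtain ⟨y, hy, hy1, hyz⟩ := h.ln.exists_y
  obtain ⟨M, H, _, _, _, _, _, _, ⟨R⟩⟩ := h.exists_mrep
  obtain ⟨B, hB⟩ := h.exists_isB R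
  exact ⟨h.cfc R hB hy hy1 hyz, fun p hp hp1 => h.cfc_le R hB hy hy1 hyz hp hp1, h.sub R hB hy hy1 hyz,
    fun M' H' _ _ _ R' B' hB' => h.sub_conn R hB hy hy1 hyz R' hB'⟩

end Tvf

/-- `jj` is monotone -/
theorem jj_mono {cf' : G → Subgroup G} (hle : ∀ p ∈ V, p ≠ 1 → cf' p ≤ cf p) : jj V cf' ≤ jj V cf :=
  fun _ hu p hp hp1 => wf_mono (hle p hp hp1) (hu p hp hp1)

end Cfsg.Agent.Omega.NO3S.TV

end

section


/-!
# NO-3a.4, transvection types (helper311's text #16747): the outer end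

* `Sys.exists_abelian` : if `u ⟂ v`, `u` in the component of `v`, implies `u = v`, then `H` has an abelian normal
  subgroup which is centralised by no transvection `a_v`;
* `Tvf.exists_abelian_of` : the same for the full family, from a statement on the connected subfamily.
-/

set_option autoImplicit false
set_option linter.unusedSectionVars false

namespace Cfsg.Agent.Omega.NO3S.TV

open Subgroup Cfsg Cfsg.Agent.ZN Cfsg.Agent.MinSimple.Geo Cfsg.Agent.Omega.CaseL Cfsg.Agent.Omega.NO3S.Fit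
open Cfsg.Agent.ZN.Block (conj_mem_of_normalizer conj_mem_of_normalizer' le_normalizer_of_forall
  mem_normalizer_of)

universe u

namespace Sys

variable {M : Type*} [AddCommGroup M] {X : Set M} {B : M → M → ZMod 2} {H : Type*} [Group H]
  [DistribMulAction H M]

/-- `a` is the transvection with centre `v` -/
def IsTv (B : M → M → ZMod 2) (a : H) (v : M) : Prop :=
  ∀ m : M, (B m v = 0 → a • m = m) ∧ (B m v = 1 → a • m = m + v)

theorem isTv_unique [FaithfulSMul H M] {a b : H} {v : M} (ha : IsTv B a v) (hb : IsTv B b v) : a = b := by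
  refine FaithfulSMul.eq_of_smul_eq_smul (M := H) (α := M) fun m => ?_
  rcases z2 (B m v) with e | e
  · rw [(ha m).1 e, (hb m).1 e]
  · rw [(ha m).2 e, (hb m).2 e]

theorem isTv_conj (A : Act X B H) {a x : H} {v : M} (ha : IsTv B a v) : IsTv B (x * a * x⁻¹) (x • v) := by
  intro m
  have e : B (x⁻¹ • m) v = B m (x • v) := by
    rw [← A.form x (x⁻¹ • m) v, smul_inv_smul]
  constructor
  · intro h1
    rw [mul_smul, mul_smul, (ha _).1 (e.trans h1), smul_inv_smul]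
  · intro h1
    rw [mul_smul, mul_smul, (ha _).2 (e.trans h1), smul_add, smul_inv_smul]

theorem exists_abelian (S : Sys X B) (A : Act X B H) [FaithfulSMul H M]
    (hP : ∀ v ∈ X, ∀ u ∈ cmp X B v, B u v = 0 → u = v) :
    ∃ N : Subgroup H, N.Normal ∧ (∀ a ∈ N, ∀ b ∈ N, a * b = b * a) ∧
      ∀ v ∈ X, ∀ a : H, IsTv B a v → ∃ n ∈ N, a * n ≠ n * a := by
  classical
  choose! τ hτ using A.tv
  have hτ' : ∀ v ∈ X, IsTv B (τ v) v := hτ
  have h3 : ∀ u ∈ X, ∀ v ∈ X, ∀ w ∈ X, B u v = 1 → B v w = 1 → w = u ∨ w = u + v := by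
    intro u hu v hv w hw huv hvw
    have hvu : B v u = 1 := by rw [S.symm]; exact huv
    rcases z2 (B w u) with e | e
    · left
      exact hP u hu w (cmp_step (cmp_step (self_mem_cmp u) hv huv) hw hvw) e
    · right
      have e' : B u w = 1 := by rw [S.symm]; exact e
      have h1 : u + w ∈ X := S.refl u hu w hw e'
      have h2 : u + w ∈ cmp X B v := cmp_step (cmp_step (self_mem_cmp v) hu hvu) h1
        (by rw [S.add_right, S.alt, e', zero_add])
      have h4 : u + w = v := hP v hv _ h2 (by rw [S.add_left, huv, S.symm w v, hvw]; decide)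
      rw [← h4, S.add_cancel]
  have hsq : ∀ v ∈ X, τ v * τ v = 1 := by
    intro v hv
    refine FaithfulSMul.eq_of_smul_eq_smul (M := H) (α := M) fun m => ?_
    rw [one_smul, mul_smul]
    rcases z2 (B m v) with e | e
    · rw [(hτ v hv m).1 e, (hτ v hv m).1 e]
    · rw [(hτ v hv m).2 e, (hτ v hv _).2 (by rw [S.add_left, e, S.alt, add_zero]), S.add_cancel']
  -- `τ u` and `τ v` commute if `u ⟂ v`
  have hcomm : ∀ u ∈ X, ∀ v ∈ X, B u v = 0 → τ u * τ v = τ v * τ u := by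
    intro u hu v hv e
    have h1 := isTv_conj A (x := τ u) (hτ' v hv)
    have h2 : τ u • v = v := (hτ u hu v).1 (by rw [S.symm]; exact e)
    rw [h2] at h1
    exact mul_inv_eq_iff_eq_mul.mp (isTv_unique h1 (hτ' v hv))
  -- `τ (u + v) = τ u τ v τ u`
  have hadd : ∀ u ∈ X, ∀ v ∈ X, B u v = 1 → τ (u + v) = τ u * τ v * τ u := by
    intro u hu v hv e
    have h1 := isTv_conj A (x := τ u) (hτ' v hv)
    have h2 : τ u • v = u + v := by
      rw [(hτ u hu v).2 (by rw [S.symm]; exact e), add_comm]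
    rw [h2] at h1
    have h4 : (τ u)⁻¹ = τ u := inv_eq_of_mul_eq_one_left (hsq u hu)
    rw [h4] at h1
    exact isTv_unique (hτ' _ (S.refl u hu v hv e)) h1
  -- neighbours
  have hstep : ∀ u ∈ X, ∀ v ∈ X, ∀ w ∈ X, B u v = 1 → B v w = 1 →
      τ v * τ w = τ u * τ v ∨ τ v * τ w = τ v * τ u := by
    intro u hu v hv w hw huv hvw
    rcases h3 u hu v hv w hw huv hvw with e | e
    · right; rw [e]
    · left
      have hvu : B v u = 1 := by rw [S.symm]; exact huv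
      rw [e, add_comm, hadd v hv u hu hvu]
      calc τ v * (τ v * τ u * τ v) = (τ v * τ v) * (τ u * τ v) := by group
        _ = τ u * τ v := by rw [hsq v hv, one_mul]
  have hinv : ∀ u ∈ X, ∀ v ∈ X, (τ u * τ v)⁻¹ = τ v * τ u := by
    intro u hu v hv
    rw [mul_inv_rev, inv_eq_of_mul_eq_one_left (hsq u hu), inv_eq_of_mul_eq_one_left (hsq v hv)]
  -- the generators of one component
  have hpar : ∀ u ∈ X, ∀ v ∈ X, ∀ w ∈ X, B u v = 1 → B v w = 1 →
      τ v * τ w = τ u * τ v ∨ τ v * τ w = (τ u * τ v)⁻¹ := by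
    intro u hu v hv w hw huv hvw
    rcases hstep u hu v hv w hw huv hvw with e | e
    · exact Or.inl e
    · right; rw [e, hinv u hu v hv]
  have hsame : ∀ u ∈ X, ∀ v ∈ X, ∀ u' ∈ X, ∀ v' ∈ X, B u v = 1 → B u' v' = 1 → B u u' = 1 →
      τ u' * τ v' = τ u * τ v ∨ τ u' * τ v' = (τ u * τ v)⁻¹ := by
    intro u hu v hv u' hu' v' hv' huv huv' huu
    have h1 := hpar v hv u hu u' hu' (by rw [S.symm]; exact huv) huu
    have h2 := hpar u hu u' hu' v' hv' huu huv'
    have h4 := hinv u hu v hv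
    rcases h1 with e1 | e1 <;> rcases h2 with e2 | e2
    · right; rw [e2, e1, h4]
    · left; rw [e2, e1, ← h4, inv_inv]
    · left; rw [e2, e1, ← h4, inv_inv]
    · right; rw [e2, e1, ← h4, inv_inv]
  -- generators commute
  have hgc : ∀ u ∈ X, ∀ v ∈ X, ∀ u' ∈ X, ∀ v' ∈ X, B u v = 1 → B u' v' = 1 →
      (τ u * τ v) * (τ u' * τ v') = (τ u' * τ v') * (τ u * τ v) := by
    intro u hu v hv u' hu' v' hv' huv huv'
    have key : ∀ g k : H, (k = g ∨ k = g⁻¹) → g * k = k * g := by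
      rintro g k (rfl | rfl)
      · rfl
      · rw [mul_inv_cancel, inv_mul_cancel]
    have huvs : B v u = 1 := by rw [S.symm]; exact huv
    have huvs' : B v' u' = 1 := by rw [S.symm]; exact huv'
    have i1 := hinv u hu v hv
    have i2 := hinv u' hu' v' hv'
    rcases z2 (B u u') with e1 | e1
    · rcases z2 (B u v') with e2 | e2
      · rcases z2 (B v u') with e3 | e3
        · rcases z2 (B v v') with e4 | e4
          · have c1 := hcomm u hu u' hu' e1
            have c2 := hcomm u hu v' hv' e2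
            have c3 := hcomm v hv u' hu' e3
            have c4 := hcomm v hv v' hv' e4
            calc (τ u * τ v) * (τ u' * τ v') = τ u * (τ v * τ u') * τ v' := by group
              _ = τ u * (τ u' * τ v) * τ v' := by rw [c3]
              _ = (τ u * τ u') * (τ v * τ v') := by group
              _ = (τ u' * τ u) * (τ v' * τ v) := by rw [c1, c4]
              _ = τ u' * (τ u * τ v') * τ v := by group
              _ = τ u' * (τ v' * τ u) * τ v := by rw [c2]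
              _ = (τ u' * τ v') * (τ u * τ v) := by group
          · apply key
            rcases hsame v hv u hu v' hv' u' hu' huvs huvs' e4 with e | e
            · left; rw [← i1, ← i2] at e; exact inv_injective e
            · right; rw [← i1, ← i2] at e; exact inv_injective e
        · apply key
          rcases hsame v hv u hu u' hu' v' hv' huvs huv' e3 with e | e
          · right; rw [e, i1]
          · left; rw [e, ← i1, inv_inv]
      · apply key
        rcases hsame u hu v hv v' hv' u' hu' huv huvs' e2 with e | e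
        · right; rw [← i2] at e; rw [← e, inv_inv]
        · left; rw [← i2] at e; exact inv_injective e
    · exact key _ _ (hsame u hu v hv u' hu' v' hv' huv huv' e1)
  let Y : Set H := {g | ∃ u ∈ X, ∃ v ∈ X, B u v = 1 ∧ g = τ u * τ v}
  refine ⟨closure Y, ?_, ?_, ?_⟩
  · refine ⟨fun n hn x => ?_⟩
    have key : closure Y ≤ (closure Y).comap (MulAut.conj x).toMonoidHom := by
      rw [closure_le]
      rintro _ ⟨u, hu, v, hv, huv, rfl⟩
      change x * (τ u * τ v) * x⁻¹ ∈ closure Y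
      have hu' := A.smul_mem x u hu
      have hv' := A.smul_mem x v hv
      have e1 := isTv_unique (isTv_conj A (x := x) (hτ' u hu)) (hτ' _ hu')
      have e2 := isTv_unique (isTv_conj A (x := x) (hτ' v hv)) (hτ' _ hv')
      refine subset_closure ⟨x • u, hu', x • v, hv', by rw [A.form]; exact huv, ?_⟩
      rw [← e1, ← e2]; group
    exact key hn
  · have h5 : closure Y ≤ centralizer (closure Y : Set H) := by
      have h6 : closure Y ≤ centralizer Y := by
        rw [closure_le]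
        rintro _ ⟨u, hu, v, hv, huv, rfl⟩
        rw [SetLike.mem_coe, mem_centralizer_iff]
        rintro _ ⟨u', hu', v', hv', huv', rfl⟩
        exact (hgc u hu v hv u' hu' v' hv' huv huv').symm
      rw [centralizer_closure]
      exact h6
    intro a ha b hb
    exact (mem_centralizer_iff.mp (h5 ha) b hb).symm
  · intro v hv a ha
    obtain ⟨u, hu, hvu⟩ := S.exists_nd hv
    refine ⟨τ v * τ u, subset_closure ⟨v, hv, u, hu, hvu, rfl⟩, fun e => ?_⟩
    rw [isTv_unique ha (hτ' v hv)] at e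
    -- `τ v` commutes with `τ u`
    have h7 : τ u = τ v * τ u * τ v := by
      calc τ u = (τ v * τ v) * τ u := by rw [hsq v hv, one_mul]
        _ = τ v * (τ v * τ u) := by group
        _ = τ v * τ u * τ v := e
    have e1 : τ v * τ u = τ u * τ v := by
      calc τ v * τ u = τ v * (τ v * τ u * τ v) := by rw [← h7]
        _ = (τ v * τ v) * τ u * τ v := by group
        _ = τ u * τ v := by rw [hsq v hv, one_mul]
    have e2 := congrArg (fun g : H => g • v) e1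
    simp only [mul_smul] at e2
    have huv : B u v = 1 := by rw [S.symm]; exact hvu
    rw [(hτ u hu v).2 hvu, (hτ v hv v).1 (S.alt v), (hτ u hu v).2 hvu, smul_add, (hτ v hv v).1 (S.alt v),
      (hτ v hv u).2 huv] at e2
    have e3 : u + v = u := add_left_cancel e2
    exact S.ne_zero hv (by simpa using e3)

end Sys

namespace Tvf

variable {G : Type u} [Group G] {T V : Subgroup G} {z : G} {cf : G → Subgroup G}

/-- **the outer end**: if the connected subfamilies have `TT' ∩ v0^⊥ = {v0}`, then `H` has an abelian normal subgroup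
which is not centralised by `A` -/
theorem exists_abelian_of (h : Tvf T V z cf) [Finite G] {M H : Type u} [AddCommGroup M] [Group H]
    [DistribMulAction H M] [FaithfulSMul H M] (R : MRep V cf z M H) {y : G} (hy : y ∈ V) (hy1 : y ≠ 1) (hyz : y ≠ z)
    (hM : ∀ cf' : G → Subgroup G, Tvf T V z cf' → (∀ p ∈ V, p ≠ 1 → cf' p ≤ cf p) →
      ∀ (M' H' : Type u) [AddCommGroup M'] [Group H'] [DistribMulAction H' M'] [FaithfulSMul H' M']
        (R' : MRep V cf' z M' H') (B' : M' → M' → ZMod 2), IsB R' B' → Conn (TT R') B' →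
        ∀ t ∈ pts V cf' z, B' (R'.pi t) (R'.pi y) = 0 → R'.pi t = R'.pi y) :
    ∃ N : Subgroup H, N.Normal ∧ (∀ a ∈ N, ∀ b ∈ N, a * b = b * a) ∧
      ∀ w ∈ ww V cf y, w ∉ qq V cf z → ∃ n ∈ N, R.phi w * n ≠ n * R.phi w := by
  obtain ⟨B, hB⟩ := h.exists_isB R
  have S := h.sys R hB
  have A := h.act R hB
  have hyp := mem_pts (cf := cf) hy hy1 hyz
  have hv := pi_mem_TT R hyp
  have F := h.sub R hB hy hy1 hyz
  -- the component of `v0`
  have h0 : ∀ u ∈ cmp (TT R) B (R.pi y), B u (R.pi y) = 0 → u = R.pi y := by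
    intro u hu hu0
    obtain ⟨t, ht, rfl⟩ := cmp_sub hv hu
    obtain ⟨M', H', _, _, _, _, _, _, ⟨R'⟩⟩ := F.exists_mrep
    obtain ⟨B', hB'⟩ := F.exists_isB R'
    have ht' := (h.sub_pts R hB hy hy1 hyz).mpr ⟨ht, hu⟩
    have hy' : y ∈ pts V (h.cfc R hB hy hy1 hyz) z := mem_pts hy hy1 hyz
    have e := h.sub_form_pt R hB hy hy1 hyz R' hB' (F.pt_mem ht') hy'
    have e1 := hM _ F (fun p hp hp1 => h.cfc_le R hB hy hy1 hyz hp hp1) M' H' R' B' hB'
      (h.sub_conn R hB hy hy1 hyz R' hB') t ht' (e.trans hu0)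
    rw [R'.pi_eq F.toFam (F.pt_mem ht') (F.pt_mem hy')] at e1
    exact (R.pi_eq h.toFam (h.pt_mem ht) (h.pt_mem hyp)).mpr e1
  have hP : ∀ v ∈ TT R, ∀ u ∈ cmp (TT R) B v, B u v = 0 → u = v := by
    intro v hvv u hu hu0
    obtain ⟨x, hx⟩ := h.TT_trans R hvv hv
    have h1 := cmp_smul A x hu
    rw [hx] at h1
    have h2 : B (x • u) (R.pi y) = 0 := by rw [← hx, A.form]; exact hu0
    have h3 := h0 _ h1 h2
    rw [← hx] at h3
    exact smul_left_cancel x h3
  obtain ⟨N, hN, hN1, hN2⟩ := S.exists_abelian A hP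
  refine ⟨N, hN, hN1, fun w hw hwz => hN2 _ hv _ ?_⟩
  have hwt : w ∈ wt V cf z y := by rw [wt_eq h.toFam hy hy1 hyz]; exact hw
  exact fun m => h.phi_wt R hB hyp hwt hwz m

end Tvf

end Cfsg.Agent.Omega.NO3S.TV

end

end

-- merged: Cfsg.Agent.Mrg.Omega.NO3S.TV.Final
section

section


/-!
# NO-3S, `q = 2`, `n = 1`: THEOREM TV (helper311's text #16747), the assembly (helper918)

* `allConn_of_conn` : the graph is connected for every module if it is so for one;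
* `Tvf.exists_abelian_full` : for a full transvection family `H` has an abelian normal subgroup which is not
  centralized by the image of any `w ∈ W_y - Q_z`;
* `tvf_of_tv` : `Fam`, `k = 1`, some `w ∈ W_y - Q_z` acts as a transvection with centre `y` ⟹ `Tvf`;
* `tv_false` : **THEOREM TV**: impossible if `A` centralizes every nilpotent normal subgroup of `H`.
-/

set_option autoImplicit false
set_option linter.unusedSectionVars false

namespace Cfsg.Agent.Omega.NO3S.TV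

open Subgroup Cfsg Cfsg.Agent.ZN Cfsg.Agent.MinSimple.Geo Cfsg.Agent.Omega.CaseL Cfsg.Agent.Omega.NO3S.Fit
open Cfsg.Agent.ZN.Block (conj_mem_of_normalizer conj_mem_of_normalizer' le_normalizer_of_forall
  mem_normalizer_of)

universe u

variable {G : Type u} [Group G] {T V : Subgroup G} {z : G} {cf : G → Subgroup G}
variable {M H : Type u} [AddCommGroup M] [Group H] [DistribMulAction H M] {B : M → M → ZMod 2}

theorem allConn_of_conn [Finite G] (h : Tvf T V z cf) (R : MRep V cf z M H) (hB : IsB R B) (hc : Conn (TT R) B) :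
    AllConn V cf z := by
  intro M2 H2 _ _ _ R2 B2 hB2 S2 hS2 hne hcl
  let S1 : Set M := {m | ∃ t ∈ pts V cf z, R.pi t = m ∧ R2.pi t ∈ S2}
  have hsub : S1 ⊆ TT R := by
    rintro m ⟨t, ht, rfl, -⟩
    exact Tvf.pi_mem_TT R ht
  have hall : TT R ⊆ S1 := by
    refine hc S1 hsub ?_ ?_
    · obtain ⟨m, hm⟩ := hne
      obtain ⟨t, ht, rfl⟩ := hS2 hm
      exact ⟨R.pi t, t, ht, rfl, hm⟩
    · rintro _ ⟨t, ht, rfl, htS⟩ _ ⟨t', ht', rfl⟩ h1
      refine ⟨t', ht', rfl, hcl _ htS _ (Tvf.pi_mem_TT R2 ht') ?_⟩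
      refine z2_ne fun h2 => ?_
      rw [h.form_pt R2 hB2 ht' (h.pt_mem ht), ← h.form_pt R hB ht' (h.pt_mem ht)] at h2
      rw [h2] at h1
      exact zero_ne_one h1
  rintro _ ⟨t, ht, rfl⟩
  obtain ⟨t', ht', e, hS⟩ := hall (Tvf.pi_mem_TT R ht)
  have e2 : R2.pi t = R2.pi t' := by
    rw [R2.pi_eq h.toFam (h.pt_mem ht) (h.pt_mem ht'), ← R.pi_eq h.toFam (h.pt_mem ht) (h.pt_mem ht'), e]
  rw [e2]
  exact hS

namespace Tvf

/-- the points of `V` are the only ones perpendicular to `y` in a connected family -/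
theorem perp_unique [Finite G] (h : Tvf T V z cf) (hj : jj V cf ≤ V) (R : MRep V cf z M H) (hB : IsB R B)
    (hc : Conn (TT R) B) {y t : G} (hy : y ∈ V) (hy1 : y ≠ 1) (hyz : y ≠ z) (ht : t ∈ pts V cf z)
    (h0 : B (R.pi t) (R.pi y) = 0) : R.pi t = R.pi y := by
  have htk : t ∈ kk V cf y := (h.perp_iff R hB hy hy1 hyz (h.pt_mem ht)).mp h0
  by_contra hne
  have htV : t ∉ V := by
    intro htV
    apply hne
    rcases h.ln.four h.z_mem hy h.z_ne hy1 (Ne.symm hyz) htV with e | e | e | e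
    · exact absurd e (h.pt_ne ht)
    · exact absurd e (h.pt_nz ht)
    · rw [e]
    · rw [e]; exact h.pi_zmul R (h.V_le hy)
  exact h.false_of_conn hj (allConn_of_conn h R hB hc) hy hy1 hyz ht htk htV

/-- **THEOREM TV**, first form -/
theorem exists_abelian_full [Finite G] [Finite M] [Finite H] [FaithfulSMul H M] (h : Tvf T V z cf)
    (full : ∀ p ∈ V, p ≠ 1 → centralizer ({p} : Set G) ≤ cf p) (R : MRep V cf z M H)
    {y : G} (hy : y ∈ V) (hy1 : y ≠ 1) (hyz : y ≠ z) :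
    ∃ N : Subgroup H, N.Normal ∧ (∀ a ∈ N, ∀ b ∈ N, a * b = b * a) ∧
      ∀ w ∈ ww V cf y, w ∉ qq V cf z → ∃ n ∈ N, R.phi w * n ≠ n * R.phi w := by
  obtain ⟨B, hB⟩ := h.exists_isB R
  have hj : jj V cf ≤ V := by
    have e := h.TT_eq R hy hy1 hyz
    have S := h.sys R hB
    have I := h.inj R hB
    have A := h.act R hB
    rw [e] at S I A
    refine jj_le_V h.toFam full R hy hy1 hyz h.cm_two S I A ?_
    intro w hw hwy
    rw [h.perp_iff R hB hy hy1 hyz hw, kk, mem_centralizer_iff]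
    exact fun b hb => (hwy b hb).symm
  refine h.exists_abelian_of R hy hy1 hyz ?_
  intro cf' h' hle M' H' _ _ _ _ R' B' hB' hc' t ht h0
  exact h'.perp_unique ((jj_mono hle).trans hj) R' hB' hc' hy hy1 hyz ht h0

end Tvf

/-- `k = 1` and a transvection ⟹ `Tvf` -/
theorem tvf_of_tv [Finite G] (h : Fam T V z cf) (hk : Fam.One1 V cf) (R : MRep V cf z M H) {y w0 : G} (hy : y ∈ V)
    (hy1 : y ≠ 1) (hyz : y ≠ z) (hw0 : w0 ∈ ww V cf y) (hw0z : w0 ∉ qq V cf z)
    (htv : ∀ m : M, R.phi w0 • m = m ∨ R.phi w0 • m = m + R.pi y) : Tvf T V z cf where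
  toFam := h
  one := hk
  comm' := by
    have hz := h.ln.z_mem
    have hz1 := h.ln.z_ne
    have key : ∀ a ∈ ww V cf z, ∀ b ∈ ww V cf y, a * b * a⁻¹ * b⁻¹ ∈ V := by
      intro a ha b hb
      have hbc := h.ww_le_cf' hy hy1 hz hz1 hb
      have hw0c := h.ww_le_cf' hy hy1 hz hz1 hw0
      have e : a * b * a⁻¹ * b⁻¹ = (b * a * b⁻¹ * a⁻¹)⁻¹ := by group
      rw [e]
      apply inv_mem
      have hba : b * a * b⁻¹ ∈ ww V cf z := conj_mem_wf hbc ha
      by_cases hbz : b ∈ qq V cf z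
      · rcases h.qq_cases hz hbz ha with e1 | e1
        · rw [e1, mul_inv_cancel]; exact one_mem _
        · rw [e1, mul_inv_cancel_right]; exact hz
      · have h1 : R.phi b = R.phi w0 := by
          have h2 := hk y hy hy1 z hz hz1 (Ne.symm hyz) b hb w0 hw0 hbz hw0z
          have h3 : R.phi (b * w0) = 1 := (R.phi_ker _ (mul_mem hbc hw0c)).mpr h2
          rw [R.phi_mul b hbc w0 hw0c] at h3
          have h4 : R.phi w0 * R.phi w0 = 1 := R.sq_A h hy hy1 hw0
          calc R.phi b = R.phi b * (R.phi w0 * R.phi w0) := by rw [h4, mul_one]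
            _ = R.phi b * R.phi w0 * R.phi w0 := by rw [mul_assoc]
            _ = R.phi w0 := by rw [h3, one_mul]
        have h5 : R.phi b • R.pi a = R.pi (b * a * b⁻¹) := R.act b hbc a ha
        rw [h1] at h5
        rcases htv (R.pi a) with h6 | h6
        · rw [h6] at h5
          rcases (R.pi_eq h hba ha).mp h5.symm with e1 | e1
          · rw [e1, mul_inv_cancel]; exact one_mem _
          · rw [e1, mul_inv_cancel_right]; exact hz
        · rw [h6] at h5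
          have hya : y * a ∈ ww V cf z := mul_mem (h.V_le hy) ha
          have h7 : R.pi (b * a * b⁻¹) = R.pi (y * a) := by
            rw [← h5, R.pi_mul y (h.V_le hy) a ha, add_comm]
          rcases (R.pi_eq h hba hya).mp h7 with e1 | e1
          · rw [e1, mul_inv_cancel_right]; exact hy
          · have : b * a * b⁻¹ * a⁻¹ = z * y := by rw [e1]; group
            rw [this]; exact mul_mem hz hy
    intro p hp hp1 q hq hq1 hqp a ha b hb
    obtain ⟨g, hg, e1, e2⟩ := h.trans2 hp hp1 hq hq1 hqp hz hz1 hy hy1 hyz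
    have h1 := h.conj_ww hg hp hp1 ha
    have h2 := h.conj_ww hg hq hq1 hb
    rw [e1] at h1
    rw [e2] at h2
    have h3 := h.conj_pt' hg (key _ h1 _ h2)
    have e3 : g⁻¹ * (g * a * g⁻¹ * (g * b * g⁻¹) * (g * a * g⁻¹)⁻¹ * (g * b * g⁻¹)⁻¹) * g = a * b * a⁻¹ * b⁻¹ := by
      group
    rwa [e3] at h3

open Cfsg.Agent.Omega.NO3S.TwoOne in
/-- **THEOREM TV**: if `A = ⟨a⟩` centralizes the nilpotent normal subgroups of `H`, then `a` is not a transvection
with centre `v0`. -/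
theorem tv_false [Finite G] [Finite M] [Finite H] [FaithfulSMul H M] (h : Fam T V z cg) (hk : Fam.One1 V cg)
    (R : MRep V cg z M H) (hcen : CenFit R) {y w0 : G} (hy : y ∈ V) (hy1 : y ≠ 1) (hyz : y ≠ z)
    (hw0 : w0 ∈ ww V cg y) (hw0z : w0 ∉ qq V cg z)
    (htv : ∀ m : M, R.phi w0 • m = m ∨ R.phi w0 • m = m + R.pi y) : False := by
  have hT := tvf_of_tv h hk R hy hy1 hyz hw0 hw0z htv
  obtain ⟨N, hN, hab, hne⟩ := hT.exists_abelian_full (fun p _ _ => le_rfl) R hy hy1 hyz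
  obtain ⟨n, hn, hne⟩ := hne w0 hw0 hw0z
  apply hne
  have hcomm : ∀ a b : N, a * b = b * a := fun a b => Subtype.ext (hab a a.2 b b.2)
  have hnil : Group.IsNilpotent N := by
    let _ : CommGroup N := { (inferInstance : Group N) with mul_comm := hcomm }
    exact CommGroup.isNilpotent
  have h1 := hcen N hN hnil y hy hy1 hyz
  have hwc := h.ww_le_cf' hy hy1 h.ln.z_mem h.ln.z_ne
  have h2 : R.phi w0 ∈ R.img (ww V cg y) := (R.mem_img (fun w hw => hwc hw)).mpr ⟨w0, hw0, rfl⟩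
  exact (mem_centralizer_iff.mp (h1 h2) n hn).symm

end Cfsg.Agent.Omega.NO3S.TV

end

section


/-!
# NO-3a.4, transvection types (helper311's text #16747): the end for `CompP`

* `tvf_of_one` : the full family is a transvection family;
* `false_of_cenFit` : `A` centralises all nilpotent normal subgroups of `H` ⟹ contradiction, from the family statement.
-/

set_option autoImplicit false
set_option linter.unusedSectionVars false

namespace Cfsg.Agent.Omega.NO3S.TV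

open Subgroup Cfsg Cfsg.Agent.ZN Cfsg.Agent.MinSimple.Geo Cfsg.Agent.Omega.CaseL Cfsg.Agent.Omega.NO3S.Fit
open Cfsg.Agent.Omega.NO3S.TwoOne (One cg CenFit)

universe u

variable {G : Type u} [Group G] {T V : Subgroup G} {z : G}

/-- the full family of a flag of transvection type -/
theorem tvf_of_one [Finite G] (ho : One T V z) (h1 : Fam.One1 V cg)
    (h2 : ∀ p ∈ V, p ≠ 1 → ∀ q ∈ V, q ≠ 1 → q ≠ p → ∀ a ∈ ww V cg p, ∀ b ∈ ww V cg q, a * b * a⁻¹ * b⁻¹ ∈ V) :
    Tvf T V z cg :=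
  ⟨ho.fam, h1, h2⟩

/-- an abelian group is nilpotent -/
theorem isNilpotent_of_comm {H : Type*} [Group H] {N : Subgroup H} (h : ∀ a ∈ N, ∀ b ∈ N, a * b = b * a) :
    Group.IsNilpotent N := by
  letI : CommGroup N := { (inferInstance : Group N) with
    mul_comm := fun a b => Subtype.ext (h a a.2 b b.2) }
  exact CommGroup.isNilpotent

/-- **the transvection types are impossible in `CompP`**, from the family statement -/
theorem false_of_cenFit [Finite G] (h : Tvf T V z cg) {M H : Type u} [AddCommGroup M] [Group H]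
    [DistribMulAction H M] [FaithfulSMul H M] (R : MRep V cg z M H) (hc : CenFit R) {y : G} (hy : y ∈ V)
    (hy1 : y ≠ 1) (hyz : y ≠ z)
    (hM : ∀ cf' : G → Subgroup G, Tvf T V z cf' → (∀ p ∈ V, p ≠ 1 → cf' p ≤ cg p) →
      ∀ (M' H' : Type u) [AddCommGroup M'] [Group H'] [DistribMulAction H' M'] [FaithfulSMul H' M']
        (R' : MRep V cf' z M' H') (B' : M' → M' → ZMod 2), IsB R' B' → Conn (TT R') B' →
        ∀ t ∈ pts V cf' z, B' (R'.pi t) (R'.pi y) = 0 → R'.pi t = R'.pi y) : False := by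
  obtain ⟨N, hN, hN1, hN2⟩ := h.exists_abelian_of R hy hy1 hyz hM
  obtain ⟨w, hw, hwz⟩ := h.exists_not_qq hy hy1 h.z_mem h.z_ne (Ne.symm hyz)
  obtain ⟨n, hn, hne⟩ := hN2 w hw hwz
  have hle : ww V cg y ≤ cg z := h.ww_le_cf' hy hy1 h.z_mem h.z_ne
  have h1 : R.phi w ∈ R.img (ww V cg y) := (R.mem_img hle).mpr ⟨w, hw, rfl⟩
  exact hne (mem_centralizer_iff.mp (hc N hN (isNilpotent_of_comm hN1) y hy hy1 hyz h1) n hn).symm

end Cfsg.Agent.Omega.NO3S.TV

end

end

-- merged: Cfsg.Agent.Mrg.Omega.NO3S.TwoOne.TvOne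
section

/-!
# NO-3S, `CompP`: the case `k = 1`, transvections (plug of THEOREM TV, helper311 #16747)

* `tvOneP : TvOneP K`.
-/

set_option autoImplicit false

namespace Cfsg.Agent.Omega.NO3S.TwoOne

open Subgroup Cfsg Cfsg.Agent.Omega.MinPar Cfsg.Agent.Omega.Frame Cfsg.Agent.Omega.FrameNOFF
open Cfsg.Agent.ZN (zl zc o2)
open Cfsg.Agent.MinSimple.Geo (ws kq)
open Cfsg.Agent.Omega.NO3S.Fit Cfsg.Agent.Omega.NO3S.TV
open scoped commutatorElement

universe u

variable {G : Type u} [Group G] {T V : Subgroup G} {z : G}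

/-- `k = 1` in the language of families -/
theorem One.one1 [Finite G] (h : One T V z) (hk : KOne V) : Fam.One1 V cg := by
  have hz := h.ln.z_mem
  have hz1 := h.ln.z_ne
  obtain ⟨y, hy, hy1, hyz⟩ := h.ln.exists_y
  refine Fam.one1_of h.fam hy hy1 hz hz1 (Ne.symm hyz) ?_
  intro w hw w' hw' hwq hwq'
  rw [h.ww_cg hy hy1] at hw hw'
  rw [h.qq_cg] at hwq hwq' ⊢
  have hi := hk y hy hy1
  have e : ∀ x ∈ ws V y, (x ∈ kq V z ↔ x ∈ ee V y) := by
    intro x hx
    exact ⟨fun hh => h.mem_ee hy hy1 hz hz1 (Ne.symm hyz) hx hh, fun hh => ee_le_kq y hz hz1 hh⟩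
  refine (e _ (mul_mem hw hw')).mpr ?_
  rw [e _ hw] at hwq
  rw [e _ hw'] at hwq'
  obtain ⟨a, ha, hx⟩ := (Subgroup.relIndex_eq_two_iff).mp hi
  have h1 : w * a ∈ ee V y := by
    rcases hx w hw with hh | hh
    · exact hh.1
    · exact absurd hh.1 hwq
  have h2 : w'⁻¹ * a ∈ ee V y := by
    rcases hx w'⁻¹ (inv_mem hw') with hh | hh
    · exact hh.1
    · exact absurd (inv_mem hh.1) (by rwa [inv_inv])
  have h3 := mul_mem h1 (inv_mem h2)
  have e3 : w * a * (w'⁻¹ * a)⁻¹ = w * w' := by group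
  rwa [e3] at h3

variable {K : Cls.{u}}

theorem tvOneP : TvOneP K := by
  intro G _ _ hK S P h z ho hC M H _ _ _ _ _ _ R hcen
  exfalso
  obtain ⟨y, hy, hy1, hyz⟩ := ho.ln.exists_y
  have hT : Tvf (S : Subgroup G) (zl (S : Subgroup G) P) z cg := by
    refine tvf_of_one ho (ho.one1 hC.1) ?_
    intro p hp hp1 q hq hq1 hqp a ha b hb
    rw [ho.ww_cg hp hp1] at ha
    rw [ho.ww_cg hq hq1] at hb
    exact hC.2 p hp hp1 q hq hq1 a ha b hb
  obtain ⟨N, hN, hab, hne⟩ := hT.exists_abelian_full (fun p _ _ => le_rfl) R hy hy1 hyz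
  obtain ⟨w, hw, hwz⟩ := hT.exists_not_qq hy hy1 hT.ln.z_mem hT.ln.z_ne (Ne.symm hyz)
  obtain ⟨n, hn, hne⟩ := hne w hw hwz
  have hle : ww (zl (S : Subgroup G) P) cg y ≤ cg z := hT.ww_le_cf' hy hy1 hT.ln.z_mem hT.ln.z_ne
  have h1 : R.phi w ∈ R.img (ww (zl (S : Subgroup G) P) cg y) := (R.mem_img hle).mpr ⟨w, hw, rfl⟩
  exact hne (mem_centralizer_iff.mp (hcen N hN (isNilpotent_of_comm hab) y hy hy1 hyz h1) n hn).symm

end Cfsg.Agent.Omega.NO3S.TwoOne

end
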